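import Cfsg.Agent.Mrg.Omega.NO3b.UMethod
import Cfsg.Agent.ZN.Block
import Cfsg.Agent.Mrg.Omega.TwoFFour.Syl
import Cfsg.Agent.Mrg.Omega.IId.SymHalf

section


/-!
# The QUARTER LEMMA (project OMEGA, II.d L4; text helper839 #14703 A (2), referee helper430 #15323)

`w : Wr S P M₁ M₂`, `n = M₁.e nn` nonsingular in `V₁`: `V₂ ≤ O₂(C_G(n)) ≤ C_G(V₂)`
(`Wr.quarter`, `Wr.quarter_cent`), no Sylow condition on `C_S(n)`.
-/

set_option autoImplicit false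
set_option linter.unusedSectionVars false

namespace Cfsg.Agent.Omega.IId.LFour

open Subgroup Pointwise Cfsg Cfsg.Agent.ZN Cfsg.Agent.Omega.MinPar Cfsg.Agent.Omega.FFThm
open Cfsg.Agent.ZN.ChoiceBase (cj mem_cj)
open Cfsg.Agent.Omega.S5.Mod Cfsg.Agent.Omega.S5.TT
open Cfsg.Agent.Omega.S5.TT.Pos (na ns as sn n_ne s_ne a_ne n_ne_a n_ne_s a_ne_s e_sq' mem_C)
open Cfsg.Agent.Omega.Half (Amb amb_of_loc)
open Cfsg.Agent.MinSimple.VModule (mem_zc zc_le zc_comm zc_sq zc_le_zl le_normalizer_o2 o2_isPGroup o2_le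
  normalizer_le_normalizer_zc le_normalizer_zl)

universe u

variable {G : Type u} [Group G]

/-! ### Permutations -/

theorem no_normal : ∀ p : Equiv.Perm (Fin 5), p = 1 ∨ ∃ a b : Fin 5,
    p * (Equiv.swap a b * p⁻¹ * (Equiv.swap a b)⁻¹) ≠ 1 ∧
    (p * (Equiv.swap a b * p⁻¹ * (Equiv.swap a b)⁻¹)) ^ 3 = 1 := by
  decide +kernel

theorem ss_comp : ∀ p : Equiv.Perm (Fin 5), p * dd = dd * p → ss ∘ p = ss := by
  decide +kernel

theorem tt_inv : tt⁻¹ = tt := by decide +kernel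

theorem tt_tt : tt * tt = 1 := by decide +kernel

theorem tt_prod : Equiv.swap 0 4 * Equiv.swap 2 4 * Equiv.swap 0 4 * (Equiv.swap 1 4 * Equiv.swap 3 4 *
    Equiv.swap 1 4) = tt := by decide +kernel

/-- a normal 2-subgroup acts trivially -/
theorem le_centralizer_of_normal {V L N : Subgroup G} (M : FiveMod V L) (hN2 : IsPGroup 2 N)
    (hLN : L ≤ normalizer (N : Set G)) (hN : ∀ g ∈ N, ∃ p, M.Ind g p) :
    N ≤ centralizer (V : Set G) := by
  intro g hg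
  obtain ⟨p, hp⟩ := hN g hg
  rcases no_normal p with rfl | ⟨a, b, hr1, hr⟩
  · exact FiveMod.ind_one_iff.1 hp
  · exfalso
    set r := Equiv.swap a b
    obtain ⟨l, hl, hi⟩ := M.exists_lift r
    have hi : M.Ind l r := hi
    have h1 : g * (l * g⁻¹ * l⁻¹) ∈ N :=
      mul_mem hg ((mem_normalizer_iff.1 (hLN hl) _).1 (inv_mem hg))
    have h2 : M.Ind (g * (l * g⁻¹ * l⁻¹)) (p * (r * p⁻¹ * r⁻¹)) := hp.mul ((hi.mul hp.inv).mul hi.inv)
    obtain ⟨k, hk⟩ := hN2 ⟨_, h1⟩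
    have hk' : (g * (l * g⁻¹ * l⁻¹)) ^ (2 ^ k) = 1 := congrArg Subtype.val hk
    have key : ∀ m : ℕ, M.Ind ((g * (l * g⁻¹ * l⁻¹)) ^ m) ((p * (r * p⁻¹ * r⁻¹)) ^ m) := by
      intro m
      induction m with
      | zero => rw [pow_zero, pow_zero]; exact M.ind_one
      | succ m ih => rw [pow_succ, pow_succ]; exact ih.mul h2
    have h3 : (p * (r * p⁻¹ * r⁻¹)) ^ (2 ^ k) = 1 := by
      have h4 := key (2 ^ k)
      rw [hk'] at h4
      exact FiveMod.Ind.unique h4 M.ind_one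
    have h5 : orderOf (p * (r * p⁻¹ * r⁻¹)) ∣ Nat.gcd (2 ^ k) 3 :=
      Nat.dvd_gcd (orderOf_dvd_of_pow_eq_one h3) (orderOf_dvd_of_pow_eq_one hr)
    have h6 : Nat.gcd (2 ^ k) 3 = 1 := Nat.Coprime.pow_left k (by norm_num)
    rw [h6, Nat.dvd_one, orderOf_eq_one_iff] at h5
    exact hr1 h5

/-- two nontrivial elements of a group of order `≤ 2` are equal -/
theorem eq_of_card_le_two [Finite G] {A : Subgroup G} (h : Nat.card A ≤ 2) {a b : G} (ha : a ∈ A)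
    (hb : b ∈ A) (ha1 : a ≠ 1) (hb1 : b ≠ 1) : a = b := by
  classical
  by_contra hne
  have h1 : ({1, a, b} : Set G) ⊆ (A : Set G) := by
    rintro x (rfl | rfl | rfl)
    · exact one_mem _
    · exact ha
    · exact hb
  have h2 := Set.ncard_le_ncard h1 (Set.toFinite _)
  have h3 : ({1, a, b} : Set G).ncard = 3 := by
    rw [Set.ncard_insert_of_notMem, Set.ncard_pair hne]
    rintro (h4 | h4)
    · exact ha1 h4.symm
    · exact hb1 h4.symm
  rw [h3] at h2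
  have h4 : (A : Set G).ncard = Nat.card A := rfl
  omega

namespace Wr

variable {S : Sylow 2 G} {P V₁ V₂ L₁ L₂ : Subgroup G} {M₁ : FiveMod V₁ L₁} {M₂ : FiveMod V₂ L₂}

section fin

variable [Finite G] (wr : Wr S P M₁ M₂)
include wr

theorem L₂_le_C : L₂ ≤ centralizer ({M₁.e nn} : Set G) := fun _ hg =>
  mem_C.2 (wr.L₂_comm hg (M₁.e_mem nn))

theorem T_le_normalizer_L₂ : (S : Subgroup G) ⊓ centralizer ({M₁.e nn} : Set G) ≤
    normalizer (L₂ : Set G) := by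
  intro t ht
  obtain ⟨p, q, -, hp, -⟩ := wr.T_ind ht
  refine MinSimple.VModule.mem_normalizer_of_map_le ?_
  rintro _ ⟨l, hl, rfl⟩
  exact wr.conj_L₂ (wr.S_le ht.1) hp hl

theorem LT_le : L₂ ⊔ ((S : Subgroup G) ⊓ centralizer ({M₁.e nn} : Set G)) ≤
    P ⊓ centralizer ({M₁.e nn} : Set G) :=
  sup_le (le_inf wr.L₂_le wr.L₂_le_C) (inf_le_inf_right _ wr.S_le)

/-- `W₀ = O₂(C(n)) ∩ L₂ T` centralises `V₂` -/
theorem W₀_le : o2 (centralizer ({M₁.e nn} : Set G)) ⊓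
    (L₂ ⊔ ((S : Subgroup G) ⊓ centralizer ({M₁.e nn} : Set G))) ≤ centralizer (V₂ : Set G) := by
  refine le_centralizer_of_normal M₂ ((o2_isPGroup _).to_le inf_le_left) ?_ fun g hg => ?_
  · exact Half.le_normalizer_inf (wr.L₂_le_C.trans (le_normalizer_o2 _))
      ((le_sup_left.trans le_normalizer))
  · have h1 := wr.LT_le hg.2
    obtain ⟨p, q, -, hq⟩ := wr.ind_of_comm h1.1 (M₁.e_mem nn) (n_ne M₁) (mem_C.1 h1.2)
    exact ⟨q, hq⟩

theorem TW_isPGroup : IsPGroup 2 ((S : Subgroup G) ⊓ centralizer ({M₁.e nn} : Set G) ⊔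
    o2 (centralizer ({M₁.e nn} : Set G)) : Subgroup G) :=
  (S.isPGroup'.to_le inf_le_left).to_sup_of_normal_right' (o2_isPGroup _)
    (inf_le_right.trans (le_normalizer_o2 _))

theorem card_TW : Nat.card ((S : Subgroup G) ⊓ centralizer ({M₁.e nn} : Set G) ⊔
    o2 (centralizer ({M₁.e nn} : Set G)) : Subgroup G) *
    Nat.card ((S : Subgroup G) ⊓ centralizer ({M₁.e nn} : Set G) ⊓
      o2 (centralizer ({M₁.e nn} : Set G)) : Subgroup G) =
    Nat.card ((S : Subgroup G) ⊓ centralizer ({M₁.e nn} : Set G) : Subgroup G) *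
      Nat.card (o2 (centralizer ({M₁.e nn} : Set G))) :=
  Block.card_sup_mul_card_inf (inf_le_right.trans (le_normalizer_o2 _))

theorem card_W : Nat.card (o2 (centralizer ({M₁.e nn} : Set G))) ≤
    4 * Nat.card ((S : Subgroup G) ⊓ centralizer ({M₁.e nn} : Set G) ⊓
      o2 (centralizer ({M₁.e nn} : Set G)) : Subgroup G) := by
  have h1 := wr.card_TW
  have h2 := Half.card_le_sylow S wr.TW_isPGroup
  rw [wr.card_T] at h2
  have h3 : Nat.card ((S : Subgroup G) ⊓ centralizer ({M₁.e nn} : Set G) : Subgroup G) *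
      Nat.card (o2 (centralizer ({M₁.e nn} : Set G))) ≤
      Nat.card ((S : Subgroup G) ⊓ centralizer ({M₁.e nn} : Set G) : Subgroup G) *
        (4 * Nat.card ((S : Subgroup G) ⊓ centralizer ({M₁.e nn} : Set G) ⊓
      o2 (centralizer ({M₁.e nn} : Set G)) : Subgroup G)) := by
    rw [← h1]
    calc _ ≤ 4 * Nat.card ((S : Subgroup G) ⊓ centralizer ({M₁.e nn} : Set G) : Subgroup G) * _ :=
          Nat.mul_le_mul_right _ h2
      _ = _ := by ring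
  exact Nat.le_of_mul_le_mul_left h3 Nat.card_pos

theorem qd : QD M₂ (o2 (centralizer ({M₁.e nn} : Set G))) (o2 (centralizer ({M₁.e nn} : Set G)) ⊓
    (L₂ ⊔ ((S : Subgroup G) ⊓ centralizer ({M₁.e nn} : Set G)))) where
  VL := wr.V₂_le_L₂
  LW := wr.L₂_le_C.trans (le_normalizer_o2 _)
  W₀W := inf_le_left
  L0 := Half.le_normalizer_inf (wr.L₂_le_C.trans (le_normalizer_o2 _)) ((le_sup_left.trans le_normalizer))
  W₀V := wr.W₀_le
  card := by
    refine wr.card_W.trans (Nat.mul_le_mul_left _ ?_)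
    exact Subgroup.card_le_of_le (le_inf inf_le_right (inf_le_left.trans le_sup_right))

theorem V₂_le_T : V₂ ≤ (S : Subgroup G) ⊓ centralizer ({M₁.e nn} : Set G) :=
  le_inf wr.V₂_le_S (wr.V₂_le_L₂.trans wr.L₂_le_C)

theorem n_mem_T : M₁.e nn ∈ (S : Subgroup G) ⊓ centralizer ({M₁.e nn} : Set G) :=
  ⟨wr.V₁_le_S (M₁.e_mem nn), mem_C.2 rfl⟩

theorem card_zS : Nat.card (zc (S : Subgroup G)) ≤ 2 := by
  have h1 : ((zc (S : Subgroup G) : Subgroup G) : Set G) ⊆ ({1, M₁.e ss * M₂.e ss} : Set G) := fun x hx =>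
    wr.zS_le hx
  have h2 := Set.ncard_le_ncard h1 (Set.toFinite _)
  have h3 : ({1, M₁.e ss * M₂.e ss} : Set G).ncard ≤ 2 := Set.ncard_insert_le _ _ |>.trans (by
    rw [Set.ncard_singleton])
  exact h2.trans h3

theorem T_twist : ∀ t ∈ (S : Subgroup G) ⊓ centralizer ({M₁.e nn} : Set G), ∃ q, M₂.Ind t q ∧
    ss ∘ q = ss := by
  intro t ht
  obtain ⟨p, q, -, -, hq⟩ := wr.T_ind ht
  exact ⟨q, hq, ss_comp q (wr.symm.dS wr.S_le ht.1 hq)⟩

theorem T_norm_W₀ : (S : Subgroup G) ⊓ centralizer ({M₁.e nn} : Set G) ≤ normalizer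
    ((o2 (centralizer ({M₁.e nn} : Set G)) ⊓
    (L₂ ⊔ ((S : Subgroup G) ⊓ centralizer ({M₁.e nn} : Set G))) : Subgroup G) : Set G) :=
  Half.le_normalizer_inf (inf_le_right.trans (le_normalizer_o2 _)) (le_sup_right.trans le_normalizer)

/-- `T W` is not a Sylow 2-subgroup of `G` -/
theorem card_TW_ne : Nat.card ((S : Subgroup G) ⊓ centralizer ({M₁.e nn} : Set G) ⊔
    o2 (centralizer ({M₁.e nn} : Set G)) : Subgroup G) ≠ Nat.card (S : Subgroup G) := by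
  intro h0
  set T := (S : Subgroup G) ⊓ centralizer ({M₁.e nn} : Set G) with hT
  set W := o2 (centralizer ({M₁.e nn} : Set G)) with hW
  obtain ⟨c, hc, hcU, hc1, hcT⟩ := wr.qd.exists_fixed_hom wr.TW_isPGroup wr.T_le_normalizer_L₂
    (inf_le_right.trans (le_normalizer_o2 _)) wr.T_norm_W₀ wr.T_twist
  have hUT : QD.UU M₂ W ≤ T ⊔ W := by
    rw [QD.UU, closure_le]
    rintro _ ⟨v, hv, x, rfl⟩
    have h1 : v ∈ T ⊔ W := (le_sup_right : W ≤ T ⊔ W) hv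
    have h2 : M₂.e x ∈ T ⊔ W := (le_sup_left : T ≤ T ⊔ W) (wr.V₂_le_T (M₂.e_mem x))
    exact mul_mem (mul_mem h1 h2) (inv_mem h1)
  have hcz : c ss ∈ zc (T ⊔ W) := mem_zc.2 ⟨hUT (hcU ss), fun y hy => hcT y hy, by
    rw [pow_two]; exact hc.sq ss⟩
  have hTC : T ⊔ W ≤ centralizer ({M₁.e nn} : Set G) := sup_le inf_le_right (o2_le _)
  have hnz : M₁.e nn ∈ zc (T ⊔ W) := mem_zc.2 ⟨(le_sup_left : T ≤ T ⊔ W) wr.n_mem_T, fun y hy =>
    mem_C.1 (hTC hy), e_sq' M₁ nn⟩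
  have hz2 : Nat.card (zc (T ⊔ W)) ≤ 2 := by
    rw [Half.card_zc_of_card_eq S wr.TW_isPGroup h0]
    exact wr.card_zS
  have hcn := eq_of_card_le_two hz2 hcz hnz hc1 (n_ne M₁)
  obtain ⟨g, hg, hi⟩ := wr.qd.exists_five
  apply hc1
  refine hc.eq_one_of_fixed hg hi ?_
  rw [hcn]
  exact mem_C.1 (wr.L₂_le_C (Ker_le hg))

/-- `|T W| ≤ 2 |T|` -/
theorem card_TW_le : Nat.card ((S : Subgroup G) ⊓ centralizer ({M₁.e nn} : Set G) ⊔
    o2 (centralizer ({M₁.e nn} : Set G)) : Subgroup G) ≤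
    2 * Nat.card ((S : Subgroup G) ⊓ centralizer ({M₁.e nn} : Set G) : Subgroup G) := by
  have h1 := Half.card_le_sylow S wr.TW_isPGroup
  have h2 := wr.card_TW_ne
  have h3 := wr.card_T
  obtain ⟨a, ha⟩ := IsPGroup.iff_card.1 wr.TW_isPGroup
  obtain ⟨b, hb⟩ := IsPGroup.iff_card.1 S.isPGroup'
  rw [ha, hb] at h1 h2
  rw [hb] at h3
  rw [ha]
  have h4 : a < b := by
    rcases lt_trichotomy a b with h | h | h
    · exact h
    · exact absurd (by rw [h]) h2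
    · exact absurd ((Nat.pow_le_pow_iff_right (by norm_num : 1 < 2)).1 h1) (by omega)
  have h5 : 2 ^ (a + 1) ≤ 2 ^ b := Nat.pow_le_pow_right (by norm_num) h4
  rw [pow_succ] at h5
  omega

theorem o2P_le_T : o2 P ≤ (S : Subgroup G) ⊓ centralizer ({M₁.e nn} : Set G) := by
  intro x hx
  rw [← IsParS.inf_centralizer S wr.hG wr.star] at hx
  refine ⟨hx.1, mem_C.2 ?_⟩
  exact (mem_centralizer_iff.1 hx.2 _ (wr.V₁_le (M₁.e_mem nn))).symm

/-- `[L₁, L₂]` centralises `Ω₁(Z(O₂(P)))` -/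
theorem comm_LL {x g y : G} (hx : x ∈ L₁) (hg : g ∈ L₂) (hy : y ∈ zc (o2 P)) :
    x⁻¹ * (g * x * g⁻¹) * y = y * (x⁻¹ * (g * x * g⁻¹)) := by
  obtain ⟨q, hq⟩ := M₂.exists_ind hg
  obtain ⟨p, hp⟩ := M₁.exists_ind hx
  have hq : M₂.Ind g q := hq
  have hp : M₁.Ind x p := hp
  have h1 : x⁻¹ * (g * x * g⁻¹) ∈ L₁ := mul_mem (inv_mem hx) (wr.conj_L₁ (wr.L₂_le hg) hq hx)
  have h2 : x⁻¹ * (g * x * g⁻¹) ∈ L₂ := by
    have h3 := mul_mem (wr.conj_L₂ (wr.L₁_le (inv_mem hx)) hp.inv hg) (inv_mem hg)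
    have e : x⁻¹ * g * x⁻¹⁻¹ * g⁻¹ = x⁻¹ * (g * x * g⁻¹) := by group
    rwa [e] at h3
  have h3 : x⁻¹ * (g * x * g⁻¹) ∈ P ⊓ centralizer (zl (S : Subgroup G) P : Set G) := by
    refine ⟨wr.L₁_le h1, ?_⟩
    rw [wr.sup]
    have h4 : V₁ ⊔ V₂ ≤ centralizer ({x⁻¹ * (g * x * g⁻¹)} : Set G) :=
      sup_le (fun v hv => mem_C.2 (wr.L₂_comm h2 hv).symm) fun v hv => mem_C.2 (wr.L₁_comm h1 hv).symm
    exact mem_centralizer_iff.2 fun v hv => mem_C.1 (h4 hv)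
  exact (mem_centralizer_iff.1 (le_centralizer_zc_o2 wr.hG S wr.star h3) _ hy).symm

/-- **The contradiction.** -/
theorem quarter_false {w : G} (hw : w ∈ o2 (centralizer ({M₁.e nn} : Set G)))
    (hwV : ¬ ∀ v ∈ V₂, w * v = v * w)
    (hwT : ∀ t ∈ (S : Subgroup G) ⊓ centralizer ({M₁.e nn} : Set G),
      w⁻¹ * t * w ∈ (S : Subgroup G) ⊓ centralizer ({M₁.e nn} : Set G))
    (hwT' : ∀ t ∈ (S : Subgroup G) ⊓ centralizer ({M₁.e nn} : Set G),
      w * t * w⁻¹ ∈ (S : Subgroup G) ⊓ centralizer ({M₁.e nn} : Set G))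
    (htwo : ∀ a ∈ o2 (centralizer ({M₁.e nn} : Set G)),
      a ∉ (S : Subgroup G) ⊓ centralizer ({M₁.e nn} : Set G) →
      w⁻¹ * a ∈ (S : Subgroup G) ⊓ centralizer ({M₁.e nn} : Set G)) : False := by
  set T := (S : Subgroup G) ⊓ centralizer ({M₁.e nn} : Set G) with hT
  set W := o2 (centralizer ({M₁.e nn} : Set G)) with hW
  set K := Ker L₂ W (W ⊓ (L₂ ⊔ T)) with hK
  have qd : QD M₂ W (W ⊓ (L₂ ⊔ T)) := wr.qd
  obtain ⟨g, hg, hi⟩ := qd.exists_five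
  have hgL : g ∈ L₂ := Ker_le hg
  have hWTc : ∀ k ∈ W, k ∈ T → ∀ v ∈ V₂, k * v = v * k := fun k hk hkT v hv =>
    (mem_centralizer_iff.1 (wr.W₀_le (⟨hk, (le_sup_right : T ≤ L₂ ⊔ T) hkT⟩ :
      k ∈ W ⊓ (L₂ ⊔ T))) v hv).symm
  have hc := qd.hom_conj hw
  set c : Vec → G := fun x => w * M₂.e x * w⁻¹ with hcdef
  -- `y`
  set y := w * M₂.e ss * w⁻¹ with hy
  have hcy : c ss = y := rfl
  have hyy : y * y = 1 := hc.sq ss
  have hyT : y ∈ T := hwT' _ (wr.V₂_le_T (M₂.e_mem ss))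
  have hyc : ∀ t ∈ T, t * y = y * t := by
    intro t ht
    have h1 := wr.T_comm_s₂ (hwT t ht)
    calc t * y = w * ((w⁻¹ * t * w) * M₂.e ss) * w⁻¹ := by rw [hy]; group
      _ = w * (M₂.e ss * (w⁻¹ * t * w)) * w⁻¹ := by rw [h1]
      _ = y * t := by rw [hy]; group
  have hyP : y ∈ zc (o2 P) := by
    have h1 : y ∈ o2 P := wr.star.isLoc.char2 S wr.hG ⟨wr.S_le hyT.1, mem_centralizer_iff.2 fun t ht =>
      hyc t (wr.o2P_le_T ht)⟩
    exact mem_zc.2 ⟨h1, fun t ht => hyc t (wr.o2P_le_T ht), by rw [pow_two]; exact hyy⟩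
  have hPn : P ≤ normalizer (zc (o2 P) : Set G) := (le_normalizer_o2 P).trans (normalizer_le_normalizer_zc _)
  have hcP : ∀ x, c x ∈ zc (o2 P) := hc.mem_of_mem hg hi
    (fun u hu => (mem_normalizer_iff.1 (hPn (wr.L₂_le hgL)) u).1 hu) ss_ne.1 ss_ne.2 hyP
  -- `x`
  obtain ⟨x, hx, hxi⟩ := wr.exists_x
  have hxP : x ∈ P := wr.S_le hx.1
  have hxc : ∀ z, x * c z * x⁻¹ ∈ zc (o2 P) := fun z => (mem_normalizer_iff.1 (hPn hxP) _).1 (hcP z)
  have hc' : Hom5 M₂ K fun z => x * c z * x⁻¹ :=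
    hc.conj fun l hl z => wr.comm_LL hx.2 (Ker_le hl) (hcP z)
  have hf : Hom5 M₂ K fun z => c z * (x * c z * x⁻¹) :=
    hc.mul hc' fun z z' => zc_comm _ _ (hcP z) _ (hxc z')
  have hVK := qd.V_le_Ker
  have hg1 : ∀ v ∈ V₁, g * v = v * g := fun v hv => wr.L₂_comm hgL hv
  have hs2 : M₂.e ss * M₂.e ss = 1 := M₂.e_sq ss
  -- the product of an equivariant map with the identity
  have hprod : ∀ {d : Vec → G}, Hom5 M₂ K d → Hom5 M₂ K fun z => d z * M₂.e z := fun hd =>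
    hd.mul (Hom5.base _ _) fun z z' => (hd.comm_of_mem (hVK (M₂.e_mem z')) (M₂.e_mem z') z).symm
  have hno₁ : ∀ {d : Vec → G}, Hom5 M₂ K d → d ss ≠ M₁.e ss := by
    intro d hd h1
    have h2 := hd.eq_one_of_fixed hg hi (x := ss) (by rw [h1]; exact hg1 _ (M₁.e_mem ss))
    rw [h1] at h2
    exact s_ne M₁ h2
  have hno₂ : ∀ {d : Vec → G}, Hom5 M₂ K d → d ss ≠ M₁.e ss * M₂.e ss := by
    intro d hd h1
    refine hno₁ (hprod hd) ?_
    rw [h1, mul_assoc, hs2, mul_one]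
  have hyno : y = 1 ∨ y = M₁.e ss ∨ y = M₂.e ss ∨ y = M₁.e ss * M₂.e ss → False := by
    rintro (h1 | h1 | h1 | h1)
    · rw [hy, mul_inv_eq_one, mul_eq_left] at h1
      exact s_ne M₂ h1
    · exact hno₁ hc h1
    · apply hwV
      intro v hv
      obtain ⟨z, rfl⟩ := (M₂.mem_iff v).1 hv
      have h2 := (hprod hc).eq_one_of_eq_one hg hi ss_ne.1 ss_ne.2 (x := ss) (by
        change y * M₂.e ss = 1
        rw [h1, hs2]) z
      have h3 : w * M₂.e z * w⁻¹ = M₂.e z := by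
        have h4 := eq_inv_of_mul_eq_one_left h2
        rw [M₂.e_inv] at h4
        exact h4
      rwa [mul_inv_eq_iff_eq_mul] at h3
    · exact hno₂ hc h1
  -- `S₁`
  have hxx : x * x ∈ T := mem_T_of_ind (mul_mem hx.1 hx.1) (Or.inl rfl) (by
    have := hxi.mul hxi
    rwa [tt_tt] at this)
  have hxi' : M₁.Ind x⁻¹ tt := by
    have := hxi.inv
    rwa [tt_inv] at this
  have hyc' : ∀ t ∈ T, t * (x * y * x⁻¹) = x * y * x⁻¹ * t := by
    intro t ht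
    have h1 := hyc _ (wr.conj_T (inv_mem hx.1) hxi' ht)
    rw [inv_inv] at h1
    calc t * (x * y * x⁻¹) = x * ((x⁻¹ * t * x) * y) * x⁻¹ := by group
      _ = x * (y * (x⁻¹ * t * x)) * x⁻¹ := by rw [h1]
      _ = x * y * x⁻¹ * t := by group
  have hTS : T ≤ (S : Subgroup G) ⊓ normalizer (V₁ : Set G) := wr.T_le
  have hxyT : x * y * x⁻¹ ∈ T := wr.conj_T hx.1 hxi hyT
  have hyxy : y * (x * y * x⁻¹) = x * y * x⁻¹ * y := hyc' y hyT
  have hmk : ∀ {u : G}, u ∈ T → (∀ t ∈ T, t * u = u * t) → x * u = u * x → u * u = 1 →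
      u = 1 ∨ u = M₁.e ss ∨ u = M₂.e ss ∨ u = M₁.e ss * M₂.e ss := by
    intro u hu hut hux huu
    refine wr.zS₁_le (mem_zc.2 ⟨hTS hu, fun b hb => ?_, by rw [pow_two]; exact huu⟩)
    rcases wr.mem_or₁ hx.1 hxi hb with h1 | h1
    · exact hut b h1
    · have h2 := hut _ h1
      have h3 : b * u * x = u * b * x := by
        calc b * u * x = b * (u * x) := by group
          _ = b * x * u := by rw [← hux]; group
          _ = u * (b * x) := h2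
          _ = u * b * x := by group
      exact mul_right_cancel h3
  set δ := y * (x * y * x⁻¹) with hδ
  have hδT : δ ∈ T := mul_mem hyT hxyT
  have hδc : ∀ t ∈ T, t * δ = δ * t := by
    intro t ht
    calc t * δ = (t * y) * (x * y * x⁻¹) := by rw [hδ]; group
      _ = y * (t * (x * y * x⁻¹)) := by rw [hyc t ht]; group
      _ = δ * t := by rw [hyc' t ht, hδ]; group
  have hδx : x * δ = δ * x := by
    have h1 := hyc _ hxx
    calc x * δ = (x * y * x⁻¹) * ((x * x) * y) * x⁻¹ := by rw [hδ]; group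
      _ = (x * y * x⁻¹ * y) * x := by rw [h1]; group
      _ = δ * x := by rw [← hyxy]
  have hδδ : δ * δ = 1 := by
    calc δ * δ = y * ((x * y * x⁻¹) * y) * (x * y * x⁻¹) := by rw [hδ]; group
      _ = (y * y) * (x * (y * y) * x⁻¹) := by rw [← hyxy, hδ]; group
      _ = 1 := by rw [hyy]; group
  rcases hmk hδT hδc hδx hδδ with h1 | h1 | h1 | h1
  · -- `δ = 1`
    refine hyno (hmk hyT hyc ?_ hyy)
    have h2 : x * y * x⁻¹ = y := by
      have h3 := eq_inv_of_mul_eq_one_right h1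
      rw [h3]
      exact inv_eq_of_mul_eq_one_left hyy
    rwa [mul_inv_eq_iff_eq_mul] at h2
  · exact hno₁ hf h1
  · -- `δ = σ₂`
    have h2 : x * y * x⁻¹ = y * M₂.e ss := by
      calc x * y * x⁻¹ = (y * y) * (x * y * x⁻¹) := by rw [hyy, one_mul]
        _ = y * δ := by rw [hδ]; group
        _ = y * M₂.e ss := by rw [h1]
    have hln : ∀ l ∈ L₁, l * M₁.e nn = M₁.e nn * l → l * y = y * l := by
      intro l hl hln
      have hlC : l ∈ centralizer ({M₁.e nn} : Set G) := mem_C.2 hln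
      have h3 : l * w * l⁻¹ ∈ W := (mem_normalizer_iff.1 (le_normalizer_o2 _ hlC) w).1 hw
      have h4 : l * w * l⁻¹ ∉ T := by
        intro h5
        apply hwV
        intro v hv
        have h6 := hWTc _ h3 h5 v hv
        have h7 := wr.L₁_comm hl hv
        have h8 : l⁻¹ * v = v * l⁻¹ := wr.L₁_comm (inv_mem hl) hv
        calc w * v = l⁻¹ * (l * w * l⁻¹) * (l * v) := by group
          _ = l⁻¹ * ((l * w * l⁻¹) * v) * l := by rw [h7]; group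
          _ = (l⁻¹ * v) * (l * w * l⁻¹) * l := by rw [h6]; group
          _ = v * w := by rw [h8]; group
      have h5 := htwo _ h3 h4
      have h6 := hWTc _ (mul_mem (inv_mem hw) h3) h5 _ (M₂.e_mem ss)
      have h7 := wr.L₁_comm hl (M₂.e_mem ss)
      have h8 : l * y * l⁻¹ = y := by
        calc l * y * l⁻¹ = (l * w * l⁻¹) * ((l * M₂.e ss) * l⁻¹) * (l * w * l⁻¹)⁻¹ := by rw [hy]; group
          _ = w * ((w⁻¹ * (l * w * l⁻¹)) * M₂.e ss) * (l * w * l⁻¹)⁻¹ := by rw [h7]; group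
          _ = w * (M₂.e ss * (w⁻¹ * (l * w * l⁻¹))) * (l * w * l⁻¹)⁻¹ := by rw [h6]
          _ = y := by rw [hy]; group
      rwa [mul_inv_eq_iff_eq_mul] at h8
    have hla : ∀ l ∈ L₁, l * M₁.e aa = M₁.e aa * l → l * y = y * l := by
      intro l hl hla
      have h3 : x⁻¹ * l * x ∈ L₁ := mul_mem (mul_mem (inv_mem hx.2) hl) hx.2
      have h4 : x⁻¹ * l * x * M₁.e nn = M₁.e nn * (x⁻¹ * l * x) := by
        have h5 := tt_n hxi
        calc x⁻¹ * l * x * M₁.e nn = x⁻¹ * (l * (x * M₁.e nn * x⁻¹)) * x := by group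
          _ = x⁻¹ * ((x * M₁.e nn * x⁻¹) * l) * x := by rw [h5, hla]
          _ = M₁.e nn * (x⁻¹ * l * x) := by group
      have h5 := hln _ h3 h4
      have h6 : l * (y * M₂.e ss) = y * M₂.e ss * l := by
        rw [← h2]
        calc l * (x * y * x⁻¹) = x * ((x⁻¹ * l * x) * y) * x⁻¹ := by group
          _ = x * (y * (x⁻¹ * l * x)) * x⁻¹ := by rw [h5]
          _ = x * y * x⁻¹ * l := by group
      have h7 := wr.L₁_comm hl (M₂.e_mem ss)
      have h8 : l * y * M₂.e ss = y * l * M₂.e ss := by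
        calc l * y * M₂.e ss = l * (y * M₂.e ss) := by group
          _ = y * (M₂.e ss * l) := by rw [h6]; group
          _ = y * l * M₂.e ss := by rw [← h7]; group
      exact mul_right_cancel h8
    -- `x` commutes with `y`
    set D := L₁ ⊓ centralizer ({y} : Set G) with hD
    have hlift : ∀ p : Equiv.Perm (Fin 5), nn ∘ p.symm = nn ∨ aa ∘ p.symm = aa →
        ∃ l ∈ D, M₁.Ind l p := by
      intro p hp
      obtain ⟨l, hl, hli⟩ := M₁.exists_lift p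
      have hli : M₁.Ind l p := hli
      refine ⟨l, ⟨hl, mem_C.2 ?_⟩, hli⟩
      rcases hp with hp | hp
      · exact hln l hl ((hli.commute_iff _).2 (Or.inl hp))
      · exact hla l hl ((hli.commute_iff _).2 (Or.inl hp))
    obtain ⟨l₁, hl₁, i₁⟩ := hlift (Equiv.swap 0 4) (by decide)
    obtain ⟨l₂, hl₂, i₂⟩ := hlift (Equiv.swap 2 4) (by decide)
    obtain ⟨l₃, hl₃, i₃⟩ := hlift (Equiv.swap 1 4) (by decide)
    obtain ⟨l₄, hl₄, i₄⟩ := hlift (Equiv.swap 3 4) (by decide)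
    have hmD : l₁ * l₂ * l₁ * (l₃ * l₄ * l₃) ∈ D :=
      mul_mem (mul_mem (mul_mem hl₁ hl₂) hl₁) (mul_mem (mul_mem hl₃ hl₄) hl₃)
    have hmi : M₁.Ind (l₁ * l₂ * l₁ * (l₃ * l₄ * l₃)) tt := by
      have := ((i₁.mul i₂).mul i₁).mul ((i₃.mul i₄).mul i₃)
      rwa [tt_prod] at this
    set m := l₁ * l₂ * l₁ * (l₃ * l₄ * l₃) with hm
    have h3 : M₁.Ind (m⁻¹ * x) 1 := by
      have := hmi.inv.mul hxi
      rwa [tt_inv, tt_tt] at this
    have h4 : m⁻¹ * x ∈ L₁ := mul_mem (inv_mem hmD.1) hx.2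
    have h5 := hln _ h4 ((h3.commute_iff _).2 (Or.inl rfl))
    have h6 : m * y = y * m := mem_C.1 hmD.2
    have h7 : x * y = y * x := by
      calc x * y = m * ((m⁻¹ * x) * y) := by group
        _ = m * y * (m⁻¹ * x) := by rw [h5]; group
        _ = y * x := by rw [h6]; group
    rw [h7, mul_inv_cancel_right] at h2
    exact s_ne M₂ (left_eq_mul.1 h2)
  · exact hno₂ hf h1

/-- **QUARTER LEMMA**: `O₂(C_G(n)) ≤ C_G(V₂)`. -/
theorem quarter_cent : o2 (centralizer ({M₁.e nn} : Set G)) ≤ centralizer (V₂ : Set G) := by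
  set T := (S : Subgroup G) ⊓ centralizer ({M₁.e nn} : Set G) with hT
  set W := o2 (centralizer ({M₁.e nn} : Set G)) with hW
  by_contra hne
  obtain ⟨w, hw, hwV⟩ := SetLike.not_le_iff_exists.mp hne
  have hWTc : ∀ k ∈ W, k ∈ T → k ∈ centralizer (V₂ : Set G) := fun k hk hkT =>
    wr.W₀_le (⟨hk, (le_sup_right : T ≤ L₂ ⊔ T) hkT⟩ : k ∈ W ⊓ (L₂ ⊔ T))
  have hwT : w ∉ T := fun h => hwV (hWTc w hw h)
  -- `T` has index two in `T W`
  have h1 : Nat.card T * T.relIndex (T ⊔ W) = Nat.card (T ⊔ W : Subgroup G) :=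
    Half.card_mul_relIndex le_sup_left
  have h2 : Nat.card (T ⊔ W : Subgroup G) ≤ 2 * Nat.card T := wr.card_TW_le
  have hwTW : w ∈ T ⊔ W := (le_sup_right : W ≤ T ⊔ W) hw
  have h3 : T.relIndex (T ⊔ W) = 2 := by
    have h4 : T.relIndex (T ⊔ W) ≠ 1 := fun h => hwT ((relIndex_eq_one.1 h) hwTW)
    have h5 : T.relIndex (T ⊔ W) ≠ 0 := fun h => by
      rw [h, mul_zero] at h1
      exact Nat.card_pos.ne h1
    have h6 : T.relIndex (T ⊔ W) ≤ 2 := by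
      by_contra h
      push Not at h
      have h7 : 2 * Nat.card T < Nat.card T * T.relIndex (T ⊔ W) := by
        rw [mul_comm]
        exact Nat.mul_lt_mul_of_pos_left h Nat.card_pos
      omega
    omega
  have h4 : (T.subgroupOf (T ⊔ W)).index = 2 := h3
  have hnor := normal_of_index_eq_two h4
  have key : ∀ b ∈ T ⊔ W, ∀ t ∈ T, b * t * b⁻¹ ∈ T := by
    intro b hb t ht
    have h5 := hnor.conj_mem (⟨t, (le_sup_left : T ≤ T ⊔ W) ht⟩ : (T ⊔ W : Subgroup G))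
      (mem_subgroupOf.2 ht) ⟨b, hb⟩
    exact mem_subgroupOf.1 h5
  refine wr.quarter_false hw (fun h => hwV (mem_centralizer_iff.2 fun v hv => (h v hv).symm)) ?_ ?_ ?_
  · intro t ht
    have := key w⁻¹ (inv_mem hwTW) t ht
    rwa [inv_inv] at this
  · exact key w hwTW
  · intro a ha haT
    have haTW : a ∈ T ⊔ W := (le_sup_right : W ≤ T ⊔ W) ha
    have h5 := mul_mem_iff_of_index_two h4 (a := (⟨w, hwTW⟩ : (T ⊔ W : Subgroup G))⁻¹) (b := ⟨a, haTW⟩)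
    rw [inv_mem_iff] at h5
    have h6 := h5.mpr (iff_of_false (fun h => hwT (mem_subgroupOf.mp h)) (fun h => haT (mem_subgroupOf.mp h)))
    exact mem_subgroupOf.mp h6

/-- **QUARTER LEMMA**: `V₂ ≤ O₂(C_G(n))`. -/
theorem quarter : V₂ ≤ o2 (centralizer ({M₁.e nn} : Set G)) := by
  intro v hv
  refine le_o2_of_comm wr.hG (e_sq' M₁ nn) (n_ne M₁) (wr.comm (M₁.e_mem nn) hv).symm fun q hq => Or.inl ?_
  have h1 := mem_centralizer_iff.1 (wr.quarter_cent hq) v hv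
  rw [h1]
  group

end fin

end Wr

end Cfsg.Agent.Omega.IId.LFour

end

section


/-!
# `V₁ ≤ Z(O₂(H))` for every 2-local `H ≥ L₁ S₁` (project OMEGA, II.d L4; #14703 A (1))

`w : Wr S P M₁ M₂`, `S₁ = N_S(V₁)`.

* `centralizer_o2_le` : `C_G(O₂(P)) ≤ O₂(P)` for `P ∈ L(S)`;
* `Wr.half` : a 2-group normalised by `L₁` and `S₁` centralises `V₁`;
* `Wr.half_le` : `V₁ ≤ O₂(H)` for `H ≥ L₁ S₁` of characteristic 2;
* `Wr.nt_symm` : 'no triangle' (`S₁` Sylow in `C_G(σ₁)`) is symmetric in `V₁`, `V₂`.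
-/

set_option autoImplicit false
set_option linter.unusedSectionVars false

namespace Cfsg.Agent.Omega.IId.LFour

open Subgroup Pointwise Cfsg Cfsg.Agent.ZN Cfsg.Agent.Omega.MinPar Cfsg.Agent.Omega.FFThm
open Cfsg.Agent.ZN.ChoiceBase (cj mem_cj)
open Cfsg.Agent.Omega.S5.Mod Cfsg.Agent.Omega.S5.TT
open Cfsg.Agent.Omega.S5.TT.Pos (na ns as sn n_ne s_ne a_ne n_ne_a n_ne_s a_ne_s e_sq' mem_C)
open Cfsg.Agent.Omega.Half (Amb amb_of_loc)
open Cfsg.Agent.MinSimple.VModule (mem_zc zc_le zc_comm zc_sq zc_le_zl le_normalizer_o2 o2_isPGroup o2_le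
  normalizer_le_normalizer_zc le_normalizer_zl)

universe u

variable {G : Type u} [Group G]

/-- `C_G(O₂(L)) ≤ O₂(L)` for `L ∈ L(S)`. -/
theorem centralizer_o2_le [Finite G] (hG : IsCharacteristicTwoType G) (S : Sylow 2 G) {L : Subgroup G}
    (h : IsLoc (S : Subgroup G) L) : centralizer (o2 L : Set G) ≤ o2 L := by
  have hN := h.normalizer_o2 S
  have h1 : o2 (normalizer (o2 L : Set G)) ≤ o2 L := o2_le_o2 S h.le (le_normalizer_o2 L)
  intro x hx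
  exact h1 (hN.char2 S hG ⟨centralizer_le_normalizer _ hx, centralizer_le h1 hx⟩)

namespace Wr

variable {S : Sylow 2 G} {P V₁ V₂ L₁ L₂ : Subgroup G} {M₁ : FiveMod V₁ L₁} {M₂ : FiveMod V₂ L₂}

section fin

variable [Finite G] (wr : Wr S P M₁ M₂)
include wr

theorem S₁_ind {g : G} (hg : g ∈ (S : Subgroup G) ⊓ normalizer (V₁ : Set G)) :
    ∃ p q, M₁.Ind g p ∧ M₂.Ind g q := wr.ind_of_norm (wr.S_le hg.1) hg.2

theorem S₁_eq : (S : Subgroup G) ⊓ normalizer (V₁ : Set G) = (S : Subgroup G) ⊓ normalizer (V₂ : Set G) := by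
  apply le_antisymm
  · intro g hg
    obtain ⟨p, q, -, hq⟩ := wr.S₁_ind hg
    exact ⟨hg.1, hq.mem_normalizer⟩
  · intro g hg
    obtain ⟨p, q, -, hq⟩ := wr.symm.S₁_ind hg
    exact ⟨hg.1, hq.mem_normalizer⟩

theorem S₁_le_normalizer_L₁ : (S : Subgroup G) ⊓ normalizer (V₁ : Set G) ≤ normalizer (L₁ : Set G) := by
  intro t ht
  obtain ⟨p, q, -, hq⟩ := wr.S₁_ind ht
  refine MinSimple.VModule.mem_normalizer_of_map_le ?_
  rintro _ ⟨l, hl, rfl⟩
  exact wr.conj_L₁ (wr.S_le ht.1) hq hl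

theorem S₁_le_normalizer_L₂ : (S : Subgroup G) ⊓ normalizer (V₁ : Set G) ≤ normalizer (L₂ : Set G) := by
  rw [wr.S₁_eq]
  exact wr.symm.S₁_le_normalizer_L₁

theorem S₁_twist : ∀ t ∈ (S : Subgroup G) ⊓ normalizer (V₁ : Set G), ∃ q, M₁.Ind t q ∧ ss ∘ q = ss := by
  intro t ht
  obtain ⟨p, q, hp, -⟩ := wr.S₁_ind ht
  exact ⟨p, hp, ss_comp p (wr.dS wr.S_le ht.1 hp)⟩

theorem o2P_le_S₁ : o2 P ≤ (S : Subgroup G) ⊓ normalizer (V₁ : Set G) := wr.o2P_le_T.trans wr.T_le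

theorem S₁_comm_s₁ {g : G} (hg : g ∈ (S : Subgroup G) ⊓ normalizer (V₁ : Set G)) :
    g * M₁.e ss = M₁.e ss * g := wr.comm_ss wr.S_le hg.1 hg.2

theorem S₁_comm_s₂ {g : G} (hg : g ∈ (S : Subgroup G) ⊓ normalizer (V₁ : Set G)) :
    g * M₂.e ss = M₂.e ss * g := by
  rw [wr.S₁_eq] at hg
  exact wr.symm.S₁_comm_s₁ hg

theorem V₁_le_S₁ : V₁ ≤ (S : Subgroup G) ⊓ normalizer (V₁ : Set G) := le_inf wr.V₁_le_S le_normalizer

theorem V₂_le_S₁ : V₂ ≤ (S : Subgroup G) ⊓ normalizer (V₁ : Set G) := by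
  rw [wr.S₁_eq]; exact wr.symm.V₁_le_S₁

theorem V₁_ne_V₂ {v : G} (h1 : v ∈ V₁) (h2 : v ∈ V₂) : v = 1 := by
  have : v ∈ V₁ ⊓ V₂ := ⟨h1, h2⟩
  rwa [wr.inf, mem_bot] at this

/-- the elements of `Z(S₁)` of order two which are fixed by `L₂` -/
theorem zS₁_fixed {g : G} (hg : g ∈ L₂) (hi : M₂.Ind g c5) {x : G}
    (hx : x ∈ zc ((S : Subgroup G) ⊓ normalizer (V₁ : Set G))) (hgx : g * x = x * g) :
    x = 1 ∨ x = M₁.e ss := by
  have h1 : g * M₁.e ss = M₁.e ss * g := wr.L₂_comm hg (M₁.e_mem ss)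
  have h0 := (Hom5.base M₂ (zpowers g)).eq_one_of_fixed (mem_zpowers g) hi (x := ss)
  rcases wr.zS₁_le hx with h | h | h | h
  · exact Or.inl h
  · exact Or.inr h
  · exfalso
    rw [h] at hgx
    exact s_ne M₂ (h0 hgx)
  · exfalso
    rw [h] at hgx
    refine s_ne M₂ (h0 ?_)
    refine mul_left_cancel (a := M₁.e ss) ?_
    calc M₁.e ss * (g * M₂.e ss) = (g * M₁.e ss) * M₂.e ss := by rw [h1]; group
      _ = M₁.e ss * (M₂.e ss * g) := by rw [← mul_assoc, ← hgx]; group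

/-- **A 2-group normalised by `L₁` and `S₁` centralises `V₁`.** -/
theorem half {W : Subgroup G} (hW2 : IsPGroup 2 W) (hLW : L₁ ≤ normalizer (W : Set G))
    (hSW : (S : Subgroup G) ⊓ normalizer (V₁ : Set G) ≤ normalizer (W : Set G)) :
    W ≤ centralizer (V₁ : Set G) := by
  set T := (S : Subgroup G) ⊓ normalizer (V₁ : Set G) with hT
  have hTW2 : IsPGroup 2 (T ⊔ W : Subgroup G) :=
    (S.isPGroup'.to_le inf_le_left).to_sup_of_normal_right' hW2 hSW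
  have hLT : L₁ ⊔ T ≤ P ⊓ normalizer (V₁ : Set G) :=
    sup_le (le_inf wr.L₁_le M₁.le_normalizer) (inf_le_inf_right _ wr.S_le)
  have hW₀ : W ⊓ (L₁ ⊔ T) ≤ centralizer (V₁ : Set G) := by
    refine le_centralizer_of_normal M₁ (hW2.to_le inf_le_left) ?_ fun g hg => ?_
    · exact Half.le_normalizer_inf hLW (le_sup_left.trans le_normalizer)
    · have h1 := hLT hg.2
      obtain ⟨p, q, hp, -⟩ := wr.ind_of_norm h1.1 h1.2
      exact ⟨p, hp⟩
  have hc1 := Block.card_sup_mul_card_inf (H := T) (N := W) hSW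
  have hc2 := Half.card_le_sylow S hTW2
  rw [wr.card_S₁] at hc2
  have hc3 : Nat.card W ≤ 4 * Nat.card (T ⊓ W : Subgroup G) := by
    have h3 : Nat.card T * Nat.card W ≤ Nat.card T * (4 * Nat.card (T ⊓ W : Subgroup G)) := by
      rw [← hc1]
      calc _ ≤ 2 * Nat.card T * Nat.card (T ⊓ W : Subgroup G) := Nat.mul_le_mul_right _ hc2
        _ ≤ 4 * Nat.card T * Nat.card (T ⊓ W : Subgroup G) :=
          Nat.mul_le_mul_right _ (Nat.mul_le_mul_right _ (by norm_num))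
        _ = _ := by ring
    exact Nat.le_of_mul_le_mul_left h3 Nat.card_pos
  have qd : QD M₁ W (W ⊓ (L₁ ⊔ T)) :=
    { VL := wr.V₁_le_L₁
      LW := hLW
      W₀W := inf_le_left
      L0 := Half.le_normalizer_inf hLW (le_sup_left.trans le_normalizer)
      W₀V := hW₀
      card := hc3.trans (Nat.mul_le_mul_left _
        (Subgroup.card_le_of_le (le_inf inf_le_right (inf_le_left.trans le_sup_right)))) }
  obtain ⟨c, hc, -, hc1, hcT⟩ := qd.exists_fixed_hom hTW2 wr.S₁_le_normalizer_L₁ hSW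
    (Half.le_normalizer_inf hSW (le_sup_right.trans le_normalizer)) wr.S₁_twist
  obtain ⟨g, hg, hi⟩ := qd.exists_five
  have hgL : g ∈ L₁ := Ker_le hg
  have hgσ : g * M₂.e ss = M₂.e ss * g := wr.L₁_comm hgL (M₂.e_mem ss)
  -- the value at `ss` lies in `Z(S₁)`
  have hcS : c ss ∈ zc T := by
    refine mem_zc.2 ⟨wr.o2P_le_S₁ (centralizer_o2_le wr.hG S wr.star.isLoc
      (mem_centralizer_iff.2 fun x hx => hcT x ((le_sup_left : T ≤ T ⊔ W) (wr.o2P_le_S₁ hx)))),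
      fun y hy => hcT y ((le_sup_left : T ≤ T ⊔ W) hy), by rw [pow_two]; exact hc.sq ss⟩
  have hprod : Hom5 M₁ (Ker L₁ W (W ⊓ (L₁ ⊔ T))) fun z => c z * M₁.e z :=
    hc.mul (Hom5.base _ _) fun z z' =>
      (hc.comm_of_mem (qd.V_le_Ker (M₁.e_mem z')) (M₁.e_mem z') z).symm
  have hcs : c ss = M₁.e ss := by
    rcases wr.zS₁_le hcS with h1 | h1 | h1 | h1
    · exact absurd h1 hc1
    · exact h1
    · exact absurd (hc.eq_one_of_fixed hg hi (by rw [h1]; exact hgσ)) hc1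
    · exfalso
      have h2 : c ss * M₁.e ss = M₂.e ss := by
        rw [h1, ← wr.comm (M₁.e_mem ss) (M₂.e_mem ss) |>.symm, mul_assoc, M₁.e_sq, mul_one]
      have h3 := hprod.eq_one_of_fixed hg hi (x := ss) (by rw [h2]; exact hgσ)
      rw [h2] at h3
      exact s_ne M₂ h3
  -- `W` centralises `σ₁`, so all of `V₁`
  have hW1 : ∀ w ∈ W, w * M₁.e ss = M₁.e ss * w := fun w hw => by
    have := hcT w ((le_sup_right : W ≤ T ⊔ W) hw)
    rwa [hcs] at this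
  have key := (Hom5.base M₁ (Ker L₁ W (W ⊓ (L₁ ⊔ T)))).mem_of_mem hg hi (X := centralizer (W : Set G))
    (fun u hu => by
      refine mem_centralizer_iff.2 fun w hw => ?_
      have h1 : g⁻¹ * w * g⁻¹⁻¹ ∈ W := (mem_normalizer_iff.1 (inv_mem (hLW hgL)) w).1 hw
      rw [inv_inv] at h1
      have h2 := mem_centralizer_iff.1 hu _ h1
      calc w * (g * u * g⁻¹) = g * ((g⁻¹ * w * g) * u) * g⁻¹ := by group
        _ = g * (u * (g⁻¹ * w * g)) * g⁻¹ := by rw [h2]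
        _ = g * u * g⁻¹ * w := by group)
    ss_ne.1 ss_ne.2 (mem_centralizer_iff.2 hW1)
  intro w hw
  refine mem_centralizer_iff.2 fun v hv => ?_
  obtain ⟨z, rfl⟩ := (M₁.mem_iff v).1 hv
  exact (mem_centralizer_iff.1 (key z) w hw).symm

/-- **`V₁ ≤ O₂(H)` for `H ≥ L₁ S₁` of characteristic 2.** -/
theorem half_le {H : Subgroup G} (hH : H ⊓ centralizer (o2 H : Set G) ≤ o2 H) (hL : L₁ ≤ H)
    (hS : (S : Subgroup G) ⊓ normalizer (V₁ : Set G) ≤ H) : V₁ ≤ o2 H := fun v hv =>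
  hH ⟨hL (wr.V₁_le_L₁ hv), mem_centralizer_iff.2 fun x hx =>
    (mem_centralizer_iff.1 (wr.half (o2_isPGroup H) (hL.trans (le_normalizer_o2 H))
      (hS.trans (le_normalizer_o2 H)) hx) v hv).symm⟩

theorem half_cent {H : Subgroup G} (hL : L₁ ≤ H) (hS : (S : Subgroup G) ⊓ normalizer (V₁ : Set G) ≤ H) :
    o2 H ≤ centralizer (V₁ : Set G) :=
  wr.half (o2_isPGroup H) (hL.trans (le_normalizer_o2 H)) (hS.trans (le_normalizer_o2 H))

/-- `V₁ ≤ O₂(N_G(V₂))`, `O₂(N_G(V₂)) ≤ C(V₁)` -/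
theorem V₁_le_o2_normalizer : V₁ ≤ o2 (normalizer (V₂ : Set G)) := by
  refine wr.half_le ?_ ?_ ?_
  · refine MinSimple.Basic.char2_normalizer wr.hG M₂.isPGroup fun h => ?_
    exact s_ne M₂ (mem_bot.1 (h.le (M₂.e_mem ss)))
  · exact fun g hg => centralizer_le_normalizer _ (mem_centralizer_iff.2 fun v hv =>
      (wr.L₁_comm hg hv).symm)
  · rw [wr.S₁_eq]; exact inf_le_right

/-- `V₁ ≤ O₂(C_G(v))` for `v ∈ V₂` fixed by `S₁`. -/
theorem V₁_le_o2_centralizer : V₁ ≤ o2 (centralizer ({M₂.e ss} : Set G)) ∧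
    o2 (centralizer ({M₂.e ss} : Set G)) ≤ centralizer (V₁ : Set G) := by
  have h1 : L₁ ≤ centralizer ({M₂.e ss} : Set G) := fun g hg => mem_C.2 (wr.L₁_comm hg (M₂.e_mem ss))
  have h2 : (S : Subgroup G) ⊓ normalizer (V₁ : Set G) ≤ centralizer ({M₂.e ss} : Set G) := fun g hg =>
    mem_C.2 (wr.S₁_comm_s₂ hg)
  refine ⟨fun v hv => ?_, wr.half_cent h1 h2⟩
  refine le_o2_of_comm wr.hG (e_sq' M₂ ss) (s_ne M₂) (wr.comm hv (M₂.e_mem ss)) fun q hq => Or.inl ?_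
  have h3 := mem_centralizer_iff.1 (wr.half_cent h1 h2 hq) v hv
  rw [h3]
  group

/-- 'No triangle' is symmetric. -/
theorem nt_symm (h : ¬ 2 ∣ ((S : Subgroup G) ⊓ normalizer (V₁ : Set G)).relIndex
    (centralizer ({M₁.e ss} : Set G))) :
    ¬ 2 ∣ ((S : Subgroup G) ⊓ normalizer (V₂ : Set G)).relIndex (centralizer ({M₂.e ss} : Set G)) := by
  obtain ⟨s, hs, p, q, hsw⟩ := wr.swap
  have h1 := wr.sw_ss wr.S_le hs hsw
  set φ := MulAut.conj s with hφ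
  have e1 : φ • ((S : Subgroup G) ⊓ normalizer (V₁ : Set G)) =
      (S : Subgroup G) ⊓ normalizer (V₂ : Set G) := by
    have key : ∀ {V V' : Subgroup G} {t : G} (_ : t ∈ (S : Subgroup G)) (_ : ∀ v ∈ V', t⁻¹ * v * t ∈ V)
        (_ : ∀ v ∈ V, t * v * t⁻¹ ∈ V') {g : G}, g ∈ (S : Subgroup G) ⊓ normalizer (V : Set G) →
        t * g * t⁻¹ ∈ (S : Subgroup G) ⊓ normalizer (V' : Set G) := by
      intro V V' t ht h1 h2 g hg
      refine ⟨(S : Subgroup G).mul_mem ((S : Subgroup G).mul_mem ht hg.1) ((S : Subgroup G).inv_mem ht), ?_⟩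
      refine MinSimple.VModule.mem_normalizer_of_map_le ?_
      rintro _ ⟨v, hv, rfl⟩
      have h3 := h2 _ ((mem_normalizer_iff.1 hg.2 _).1 (h1 v hv))
      have e : t * (g * (t⁻¹ * v * t) * g⁻¹) * t⁻¹ = t * g * t⁻¹ * v * (t * g * t⁻¹)⁻¹ := by group
      rwa [e] at h3
    have h12 : ∀ v ∈ V₁, s * v * s⁻¹ ∈ V₂ := by
      intro v hv
      obtain ⟨x, rfl⟩ := (M₁.mem_iff v).1 hv
      rw [hsw.1]; exact M₂.e_mem _
    have h21 : ∀ v ∈ V₂, s⁻¹ * v * s ∈ V₁ := by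
      intro v hv
      obtain ⟨x, rfl⟩ := (M₂.mem_iff v).1 hv
      have e1 := hsw.1 (x ∘ p)
      have e2 : (x ∘ p) ∘ p.symm = x := by funext i; simp
      rw [e2] at e1
      rw [← e1]
      have e3 : s⁻¹ * (s * M₁.e (x ∘ p) * s⁻¹) * s = M₁.e (x ∘ p) := by group
      rw [e3]; exact M₁.e_mem _
    apply le_antisymm
    · rintro _ ⟨g, hg, rfl⟩
      exact key hs h21 h12 hg
    · intro g hg
      have := key (inv_mem hs) (by rwa [inv_inv]) (by rw [inv_inv]; exact h21) hg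
      rw [inv_inv] at this
      exact ⟨s⁻¹ * g * s, this, by
        change s * (s⁻¹ * g * s) * s⁻¹ = g
        group⟩
  have e2 : φ • (centralizer ({M₁.e ss} : Set G)) = centralizer ({M₂.e ss} : Set G) := by
    apply le_antisymm
    · rintro _ ⟨g, hg, rfl⟩
      refine mem_C.2 ?_
      change s * g * s⁻¹ * M₂.e ss = M₂.e ss * (s * g * s⁻¹)
      rw [← h1]
      calc s * g * s⁻¹ * (s * M₁.e ss * s⁻¹) = s * (g * M₁.e ss) * s⁻¹ := by group
        _ = s * (M₁.e ss * g) * s⁻¹ := by rw [mem_C.1 hg]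
        _ = s * M₁.e ss * s⁻¹ * (s * g * s⁻¹) := by group
    · intro g hg
      refine ⟨s⁻¹ * g * s, mem_C.2 ?_, by
        change s * (s⁻¹ * g * s) * s⁻¹ = g
        group⟩
      have h2 := mem_C.1 hg
      rw [← h1] at h2
      calc s⁻¹ * g * s * M₁.e ss = s⁻¹ * (g * (s * M₁.e ss * s⁻¹)) * s := by group
        _ = s⁻¹ * (s * M₁.e ss * s⁻¹ * g) * s := by rw [h2]
        _ = M₁.e ss * (s⁻¹ * g * s) := by group
  rw [← e1, ← e2, relIndex_pointwise_smul]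
  exact h

end fin

end Wr

end Cfsg.Agent.Omega.IId.LFour

end

section


/-!
# `Q_n ≤ T_n` centralises `n^⊥ V₂` (project OMEGA, II.d L4; #14703 A (3), no Sylow condition: #16990 (A))

`w : Wr S P M₁ M₂`, `S₁ = N_S(V₁)`, `n = M₁.e nn`, `T = C_S(n)`, `Q_n = O₂(C_G(n))`.

* `Wr.perp_cent` : `Q_n` centralises `n^⊥ = {M₁.e y | y 0 = y 1}`;
* `Wr.Q_le_T` : `Q_n ≤ T`;
* `Wr.Q_ind` : `Q_n` acts on `V₁` as a subgroup of `⟨(0 1)⟩` and trivially on `V₂`;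
* `Wr.V₁_le_Q`, `Wr.quarter` : `V ≤ Q_n`;
* `Wr.S₁_syl` : `S₁` is Sylow in `C(σ₁) ∩ C(σ₂)`; `Wr.T_syl` : `T` is Sylow in `C(n) ∩ C(σ₁) ∩ C(σ₂)`.
-/

set_option autoImplicit false
set_option linter.unusedSectionVars false

namespace Cfsg.Agent.Omega.IId.LFour

open Subgroup Pointwise Cfsg Cfsg.Agent.ZN Cfsg.Agent.Omega.MinPar Cfsg.Agent.Omega.FFThm
open Cfsg.Agent.ZN.ChoiceBase (cj mem_cj)
open Cfsg.Agent.Omega.S5.Mod Cfsg.Agent.Omega.S5.TT
open Cfsg.Agent.Omega.S5.TT.Pos (na ns as sn n_ne s_ne a_ne n_ne_a n_ne_s a_ne_s e_sq' mem_C)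
open Cfsg.Agent.Omega.Half (Amb amb_of_loc)
open Cfsg.Agent.MinSimple.VModule (mem_zc zc_le zc_comm zc_sq zc_le_zl le_normalizer_o2 o2_isPGroup o2_le
  normalizer_le_normalizer_zc le_normalizer_zl)
open Cfsg.Agent.Omega.TwoFFour (Syl2)

universe u

variable {G : Type u} [Group G]

/-! ### Permutations -/

theorem stab_normal : ∀ p : Equiv.Perm (Fin 5), (nn ∘ p.symm = nn ∨ nn ∘ p.symm = nn + 1) →
    (p = 1 ∨ p = Equiv.swap 0 1) ∨ ∃ a b : Fin 5,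
    nn ∘ (Equiv.swap a b).symm = nn ∧ p * (Equiv.swap a b * p⁻¹ * (Equiv.swap a b)⁻¹) ≠ 1 ∧
    (p * (Equiv.swap a b * p⁻¹ * (Equiv.swap a b)⁻¹)) ^ 3 = 1 := by
  decide +kernel

/-- `b = {3, 4}` -/
def bb : Vec := ![0, 0, 0, 1, 1]

theorem perp_span : ∀ y : Vec, y 0 = y 1 → ∃ b₀ b₁ b₂ : Bool,
    cond b₀ nn 0 + cond b₁ aa 0 + cond b₂ bb 0 = y ∨ cond b₀ nn 0 + cond b₁ aa 0 + cond b₂ bb 0 = y + 1 := by
  decide +kernel

theorem perp_swap (y : Vec) (h : y 0 = y 1) : y ∘ (Equiv.swap 0 1 : Equiv.Perm (Fin 5)).symm = y := by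
  revert h; revert y; decide +kernel

/-- the commutators of `(0 1)` -/
theorem swap_add : ∀ y : Vec, y ∘ (Equiv.swap 0 1 : Equiv.Perm (Fin 5)).symm + y = 0 ∨
    y ∘ (Equiv.swap 0 1 : Equiv.Perm (Fin 5)).symm + y = nn := by
  decide +kernel

theorem card_le_of_syl [Finite G] {Q L R : Subgroup G} (h : Syl2 Q L) (hR : R ≤ L) (h2 : IsPGroup 2 R) :
    Nat.card R ≤ Nat.card Q := by
  obtain ⟨x, -, hx⟩ := h.exists_conj_le hR h2
  refine Nat.card_le_card_of_injective (fun r : R => (⟨x * r * x⁻¹, hx r r.2⟩ : Q)) ?_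
  intro r r' hrr
  have h1 : x * r * x⁻¹ = x * r' * x⁻¹ := congrArg Subtype.val hrr
  exact Subtype.ext (by simpa using h1)

theorem syl_of_card [Finite G] {Q L R : Subgroup G} (h : Syl2 Q L) (hR : R ≤ L) (h2 : IsPGroup 2 R)
    (hc : Nat.card R = Nat.card Q) : Syl2 R L := by
  refine ⟨hR, h2, fun hd => h.odd ?_⟩
  have h3 := Half.card_mul_relIndex h.le
  have h4 := Half.card_mul_relIndex hR
  rw [hc] at h4
  have h5 : Q.relIndex L = R.relIndex L := Nat.eq_of_mul_eq_mul_left Nat.card_pos (h3.trans h4.symm)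
  rwa [h5]

/-- an element acting as `1` or `(0 1)` centralises `n^⊥` -/
theorem comm_perp {V L : Subgroup G} {M : FiveMod V L} {g : G}
    (h : M.Ind g 1 ∨ M.Ind g (Equiv.swap 0 1)) {y : Vec} (hy : y 0 = y 1) :
    g * M.e y = M.e y * g := by
  rcases h with h | h
  · exact (h.commute_iff _).2 (Or.inl rfl)
  · exact (h.commute_iff _).2 (Or.inl (perp_swap y hy))

/-- `|R : T| = 2` -/
theorem index_two [Finite G] {T R : Subgroup G} (hTR : T ≤ R) (hc : Nat.card R ≤ 2 * Nat.card T) {w : G}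
    (hw : w ∈ R) (hwT : w ∉ T) :
    (∀ b ∈ R, ∀ t ∈ T, b * t * b⁻¹ ∈ T) ∧ ∀ a ∈ R, a ∉ T → w⁻¹ * a ∈ T := by
  have h1 : Nat.card T * T.relIndex R = Nat.card R := Half.card_mul_relIndex hTR
  have h3 : T.relIndex R = 2 := by
    have h4 : T.relIndex R ≠ 1 := fun h => hwT ((relIndex_eq_one.1 h) hw)
    have h5 : T.relIndex R ≠ 0 := fun h => by
      rw [h, mul_zero] at h1
      exact Nat.card_pos.ne h1
    have h6 : T.relIndex R ≤ 2 := by
      by_contra h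
      push Not at h
      have h7 : 2 * Nat.card T < Nat.card T * T.relIndex R := by
        rw [mul_comm]
        exact Nat.mul_lt_mul_of_pos_left h Nat.card_pos
      omega
    omega
  have h4 : (T.subgroupOf R).index = 2 := h3
  have hnor := normal_of_index_eq_two h4
  refine ⟨fun b hb t ht => ?_, fun a ha haT => ?_⟩
  · have h5 := hnor.conj_mem (⟨t, hTR ht⟩ : R) (mem_subgroupOf.2 ht) ⟨b, hb⟩
    exact mem_subgroupOf.1 h5
  · have h5 := mul_mem_iff_of_index_two h4 (a := (⟨w, hw⟩ : R)⁻¹) (b := ⟨a, ha⟩)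
    rw [inv_mem_iff] at h5
    have h6 := h5.mpr (iff_of_false (fun h => hwT (mem_subgroupOf.mp h)) (fun h => haT (mem_subgroupOf.mp h)))
    exact mem_subgroupOf.mp h6

namespace Wr

variable {S : Sylow 2 G} {P V₁ V₂ L₁ L₂ : Subgroup G} {M₁ : FiveMod V₁ L₁} {M₂ : FiveMod V₂ L₂}

section fin

variable [Finite G] (wr : Wr S P M₁ M₂)
include wr

theorem syl_symm (h : Syl2 ((S : Subgroup G) ⊓ normalizer (V₁ : Set G)) (centralizer ({M₁.e ss} : Set G))) :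
    Syl2 ((S : Subgroup G) ⊓ normalizer (V₂ : Set G)) (centralizer ({M₂.e ss} : Set G)) := by
  refine ⟨?_, S.isPGroup'.to_le inf_le_left, wr.nt_symm h.odd⟩
  exact fun g hg => mem_C.2 (wr.symm.S₁_comm_s₁ hg)

/-- `σ₁, σ₂ ≠ n` -/
theorem n_not_mem : ¬ (M₁.e nn = 1 ∨ M₁.e nn = M₁.e ss ∨ M₁.e nn = M₂.e ss ∨
    M₁.e nn = M₁.e ss * M₂.e ss) := by
  rintro (h | h | h | h)
  · exact n_ne M₁ h
  · exact n_ne_s M₁ h
  · exact n_ne M₁ (wr.V₁_ne_V₂ (M₁.e_mem nn) (by rw [h]; exact M₂.e_mem ss))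
  · have h1 : M₂.e ss = M₁.e ss * M₁.e nn := by rw [h, ← mul_assoc, M₁.e_sq, one_mul]
    refine s_ne M₂ (wr.V₁_ne_V₂ ?_ (M₂.e_mem ss))
    rw [h1]
    exact mul_mem (M₁.e_mem _) (M₁.e_mem _)

/-! ### The subgroup `X = C_{L₁}(n) L₂ T` -/

theorem X_le : (L₁ ⊓ centralizer ({M₁.e nn} : Set G)) ⊔ L₂ ⊔
    ((S : Subgroup G) ⊓ centralizer ({M₁.e nn} : Set G)) ≤ P ⊓ centralizer ({M₁.e nn} : Set G) :=
  sup_le (sup_le (inf_le_inf_right _ wr.L₁_le) (le_inf wr.L₂_le wr.L₂_le_C)) (inf_le_inf_right _ wr.S_le)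

theorem X_ind {g : G} (hg : g ∈ (L₁ ⊓ centralizer ({M₁.e nn} : Set G)) ⊔ L₂ ⊔
    ((S : Subgroup G) ⊓ centralizer ({M₁.e nn} : Set G))) : ∃ p q, M₁.Ind g p ∧ M₂.Ind g q ∧
      (nn ∘ p.symm = nn ∨ nn ∘ p.symm = nn + 1) := by
  have h1 := wr.X_le hg
  obtain ⟨p, q, hp, hq⟩ := wr.ind_of_comm h1.1 (M₁.e_mem nn) (n_ne M₁) (mem_C.1 h1.2)
  exact ⟨p, q, hp, hq, (hp.commute_iff _).1 (mem_C.1 h1.2)⟩

/-- a normal 2-subgroup of `X` acts as `⟨(0 1)⟩` on `V₁` -/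
theorem X_normal {N : Subgroup G} (hN2 : IsPGroup 2 N)
    (hNX : N ≤ (L₁ ⊓ centralizer ({M₁.e nn} : Set G)) ⊔ L₂ ⊔
      ((S : Subgroup G) ⊓ centralizer ({M₁.e nn} : Set G)))
    (hn : L₁ ⊓ centralizer ({M₁.e nn} : Set G) ≤ normalizer (N : Set G)) {g : G} (hg : g ∈ N) :
    M₁.Ind g 1 ∨ M₁.Ind g (Equiv.swap 0 1) := by
  obtain ⟨p, -, hp, -, hnp⟩ := wr.X_ind (hNX hg)
  rcases stab_normal p hnp with (h | h) | ⟨a, b, hab, hr1, hr⟩
  · left; rwa [h] at hp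
  · right; rwa [h] at hp
  · exfalso
    set r := Equiv.swap a b
    obtain ⟨l, hl, hi⟩ := M₁.exists_lift r
    have hi : M₁.Ind l r := hi
    have hln : l ∈ L₁ ⊓ centralizer ({M₁.e nn} : Set G) :=
      ⟨hl, mem_C.2 ((hi.commute_iff _).2 (Or.inl hab))⟩
    have h1 : g * (l * g⁻¹ * l⁻¹) ∈ N :=
      mul_mem hg ((mem_normalizer_iff.1 (hn hln) _).1 (inv_mem hg))
    have h2 : M₁.Ind (g * (l * g⁻¹ * l⁻¹)) (p * (r * p⁻¹ * r⁻¹)) := hp.mul ((hi.mul hp.inv).mul hi.inv)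
    obtain ⟨k, hk⟩ := hN2 ⟨_, h1⟩
    have hk' : (g * (l * g⁻¹ * l⁻¹)) ^ (2 ^ k) = 1 := congrArg Subtype.val hk
    have key : ∀ m : ℕ, M₁.Ind ((g * (l * g⁻¹ * l⁻¹)) ^ m) ((p * (r * p⁻¹ * r⁻¹)) ^ m) := by
      intro m
      induction m with
      | zero => rw [pow_zero, pow_zero]; exact M₁.ind_one
      | succ m ih => rw [pow_succ, pow_succ]; exact ih.mul h2
    have h3 : (p * (r * p⁻¹ * r⁻¹)) ^ (2 ^ k) = 1 := by
      have h4 := key (2 ^ k)
      rw [hk'] at h4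
      exact FiveMod.Ind.unique h4 M₁.ind_one
    have h5 : orderOf (p * (r * p⁻¹ * r⁻¹)) ∣ Nat.gcd (2 ^ k) 3 :=
      Nat.dvd_gcd (orderOf_dvd_of_pow_eq_one h3) (orderOf_dvd_of_pow_eq_one hr)
    have h6 : Nat.gcd (2 ^ k) 3 = 1 := Nat.Coprime.pow_left k (by norm_num)
    rw [h6, Nat.dvd_one, orderOf_eq_one_iff] at h5
    exact hr1 h5

/-- **The key step of A (3).** -/
theorem perp_aux {w : G} (hw : w ∈ o2 (centralizer ({M₁.e nn} : Set G)))
    (hwT' : ∀ t ∈ (S : Subgroup G) ⊓ centralizer ({M₁.e nn} : Set G),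
      w * t * w⁻¹ ∈ (S : Subgroup G) ⊓ centralizer ({M₁.e nn} : Set G))
    (hX : ∀ l ∈ (L₁ ⊓ centralizer ({M₁.e nn} : Set G)) ⊔ L₂ ⊔
      ((S : Subgroup G) ⊓ centralizer ({M₁.e nn} : Set G)), ∀ y : Vec, y 0 = y 1 →
        w⁻¹ * (l * w * l⁻¹) * M₁.e y = M₁.e y * (w⁻¹ * (l * w * l⁻¹)))
    {y : Vec} (hy : y 0 = y 1) : w * M₁.e y = M₁.e y * w := by
  set T := (S : Subgroup G) ⊓ centralizer ({M₁.e nn} : Set G) with hT
  set X := (L₁ ⊓ centralizer ({M₁.e nn} : Set G)) ⊔ L₂ ⊔ T with hXdef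
  have hwn : w * M₁.e nn = M₁.e nn * w := mem_C.1 (o2_le _ hw)
  -- equivariance
  have heq : ∀ l ∈ X, ∀ (z z' : Vec), z' 0 = z' 1 → l * M₁.e z * l⁻¹ = M₁.e z' →
      l * (w * M₁.e z * w⁻¹) * l⁻¹ = w * M₁.e z' * w⁻¹ := by
    intro l hl z z' hz' h
    have h1 := hX l hl z' hz'
    calc l * (w * M₁.e z * w⁻¹) * l⁻¹ =
        w * ((w⁻¹ * (l * w * l⁻¹)) * (l * M₁.e z * l⁻¹)) * (l * w⁻¹ * l⁻¹) := by group
      _ = w * (M₁.e z' * (w⁻¹ * (l * w * l⁻¹))) * (l * w⁻¹ * l⁻¹) := by rw [h, h1]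
      _ = w * M₁.e z' * w⁻¹ := by group
  have hcomm : ∀ l ∈ X, ∀ z : Vec, z 0 = z 1 → l * M₁.e z = M₁.e z * l →
      l * (w * M₁.e z * w⁻¹) = w * M₁.e z * w⁻¹ * l := by
    intro l hl z hz h
    have h1 := heq l hl z z hz (by rw [h, mul_inv_cancel_right])
    rwa [mul_inv_eq_iff_eq_mul] at h1
  have hTX : T ≤ X := le_sup_right
  have hL₂X : L₂ ≤ X := le_sup_right.trans le_sup_left
  have hL₁X : L₁ ⊓ centralizer ({M₁.e nn} : Set G) ≤ X := le_sup_left.trans le_sup_left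
  set u := w * M₁.e aa * w⁻¹ with hu
  have haa : aa 0 = aa 1 := by decide
  have haT : M₁.e aa ∈ T := ⟨wr.V₁_le_S (M₁.e_mem aa), mem_C.2 (M₁.e_comm aa nn)⟩
  have huT : u ∈ T := hwT' _ haT
  have huu : u * u = 1 := by
    calc u * u = w * (M₁.e aa * M₁.e aa) * w⁻¹ := by rw [hu]; group
      _ = 1 := by rw [M₁.e_sq]; group
  have huc : ∀ t ∈ T, t * u = u * t := fun t ht => hcomm t (hTX ht) aa haa (wr.T_comm_a ht)
  have huL : ∀ l ∈ L₂, l * u = u * l := fun l hl =>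
    hcomm l (hL₂X hl) aa haa (wr.L₂_comm hl (M₁.e_mem aa))
  -- `x`
  obtain ⟨x, hx, hxi⟩ := wr.exists_x
  have hxi' : M₁.Ind x⁻¹ tt := by
    have := hxi.inv
    rwa [tt_inv] at this
  have hxx : x * x ∈ T := mem_T_of_ind (mul_mem hx.1 hx.1) (Or.inl rfl) (by
    have := hxi.mul hxi
    rwa [tt_tt] at this)
  obtain ⟨g, hgL, hgi⟩ := M₂.exists_lift c5
  have hgi : M₂.Ind g c5 := hgi
  have hgxL : x⁻¹ * g * x ∈ L₂ := by
    have := wr.conj_L₂ (inv_mem (wr.S_le hx.1)) hxi' hgL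
    rwa [inv_inv] at this
  have huc' : ∀ t ∈ T, t * (x * u * x⁻¹) = x * u * x⁻¹ * t := by
    intro t ht
    have h1 := huc _ (wr.conj_T (inv_mem hx.1) hxi' ht)
    rw [inv_inv] at h1
    calc t * (x * u * x⁻¹) = x * ((x⁻¹ * t * x) * u) * x⁻¹ := by group
      _ = x * (u * (x⁻¹ * t * x)) * x⁻¹ := by rw [h1]
      _ = x * u * x⁻¹ * t := by group
  have hug : g * u = u * g := huL g hgL
  have hug' : g * (x * u * x⁻¹) = x * u * x⁻¹ * g := by
    have h1 := huL _ hgxL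
    calc g * (x * u * x⁻¹) = x * ((x⁻¹ * g * x) * u) * x⁻¹ := by group
      _ = x * (u * (x⁻¹ * g * x)) * x⁻¹ := by rw [h1]
      _ = x * u * x⁻¹ * g := by group
  have hTS : T ≤ (S : Subgroup G) ⊓ normalizer (V₁ : Set G) := wr.T_le
  have hxuT : x * u * x⁻¹ ∈ T := wr.conj_T hx.1 hxi huT
  have huxu : u * (x * u * x⁻¹) = x * u * x⁻¹ * u := huc' u huT
  have hmk : ∀ {v : G}, v ∈ T → (∀ t ∈ T, t * v = v * t) → x * v = v * x → v * v = 1 → g * v = v * g →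
      v = 1 ∨ v = M₁.e ss := by
    intro v hv hvt hvx hvv hgv
    refine wr.zS₁_fixed hgL hgi (mem_zc.2 ⟨hTS hv, fun b hb => ?_, by rw [pow_two]; exact hvv⟩) hgv
    rcases wr.mem_or₁ hx.1 hxi hb with h1 | h1
    · exact hvt b h1
    · have h2 := hvt _ h1
      have h3 : b * v * x = v * b * x := by
        calc b * v * x = b * (v * x) := by group
          _ = b * x * v := by rw [← hvx]; group
          _ = v * (b * x) := h2
          _ = v * b * x := by group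
      exact mul_right_cancel h3
  have hu1 : u ≠ 1 := by
    rw [hu, Ne, mul_inv_eq_one, mul_eq_left]
    exact a_ne M₁
  -- `u ∈ {σ₁, a}`
  have hcase : u = M₁.e ss ∨ u = M₁.e aa := by
    have hδT : u * (x * u * x⁻¹) ∈ T := mul_mem huT hxuT
    have hδc : ∀ t ∈ T, t * (u * (x * u * x⁻¹)) = u * (x * u * x⁻¹) * t := by
      intro t ht
      calc t * (u * (x * u * x⁻¹)) = (t * u) * (x * u * x⁻¹) := by group
        _ = u * (t * (x * u * x⁻¹)) := by rw [huc t ht]; group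
        _ = u * (x * u * x⁻¹) * t := by rw [huc' t ht]; group
    have hδx : x * (u * (x * u * x⁻¹)) = u * (x * u * x⁻¹) * x := by
      have h1 := huc _ hxx
      calc x * (u * (x * u * x⁻¹)) = (x * u * x⁻¹) * ((x * x) * u) * x⁻¹ := by group
        _ = (x * u * x⁻¹ * u) * x := by rw [h1]; group
        _ = u * (x * u * x⁻¹) * x := by rw [huxu]
    have hδδ : u * (x * u * x⁻¹) * (u * (x * u * x⁻¹)) = 1 := by
      calc u * (x * u * x⁻¹) * (u * (x * u * x⁻¹)) = u * ((x * u * x⁻¹) * u) * (x * u * x⁻¹) := by group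
        _ = (u * u) * (x * (u * u) * x⁻¹) := by rw [← huxu]; group
        _ = 1 := by rw [huu]; group
    have hδg : g * (u * (x * u * x⁻¹)) = u * (x * u * x⁻¹) * g := by
      calc g * (u * (x * u * x⁻¹)) = (g * u) * (x * u * x⁻¹) := by group
        _ = u * (g * (x * u * x⁻¹)) := by rw [hug]; group
        _ = u * (x * u * x⁻¹) * g := by rw [hug']; group
    rcases hmk hδT hδc hδx hδδ hδg with h1 | h1
    · left
      have h2 : x * u * x⁻¹ = u := by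
        have h3 := eq_inv_of_mul_eq_one_right h1
        rw [h3]
        exact inv_eq_of_mul_eq_one_left huu
      rw [mul_inv_eq_iff_eq_mul] at h2
      rcases hmk huT huc h2 huu hug with h3 | h3
      · exact absurd h3 hu1
      · exact h3
    · -- `u a` commutes with `x`
      have h2 : x * u * x⁻¹ = u * M₁.e ss := by
        calc x * u * x⁻¹ = (u * u) * (x * u * x⁻¹) := by rw [huu, one_mul]
          _ = u * (u * (x * u * x⁻¹)) := by group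
          _ = u * M₁.e ss := by rw [h1]
      have hua : u * M₁.e aa = M₁.e aa * u := (huc _ haT).symm
      have h3 : x * (u * M₁.e aa) = u * M₁.e aa * x := by
        have h4 := tt_a hxi
        calc x * (u * M₁.e aa) = (x * u * x⁻¹) * (x * M₁.e aa * x⁻¹) * x := by group
          _ = u * (M₁.e ss * M₁.e nn) * x := by rw [h2, h4]; group
          _ = u * M₁.e aa * x := by rw [sn]
      have h4 : u * M₁.e aa * (u * M₁.e aa) = 1 := by
        calc u * M₁.e aa * (u * M₁.e aa) = u * (M₁.e aa * u) * M₁.e aa := by group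
          _ = (u * u) * (M₁.e aa * M₁.e aa) := by rw [← hua]; group
          _ = 1 := by rw [huu, M₁.e_sq, one_mul]
      have h5 : g * (u * M₁.e aa) = u * M₁.e aa * g := by
        calc g * (u * M₁.e aa) = (g * u) * M₁.e aa := by group
          _ = u * (g * M₁.e aa) := by rw [hug]; group
          _ = u * M₁.e aa * g := by rw [wr.L₂_comm hgL (M₁.e_mem aa)]; group
      have h6 : ∀ t ∈ T, t * (u * M₁.e aa) = u * M₁.e aa * t := by
        intro t ht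
        calc t * (u * M₁.e aa) = (t * u) * M₁.e aa := by group
          _ = u * (t * M₁.e aa) := by rw [huc t ht]; group
          _ = u * M₁.e aa * t := by rw [wr.T_comm_a ht]; group
      rcases hmk (mul_mem huT haT) h6 h3 h4 h5 with h7 | h7
      · right
        have h8 := eq_inv_of_mul_eq_one_left h7
        rwa [M₁.e_inv] at h8
      · exfalso
        have h8 : u = M₁.e nn := by
          have h9 : u = M₁.e ss * M₁.e aa := by
            rw [← h7, mul_assoc, M₁.e_sq, mul_one]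
          rw [h9, M₁.e_comm, as]
        rw [hu, mul_inv_eq_iff_eq_mul, ← hwn] at h8
        exact n_ne_a M₁ (mul_left_cancel h8).symm
  -- the conjugates of `a`
  obtain ⟨l₁, hl₁, i₁⟩ := M₁.exists_lift (Equiv.swap 2 4)
  have i₁ : M₁.Ind l₁ (Equiv.swap 2 4) := i₁
  have hl₁X : l₁ ∈ X := hL₁X ⟨hl₁, mem_C.2 ((i₁.commute_iff _).2 (Or.inl (by decide)))⟩
  have hb : l₁ * M₁.e aa * l₁⁻¹ = M₁.e bb := by rw [i₁, M₁.e_eq_iff]; decide
  have hbw := heq l₁ hl₁X aa bb (by decide) hb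
  have hua : u = M₁.e aa := by
    rcases hcase with h1 | h1
    swap
    · exact h1
    exfalso
    obtain ⟨l₂, hl₂, i₂⟩ := M₁.exists_lift (Equiv.swap 3 4)
    have i₂ : M₁.Ind l₂ (Equiv.swap 3 4) := i₂
    have hl₂X : l₂ ∈ X := hL₁X ⟨hl₂, mem_C.2 ((i₂.commute_iff _).2 (Or.inl (by decide)))⟩
    have hb' : l₂ * M₁.e aa * l₂⁻¹ = M₁.e (aa + bb) := by rw [i₂, M₁.e_eq_iff]; decide
    have hbw' := heq l₂ hl₂X aa (aa + bb) (by decide) hb'
    have h2 : w * M₁.e (aa + bb) * w⁻¹ = (w * M₁.e aa * w⁻¹) * (w * M₁.e bb * w⁻¹) := by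
      rw [M₁.e_add]; group
    rw [← hbw, ← hbw', ← hu, h1, i₁, i₂, ← M₁.e_add, M₁.e_eq_iff] at h2
    revert h2
    decide
  have hwa : w * M₁.e aa = M₁.e aa * w := by rwa [hu, mul_inv_eq_iff_eq_mul] at hua
  have hwb : w * M₁.e bb = M₁.e bb * w := by
    rw [← hu, hua, hb] at hbw
    have := hbw.symm
    rwa [mul_inv_eq_iff_eq_mul] at this
  -- the span
  have key : ∀ (b : Bool) (z : Vec), w * M₁.e z = M₁.e z * w → w * M₁.e (cond b z 0) =
      M₁.e (cond b z 0) * w := by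
    intro b z hz
    cases b
    · have h1 : M₁.e (cond false z 0) = 1 := M₁.e_zero
      rw [h1, mul_one, one_mul]
    · exact hz
  obtain ⟨b₀, b₁, b₂, h1⟩ := perp_span y hy
  have h2 : M₁.e y = M₁.e (cond b₀ nn 0) * M₁.e (cond b₁ aa 0) * M₁.e (cond b₂ bb 0) := by
    rw [← M₁.e_add, ← M₁.e_add, M₁.e_eq_iff]
    rcases h1 with h1 | h1
    · exact Or.inl h1.symm
    · right
      rw [h1, add_assoc, add_self, add_zero]
  rw [h2]
  calc w * (M₁.e (cond b₀ nn 0) * M₁.e (cond b₁ aa 0) * M₁.e (cond b₂ bb 0)) =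
      (w * M₁.e (cond b₀ nn 0)) * M₁.e (cond b₁ aa 0) * M₁.e (cond b₂ bb 0) := by group
    _ = M₁.e (cond b₀ nn 0) * (w * M₁.e (cond b₁ aa 0)) * M₁.e (cond b₂ bb 0) := by
      rw [key _ _ hwn]; group
    _ = M₁.e (cond b₀ nn 0) * M₁.e (cond b₁ aa 0) * (w * M₁.e (cond b₂ bb 0)) := by
      rw [key _ _ hwa]; group
    _ = _ := by rw [key _ _ hwb]; group

/-- A 2-subgroup with two involutions in its centre is not a Sylow 2-subgroup of `G`. -/
theorem card_le_half {R : Subgroup G} (hR2 : IsPGroup 2 R) {a b : G} (ha : a ∈ R) (hb : b ∈ R)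
    (haR : ∀ r ∈ R, r * a = a * r) (hbR : ∀ r ∈ R, r * b = b * r) (ha2 : a ^ 2 = 1) (hb2 : b ^ 2 = 1)
    (ha1 : a ≠ 1) (hb1 : b ≠ 1) (hab : a ≠ b) :
    Nat.card R ≤ 2 * Nat.card ((S : Subgroup G) ⊓ centralizer ({M₁.e nn} : Set G) : Subgroup G) := by
  have h1 := Half.card_le_sylow S hR2
  have h2 : Nat.card R ≠ Nat.card (S : Subgroup G) := by
    intro h0
    have hz2 : Nat.card (zc R) ≤ 2 := by
      rw [Half.card_zc_of_card_eq S hR2 h0]
      exact wr.card_zS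
    exact hab (eq_of_card_le_two hz2 (mem_zc.2 ⟨ha, haR, ha2⟩) (mem_zc.2 ⟨hb, hbR, hb2⟩) ha1 hb1)
  have h3 := wr.card_T
  obtain ⟨a, ha⟩ := IsPGroup.iff_card.1 hR2
  obtain ⟨b, hb⟩ := IsPGroup.iff_card.1 S.isPGroup'
  rw [ha, hb] at h1 h2
  rw [hb] at h3
  rw [ha]
  have h4 : a < b := by
    rcases lt_trichotomy a b with h | h | h
    · exact h
    · exact absurd (by rw [h]) h2
    · exact absurd ((Nat.pow_le_pow_iff_right (by norm_num : 1 < 2)).1 h1) (by omega)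
  have h5 : 2 ^ (a + 1) ≤ 2 ^ b := Nat.pow_le_pow_right (by norm_num) h4
  rw [pow_succ] at h5
  omega

/-- `S₁` is a Sylow 2-subgroup of `C(σ₁) ∩ C(σ₂)`. -/
theorem S₁_syl : Syl2 ((S : Subgroup G) ⊓ normalizer (V₁ : Set G))
    (centralizer ({M₁.e ss} : Set G) ⊓ centralizer ({M₂.e ss} : Set G)) := by
  have h0 : (S : Subgroup G) ⊓ normalizer (V₁ : Set G) ≤ centralizer ({M₁.e ss} : Set G) ⊓
      centralizer ({M₂.e ss} : Set G) := fun g hg =>
    ⟨mem_C.2 (wr.S₁_comm_s₁ hg), mem_C.2 (wr.S₁_comm_s₂ hg)⟩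
  obtain ⟨R, hSR, hRH, hR2, hRs⟩ := Half.exists_sylow_le (S.isPGroup'.to_le inf_le_left) h0
  have h1 := wr.card_le_half hR2 (hSR (wr.V₁_le_S₁ (M₁.e_mem ss))) (hSR (wr.V₂_le_S₁ (M₂.e_mem ss)))
    (fun r hr => mem_C.1 (hRH hr).1) (fun r hr => mem_C.1 (hRH hr).2) (e_sq' M₁ ss) (e_sq' M₂ ss)
    (s_ne M₁) (s_ne M₂) fun h => s_ne M₁ (wr.V₁_ne_V₂ (M₁.e_mem ss) (by rw [h]; exact M₂.e_mem ss))
  rw [← wr.card_T₁] at h1
  have h2 := eq_of_le_of_card_ge hSR h1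
  rw [h2]
  exact ⟨hRH, hR2, hRs⟩

/-- **`Q_n` centralises `n^⊥`.** -/
theorem perp_cent {w : G} (hw : w ∈ o2 (centralizer ({M₁.e nn} : Set G))) {y : Vec} (hy : y 0 = y 1) :
    w * M₁.e y = M₁.e y * w := by
  set T := (S : Subgroup G) ⊓ centralizer ({M₁.e nn} : Set G) with hT
  set W := o2 (centralizer ({M₁.e nn} : Set G)) with hW
  set X := (L₁ ⊓ centralizer ({M₁.e nn} : Set G)) ⊔ L₂ ⊔ T with hX
  have hXC : X ≤ P ⊓ centralizer ({M₁.e nn} : Set G) := wr.X_le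
  have hXW : X ≤ normalizer (W : Set G) := (hXC.trans inf_le_right).trans (le_normalizer_o2 _)
  have hXn : X ≤ normalizer ((W ⊓ X : Subgroup G) : Set G) := Half.le_normalizer_inf hXW le_normalizer
  have hL₁X : L₁ ⊓ centralizer ({M₁.e nn} : Set G) ≤ X := le_sup_left.trans le_sup_left
  have hTX : T ≤ X := le_sup_right
  have hW₀ : ∀ g ∈ W ⊓ X, M₁.Ind g 1 ∨ M₁.Ind g (Equiv.swap 0 1) := fun g hg =>
    wr.X_normal ((o2_isPGroup _).to_le inf_le_left) inf_le_right (hL₁X.trans hXn) hg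
  by_cases hwX : w ∈ X
  · exact comm_perp (hW₀ w ⟨hw, hwX⟩) hy
  have hTW : Nat.card (T ⊔ W : Subgroup G) ≤ 2 * Nat.card T := wr.card_TW_le
  have hwTW : w ∈ T ⊔ W := (le_sup_right : W ≤ T ⊔ W) hw
  obtain ⟨h1, h2⟩ := index_two (le_sup_left : T ≤ T ⊔ W) hTW hwTW fun h => hwX (hTX h)
  refine wr.perp_aux hw (fun t ht => h1 w hwTW t ht) (fun l hl y hy => ?_) hy
  have h3 : l * w * l⁻¹ ∈ W := (mem_normalizer_iff.1 (hXW hl) w).1 hw
  have h4 : l * w * l⁻¹ ∉ T := by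
    intro h5
    apply hwX
    have h6 := X.mul_mem (X.mul_mem (X.inv_mem hl) (hTX h5)) hl
    have e : l⁻¹ * (l * w * l⁻¹) * l = w := by group
    rwa [e] at h6
  have h5 := h2 _ ((le_sup_right : W ≤ T ⊔ W) h3) h4
  exact comm_perp (hW₀ _ ⟨W.mul_mem (W.inv_mem hw) h3, hTX h5⟩) hy

/-- `T` is a maximal 2-subgroup of `C(n) ∩ C(σ₁) ∩ C(σ₂)`. -/
theorem T_max
    {R : Subgroup G} (hR2 : IsPGroup 2 R) (hTR : (S : Subgroup G) ⊓ centralizer ({M₁.e nn} : Set G) ≤ R)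
    (hn : R ≤ centralizer ({M₁.e nn} : Set G)) (h₁ : R ≤ centralizer ({M₁.e ss} : Set G))
    (h₂ : R ≤ centralizer ({M₂.e ss} : Set G)) :
    R = (S : Subgroup G) ⊓ centralizer ({M₁.e nn} : Set G) := by
  set T := (S : Subgroup G) ⊓ centralizer ({M₁.e nn} : Set G) with hT
  set S₁ := (S : Subgroup G) ⊓ normalizer (V₁ : Set G) with hS₁
  have hc : Nat.card R ≤ 2 * Nat.card T := wr.card_le_half hR2 (hTR wr.n_mem_T)
    (hTR (wr.V₂_le_T (M₂.e_mem ss))) (fun r hr => mem_C.1 (hn hr)) (fun r hr => mem_C.1 (h₂ hr))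
    (e_sq' M₁ nn) (e_sq' M₂ ss) (n_ne M₁) (s_ne M₂) fun h =>
      wr.n_not_mem (Or.inr (Or.inr (Or.inl h)))
  by_contra hne
  have h1 : Nat.card T * T.relIndex R = Nat.card R := Half.card_mul_relIndex hTR
  have h2 : T.relIndex R ≠ 1 := fun h => hne (le_antisymm (relIndex_eq_one.1 h) hTR)
  have h3 : T.relIndex R ≠ 0 := fun h => by
    rw [h, mul_zero] at h1
    exact Nat.card_pos.ne h1
  have h4 : 2 * Nat.card T ≤ Nat.card R := by
    rw [← h1, mul_comm]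
    exact Nat.mul_le_mul_left _ (by omega)
  have h5 : Nat.card R = Nat.card S₁ := by
    have h6 : Nat.card S₁ = 2 * Nat.card T := wr.card_T₁
    omega
  have hD : Syl2 S₁ (centralizer ({M₁.e ss} : Set G) ⊓ centralizer ({M₂.e ss} : Set G)) := wr.S₁_syl
  have hD' := syl_of_card hD (le_inf h₁ h₂) hR2 h5
  obtain ⟨x, hx, hx1, hx2⟩ := hD'.exists_conj hD
  have hnR : M₁.e nn ∈ R := hTR wr.n_mem_T
  have h6 : x * M₁.e nn * x⁻¹ ∈ zc S₁ := by
    refine mem_zc.2 ⟨hx1 _ hnR, fun b hb => ?_, ?_⟩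
    · have h7 := mem_C.1 (hn (hx2 b hb))
      calc b * (x * M₁.e nn * x⁻¹) = x * ((x⁻¹ * b * x) * M₁.e nn) * x⁻¹ := by group
        _ = x * (M₁.e nn * (x⁻¹ * b * x)) * x⁻¹ := by rw [h7]
        _ = x * M₁.e nn * x⁻¹ * b := by group
    · rw [pow_two]
      calc x * M₁.e nn * x⁻¹ * (x * M₁.e nn * x⁻¹) = x * (M₁.e nn * M₁.e nn) * x⁻¹ := by group
        _ = 1 := by rw [M₁.e_sq]; group
  have e1 := mem_C.1 hx.1
  have e2 := mem_C.1 hx.2
  have hback : ∀ {v : G}, x * v = v * x → x * M₁.e nn * x⁻¹ = v → M₁.e nn = v := by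
    intro v hv h7
    rw [mul_inv_eq_iff_eq_mul, ← hv] at h7
    exact mul_left_cancel h7
  apply wr.n_not_mem
  rcases wr.zS₁_le h6 with h7 | h7 | h7 | h7
  · exact Or.inl (hback (by group) h7)
  · exact Or.inr (Or.inl (hback e1 h7))
  · exact Or.inr (Or.inr (Or.inl (hback e2 h7)))
  · refine Or.inr (Or.inr (Or.inr (hback ?_ h7)))
    calc x * (M₁.e ss * M₂.e ss) = (x * M₁.e ss) * M₂.e ss := by group
      _ = M₁.e ss * (x * M₂.e ss) := by rw [e1]; group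
      _ = M₁.e ss * M₂.e ss * x := by rw [e2]; group

/-- **`Q_n ≤ T`.** -/
theorem Q_le_T :
    o2 (centralizer ({M₁.e nn} : Set G)) ≤ (S : Subgroup G) ⊓ centralizer ({M₁.e nn} : Set G) := by
  have h1 := wr.T_max wr.TW_isPGroup le_sup_left (sup_le inf_le_right (o2_le _))
    (sup_le (fun t ht => mem_C.2 (wr.T_comm_s₁ ht)) fun t ht =>
      mem_C.2 (wr.perp_cent ht (by decide)))
    (sup_le (fun t ht => mem_C.2 (wr.T_comm_s₂ ht)) fun t ht =>
      mem_C.2 (mem_centralizer_iff.1 (wr.quarter_cent ht) _ (M₂.e_mem ss)).symm)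
  exact le_sup_right.trans h1.le

/-- `T` is a Sylow 2-subgroup of `C(n) ∩ C(σ₁) ∩ C(σ₂)`. -/
theorem T_syl :
    Syl2 ((S : Subgroup G) ⊓ centralizer ({M₁.e nn} : Set G))
      (centralizer ({M₁.e nn} : Set G) ⊓ centralizer ({M₁.e ss} : Set G) ⊓
        centralizer ({M₂.e ss} : Set G)) := by
  have h0 : (S : Subgroup G) ⊓ centralizer ({M₁.e nn} : Set G) ≤ centralizer ({M₁.e nn} : Set G) ⊓
      centralizer ({M₁.e ss} : Set G) ⊓ centralizer ({M₂.e ss} : Set G) := fun t ht =>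
    ⟨⟨ht.2, mem_C.2 (wr.T_comm_s₁ ht)⟩, mem_C.2 (wr.T_comm_s₂ ht)⟩
  obtain ⟨R, hTR, hRH, hR2, hRs⟩ := Half.exists_sylow_le (S.isPGroup'.to_le inf_le_left) h0
  have h1 := wr.T_max hR2 hTR (hRH.trans (inf_le_left.trans inf_le_left))
    (hRH.trans (inf_le_left.trans inf_le_right)) (hRH.trans inf_le_right)
  rw [← h1]
  exact ⟨hRH, hR2, hRs⟩

/-- **`Q_n` acts on `V₁` inside `⟨(0 1)⟩`.** -/
theorem Q_ind {q : G} (hq : q ∈ o2 (centralizer ({M₁.e nn} : Set G))) :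
    M₁.Ind q 1 ∨ M₁.Ind q (Equiv.swap 0 1) :=
  wr.X_normal (o2_isPGroup _) (wr.Q_le_T.trans le_sup_right) (inf_le_right.trans (le_normalizer_o2 _)) hq

theorem Q_ind₂ {q : G} (hq : q ∈ o2 (centralizer ({M₁.e nn} : Set G))) : M₂.Ind q 1 :=
  FiveMod.ind_one_iff.2 (wr.quarter_cent hq)

/-- **`V₁ ≤ Q_n`.** -/
theorem V₁_le_Q :
    V₁ ≤ o2 (centralizer ({M₁.e nn} : Set G)) := by
  intro v hv
  obtain ⟨y, rfl⟩ := (M₁.mem_iff v).1 hv
  refine le_o2_of_comm wr.hG (e_sq' M₁ nn) (n_ne M₁) (M₁.e_comm y nn) fun q hq => ?_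
  have h1 : M₁.e y * q * (M₁.e y)⁻¹ * q⁻¹ = (q * M₁.e y * q⁻¹ * (M₁.e y)⁻¹)⁻¹ := by group
  rw [h1]
  rcases wr.Q_ind hq with h2 | h2
  · left
    rw [h2.comm_eq]
    have e : y ∘ (1 : Equiv.Perm (Fin 5)).symm + y = 0 := add_self y
    rw [e, M₁.e_zero, inv_one]
  · rw [h2.comm_eq, M₁.e_inv]
    rcases swap_add y with h3 | h3
    · left; rw [h3, M₁.e_zero]
    · right; rw [h3]

end fin

end Wr

end Cfsg.Agent.Omega.IId.LFour

end

section


/-!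
# The supply: `V ≤ K_n` (project OMEGA, II.d L4; #14703 A (3), no Sylow condition)

`w : Wr S P M₁ M₂`, `n = M₁.e nn`, `K_n = One.Kk n = {g ∈ C_G(n) : [O₂(C_G(n)), g] ≤ ⟨n⟩}`.

* `Wr.V₁_le_Kk`, `Wr.V₂_le_Kk`, `Wr.zl_le_Kk` : `V ≤ K_n`;
* `Wr.Kk_le_Q` : `K_n ≤ Q_n`.
-/

set_option autoImplicit false
set_option linter.unusedSectionVars false

namespace Cfsg.Agent.Omega.IId.LFour

open Subgroup Cfsg Cfsg.Agent.ZN Cfsg.Agent.Omega.MinPar
open Cfsg.Agent.Omega.S5.Mod Cfsg.Agent.Omega.S5.TT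
open Cfsg.Agent.Omega.S5.TT.Pos (na ns as sn n_ne s_ne a_ne n_ne_a n_ne_s a_ne_s e_sq' mem_C)
open Cfsg.Agent.MinSimple.VModule (mem_zc zc_le zc_comm zc_sq zc_le_zl le_normalizer_o2 o2_isPGroup o2_le
  normalizer_le_normalizer_zc le_normalizer_zl)
open Cfsg.Agent.Omega.IId.One (Kk mem_Kk)

universe u

variable {G : Type u} [Group G]

/-- `x ^ k ∈ {1, z}` for an involution `z` -/
theorem mem_zpowers_of_sq {z x : G} (hz : z * z = 1) : x ∈ zpowers z ↔ x = 1 ∨ x = z := by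
  constructor
  · rintro ⟨k, rfl⟩
    change z ^ k = 1 ∨ z ^ k = z
    rcases Int.even_or_odd' k with ⟨m, rfl | rfl⟩
    · left
      rw [zpow_mul, zpow_ofNat, pow_two, hz, one_zpow]
    · right
      rw [zpow_add, zpow_mul, zpow_ofNat, pow_two, hz, one_zpow, one_mul, zpow_one]
  · rintro (rfl | rfl)
    · exact one_mem _
    · exact mem_zpowers _

/-- `K_z ≤ O₂(C_G(z))` in characteristic 2 -/
theorem Kk_le_o2 [Finite G] (hG : IsCharacteristicTwoType G) {z : G} (hz : z ^ 2 = 1) (hz1 : z ≠ 1) :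
    Kk z ≤ o2 (centralizer ({z} : Set G)) := by
  intro g hg
  refine le_o2_of_comm hG hz hz1 (mem_C.1 hg.1) fun q hq => ?_
  have h1 := hg.2 q hq
  rwa [mem_zpowers_of_sq (by rw [← pow_two]; exact hz)] at h1

namespace Wr

variable {S : Sylow 2 G} {P V₁ V₂ L₁ L₂ : Subgroup G} {M₁ : FiveMod V₁ L₁} {M₂ : FiveMod V₂ L₂}

section fin

variable [Finite G] (wr : Wr S P M₁ M₂)
include wr

/-- **`V₁ ≤ K_n`.** -/
theorem V₁_le_Kk : V₁ ≤ Kk (M₁.e nn) := by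
  intro v hv
  obtain ⟨y, rfl⟩ := (M₁.mem_iff v).1 hv
  refine ⟨mem_C.2 (M₁.e_comm y nn), fun q hq => ?_⟩
  rw [mem_zpowers_of_sq (M₁.e_sq nn)]
  have h1 : M₁.e y * q * (M₁.e y)⁻¹ * q⁻¹ = (q * M₁.e y * q⁻¹ * (M₁.e y)⁻¹)⁻¹ := by group
  rw [h1]
  rcases wr.Q_ind hq with h2 | h2
  · left
    rw [h2.comm_eq]
    have e : y ∘ (1 : Equiv.Perm (Fin 5)).symm + y = 0 := add_self y
    rw [e, M₁.e_zero, inv_one]
  · rw [h2.comm_eq, M₁.e_inv]
    rcases swap_add y with h3 | h3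
    · left; rw [h3, M₁.e_zero]
    · right; rw [h3]

/-- **`V₂ ≤ K_n`.** -/
theorem V₂_le_Kk : V₂ ≤ Kk (M₁.e nn) := by
  intro v hv
  refine ⟨mem_C.2 (wr.comm (M₁.e_mem nn) hv).symm, fun q hq => ?_⟩
  have h1 := mem_centralizer_iff.1 (wr.quarter_cent hq) v hv
  rw [h1, mul_assoc, mul_assoc, mul_inv_cancel_left, mul_inv_cancel]
  exact one_mem _

theorem zl_le_Kk : zl (S : Subgroup G) P ≤ Kk (M₁.e nn) := by
  rw [wr.sup]
  exact sup_le wr.V₁_le_Kk wr.V₂_le_Kk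

/-- `K_n ≤ Q_n` -/
theorem Kk_le_Q : Kk (M₁.e nn) ≤ o2 (centralizer ({M₁.e nn} : Set G)) :=
  Kk_le_o2 wr.hG (e_sq' M₁ nn) (n_ne M₁)

/-- `K_n` acts on `V₁` inside `⟨(0 1)⟩` -/
theorem Kk_ind {q : G} (hq : q ∈ Kk (M₁.e nn)) : M₁.Ind q 1 ∨ M₁.Ind q (Equiv.swap 0 1) :=
  wr.Q_ind (wr.Kk_le_Q hq)

theorem Kk_ind₂ {q : G} (hq : q ∈ Kk (M₁.e nn)) : M₂.Ind q 1 := wr.Q_ind₂ (wr.Kk_le_Q hq)

end fin

end Wr

end Cfsg.Agent.Omega.IId.LFour

end

section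


/-!
# No triangle: `V₁ ≤ O₂(C_G(σ₁))` (project OMEGA, II.d L4; #14703 A (5))

`w : Wr S P M₁ M₂`, `S₁ = N_S(V₁)` a Sylow 2-subgroup of `C_G(σ₁)`, `Q_σ = O₂(C_G(σ₁))`.

* `Wr.Qs_ind` : `Q_σ` acts on `V₁` inside `V₄`;
* `Wr.V₁_le_Qs` : `V₁ ≤ Q_σ`;
* `Wr.comm_Ds` : `⟨V₁^{C_G(σ₁)}⟩` is elementary abelian;
* `Wr.comm_V₂` : it centralises `V₂`.
-/

set_option autoImplicit false
set_option linter.unusedSectionVars false

namespace Cfsg.Agent.Omega.IId.LFour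

open Subgroup Pointwise Cfsg Cfsg.Agent.ZN Cfsg.Agent.Omega.MinPar Cfsg.Agent.Omega.FFThm
open Cfsg.Agent.ZN.ChoiceBase (cj mem_cj)
open Cfsg.Agent.Omega.S5.Mod Cfsg.Agent.Omega.S5.TT
open Cfsg.Agent.Omega.S5.TT.Pos (na ns as sn n_ne s_ne a_ne n_ne_a n_ne_s a_ne_s e_sq' mem_C comm_E_aux)
open Cfsg.Agent.Omega.Half (Amb amb_of_loc)
open Cfsg.Agent.MinSimple.VModule (mem_zc zc_le zc_comm zc_sq zc_le_zl le_normalizer_o2 o2_isPGroup o2_le
  le_o2 o2_le_of_sylow normalizer_le_normalizer_zc le_normalizer_zl)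
open Cfsg.Agent.Omega.TwoFFour (Syl2)

universe u

variable {G : Type u} [Group G]

/-! ### Permutations -/

/-- `{0, 2}` -/
def ee : Vec := ![1, 0, 1, 0, 0]

theorem v4_fix : ∀ p : Equiv.Perm (Fin 5), V4p p → (nn ∘ p.symm = nn ∨ nn ∘ p.symm = nn + 1) →
    (ee ∘ p.symm = ee ∨ ee ∘ p.symm = ee + 1) → p = 1 := by
  decide +kernel

theorem v4_sq : ∀ p : Equiv.Perm (Fin 5), V4p p → p * p = 1 := by
  decide +kernel

theorem v4_two : ∀ p q : Equiv.Perm (Fin 5), V4p p → V4p q → p ≠ 1 →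
    (∀ i : Fin 5, (Pi.single i 1 + Pi.single i 1 ∘ p.symm : Vec) ∘ q.symm =
      Pi.single i 1 + Pi.single i 1 ∘ p.symm ∨
      (Pi.single i 1 + Pi.single i 1 ∘ p.symm : Vec) ∘ q.symm = Pi.single i 1 + Pi.single i 1 ∘ p.symm + 1) →
    q = 1 ∨ q = p := by
  decide +kernel

theorem v4_moves : ∀ p : Equiv.Perm (Fin 5), V4p p → p ≠ 1 → ∃ i j : Fin 5,
    ¬ ((Pi.single i 1 : Vec) ∘ p.symm = Pi.single i 1 ∨ (Pi.single i 1 : Vec) ∘ p.symm = Pi.single i 1 + 1) ∧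
    ¬ ((Pi.single j 1 : Vec) ∘ p.symm = Pi.single j 1 ∨ (Pi.single j 1 : Vec) ∘ p.symm = Pi.single j 1 + 1) ∧
    ¬ ((Pi.single i 1 + Pi.single j 1 : Vec) ∘ p.symm = Pi.single i 1 + Pi.single j 1 ∨
      (Pi.single i 1 + Pi.single j 1 : Vec) ∘ p.symm = Pi.single i 1 + Pi.single j 1 + 1) := by
  decide +kernel

namespace Wr

variable {S : Sylow 2 G} {P V₁ V₂ L₁ L₂ : Subgroup G} {M₁ : FiveMod V₁ L₁} {M₂ : FiveMod V₂ L₂}

section fin

variable [Finite G] (wr : Wr S P M₁ M₂)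
  (nt : Syl2 ((S : Subgroup G) ⊓ normalizer (V₁ : Set G)) (centralizer ({M₁.e ss} : Set G)))
include wr nt

theorem Qs_le : o2 (centralizer ({M₁.e ss} : Set G)) ≤ (S : Subgroup G) ⊓ normalizer (V₁ : Set G) :=
  o2_le_of_sylow nt.two nt.odd

/-- `Q_σ` acts inside `V₄` on `V₁` -/
theorem Qs_ind {q : G} (hq : q ∈ o2 (centralizer ({M₁.e ss} : Set G))) : ∃ p, V4p p ∧ M₁.Ind q p := by
  have hqS := wr.Qs_le nt hq
  obtain ⟨p, -, hp, -⟩ := wr.S₁_ind hqS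
  refine ⟨p, v4_of p (wr.dS wr.S_le hqS.1 hp) ?_, hp⟩
  obtain ⟨g, -, hg⟩ := M₁.exists_lift (Equiv.swap 1 2)
  have hg : M₁.Ind g (Equiv.swap 1 2) := hg
  have hgC : g ∈ centralizer ({M₁.e ss} : Set G) :=
    mem_C.2 ((hg.commute_iff _).2 (Or.inl (by decide)))
  have h1 : g * q * g⁻¹ ∈ o2 (centralizer ({M₁.e ss} : Set G)) :=
    (mem_normalizer_iff.1 (le_normalizer_o2 _ hgC) _).1 hq
  exact wr.dS wr.S_le (wr.Qs_le nt h1).1 ((hg.mul hp).mul hg.inv)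

theorem E_le {x : Vec} (hx : InE x) : M₁.e x ∈ o2 (centralizer ({M₁.e ss} : Set G)) := by
  refine le_o2_of_comm wr.hG (e_sq' M₁ ss) (s_ne M₁) (M₁.e_comm x ss) fun q hq => ?_
  have h1 : M₁.e x * q * (M₁.e x)⁻¹ * q⁻¹ = (q * M₁.e x * q⁻¹ * (M₁.e x)⁻¹)⁻¹ := by group
  rw [h1]
  obtain ⟨p, hp, hi⟩ := wr.Qs_ind nt hq
  rcases comm_E_aux hp hi hx with h2 | h2
  · left; rw [h2, inv_one]
  · right; rw [h2, M₁.e_inv]

/-- the conjugates of `V₂` under `C_G(σ₁)` centralise `V₁` -/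
theorem comm_V₂ {c v v' : G} (hc : c ∈ centralizer ({M₁.e ss} : Set G)) (hv : v ∈ V₁) (hv' : v' ∈ V₂) :
    c * v * c⁻¹ * v' = v' * (c * v * c⁻¹) := by
  obtain ⟨h1, h2⟩ := wr.symm.V₁_le_o2_centralizer
  have hn := le_normalizer_o2 (centralizer ({M₁.e ss} : Set G))
  set u := c⁻¹ * v' * c with hu
  have huQ : u ∈ o2 (centralizer ({M₁.e ss} : Set G)) := by
    have := (mem_normalizer_iff.1 (hn (inv_mem hc)) v').1 (h1 hv')
    rwa [inv_inv] at this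
  have huc : ∀ q ∈ o2 (centralizer ({M₁.e ss} : Set G)), u * q = q * u := by
    intro q hq
    have h3 := (mem_normalizer_iff.1 (hn hc) q).1 hq
    have h4 := mem_centralizer_iff.1 (h2 h3) v' hv'
    calc u * q = c⁻¹ * (v' * (c * q * c⁻¹)) * c := by rw [hu]; group
      _ = c⁻¹ * ((c * q * c⁻¹) * v') * c := by rw [h4]
      _ = q * u := by rw [hu]; group
  obtain ⟨p, hp, hi⟩ := wr.Qs_ind nt huQ
  have hp1 : p = 1 := by
    refine v4_fix p hp ((hi.commute_iff _).1 (huc _ (wr.E_le nt (by decide))))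
      ((hi.commute_iff _).1 (huc _ (wr.E_le nt (by decide))))
  rw [hp1] at hi
  have h3 : u * v = v * u := (mem_centralizer_iff.1 (FiveMod.ind_one_iff.1 hi) v hv).symm
  calc c * v * c⁻¹ * v' = c * (v * u) * c⁻¹ := by rw [hu]; group
    _ = c * (u * v) * c⁻¹ := by rw [h3]
    _ = v' * (c * v * c⁻¹) := by rw [hu]; group

/-- **`V₁ ≤ O₂(C_G(σ₁))`.** -/
theorem V₁_le_Qs : V₁ ≤ o2 (centralizer ({M₁.e ss} : Set G)) := by
  set C := centralizer ({M₁.e ss} : Set G) with hC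
  set Y := closure {u : G | ∃ c ∈ C, ∃ v ∈ V₁, u = c * v * c⁻¹} with hY
  have hV₁C : V₁ ≤ C := fun v hv => mem_C.2 (M₁.comm hv (M₁.e_mem ss))
  have hYC : Y ≤ C := by
    rw [hY, closure_le]
    rintro _ ⟨c, hc, v, hv, rfl⟩
    exact mul_mem (mul_mem hc (hV₁C hv)) (inv_mem hc)
  have hCY : C ≤ normalizer (Y : Set G) := by
    intro c hc
    refine MinSimple.VModule.mem_normalizer_of_map_le ?_
    rw [hY, MonoidHom.map_closure, closure_le]
    rintro _ ⟨_, ⟨d, hd, v, hv, rfl⟩, rfl⟩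
    refine subset_closure ⟨c * d, mul_mem hc hd, v, hv, ?_⟩
    change c * (d * v * d⁻¹) * c⁻¹ = _
    group
  have hYV : Y ≤ normalizer (V₂ : Set G) := by
    refine le_trans ?_ (centralizer_le_normalizer _)
    rw [hY, closure_le]
    rintro _ ⟨c, hc, v, hv, rfl⟩
    exact mem_centralizer_iff.2 fun v' hv' => (wr.comm_V₂ nt hc hv hv').symm
  have hV₁Y : V₁ ≤ Y := fun v hv => subset_closure ⟨1, one_mem _, v, hv, by group⟩
  have h1 : V₁ ≤ o2 Y := by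
    refine (le_inf wr.V₁_le_o2_normalizer hV₁Y).trans (le_o2 inf_le_right
      ((o2_isPGroup _).to_le inf_le_left) ?_)
    exact Half.le_normalizer_inf (hYV.trans (le_normalizer_o2 _)) le_normalizer
  exact h1.trans (NO3b.UMethod.o2_le_o2_of_normal hYC hCY)

/-- an element of `Q_σ` acts inside `V₄` on the conjugates of `V₁` -/
theorem Qs_ind_cj {c q : G} (hc : c ∈ centralizer ({M₁.e ss} : Set G))
    (hq : q ∈ o2 (centralizer ({M₁.e ss} : Set G))) : ∃ p, V4p p ∧ (M₁.cj c).Ind q p := by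
  have h1 := (mem_normalizer_iff.1 (le_normalizer_o2 _ (inv_mem hc)) q).1 hq
  rw [inv_inv] at h1
  obtain ⟨p, hp, hi⟩ := wr.Qs_ind nt h1
  refine ⟨p, hp, ?_⟩
  have h2 := M₁.cj_ind (g := c) hi
  have e : c * (c⁻¹ * q * c) * c⁻¹ = q := by group
  rwa [e] at h2

omit wr nt [Finite G] in
/-- the values of the action -/
theorem two_values {A B C D : Subgroup G} {M : FiveMod A B} {M' : FiveMod C D}
    (hC : ∀ q ∈ C, ∃ p, V4p p ∧ M.Ind q p) (hAC : A ≤ normalizer (C : Set G)) {u u' : G} (hu : u ∈ C)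
    (hu' : u' ∈ C) {p p' : Equiv.Perm (Fin 5)} (hp : M.Ind u p) (hp' : M.Ind u' p') (hp1 : p ≠ 1) :
    p' = 1 ∨ p' = p := by
  obtain ⟨q, hq, hqi⟩ := hC u hu
  obtain ⟨q', hq', hqi'⟩ := hC u' hu'
  obtain rfl := hp.unique hqi
  obtain rfl := hp'.unique hqi'
  refine v4_two p p' hq hq' hp1 fun i => ?_
  rw [← hqi'.commute_iff]
  have h1 : M.e (Pi.single i 1 + Pi.single i 1 ∘ p.symm) =
      (M.e (Pi.single i 1) * u * (M.e (Pi.single i 1))⁻¹) * u⁻¹ := by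
    rw [M.e_add, ← hp, M.e_inv]; group
  have h2 : M.e (Pi.single i 1 + Pi.single i 1 ∘ p.symm) ∈ C := by
    rw [h1]
    exact mul_mem ((mem_normalizer_iff.1 (hAC (M.e_mem _)) u).1 hu) (inv_mem hu)
  exact M'.comm hu' h2

/-- **`⟨V₁^{C_G(σ₁)}⟩` is elementary abelian.** -/
theorem comm_Ds {c v v' : G} (hc : c ∈ centralizer ({M₁.e ss} : Set G)) (hv : v ∈ V₁) (hv' : v' ∈ V₁) :
    v * (c * v' * c⁻¹) = c * v' * c⁻¹ * v := by
  have hVQ := wr.V₁_le_Qs nt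
  have hcV : cj c V₁ ≤ o2 (centralizer ({M₁.e ss} : Set G)) := by
    rintro _ ⟨x, hx, rfl⟩
    exact (mem_normalizer_iff.1 (le_normalizer_o2 _ hc) x).1 (hVQ hx)
  have hA : ∀ q ∈ cj c V₁, ∃ p, V4p p ∧ M₁.Ind q p := fun q hq => wr.Qs_ind nt (hcV hq)
  have hB : ∀ q ∈ V₁, ∃ p, V4p p ∧ (M₁.cj c).Ind q p := fun q hq => wr.Qs_ind_cj nt hc (hVQ hq)
  have hnA : V₁ ≤ normalizer ((cj c V₁ : Subgroup G) : Set G) := fun q hq => by
    obtain ⟨p, -, hp⟩ := hB q hq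
    exact hp.mem_normalizer
  have hnB : cj c V₁ ≤ normalizer (V₁ : Set G) := fun q hq => by
    obtain ⟨p, -, hp⟩ := hA q hq
    exact hp.mem_normalizer
  set u := c * v' * c⁻¹ with hu
  have huC : u ∈ cj c V₁ := ⟨v', hv', rfl⟩
  obtain ⟨p, hp, hi⟩ := hA u huC
  by_cases hp1 : p = 1
  · rw [hp1] at hi
    exact mem_centralizer_iff.1 (FiveMod.ind_one_iff.1 hi) v hv
  · exfalso
    obtain ⟨i, j, h1, h2, h3⟩ := v4_moves p hp hp1
    rw [← hi.commute_iff] at h1 h2 h3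
    obtain ⟨a, ha, hai⟩ := hB _ (M₁.e_mem (Pi.single i 1))
    obtain ⟨b, hb, hbi⟩ := hB _ (M₁.e_mem (Pi.single j 1))
    have key : ∀ {q : G} {r : Equiv.Perm (Fin 5)}, (M₁.cj c).Ind q r → r = 1 → u * q = q * u := by
      intro q r hr h1
      rw [h1] at hr
      exact mem_centralizer_iff.1 (FiveMod.ind_one_iff.1 hr) u huC
    have ha1 : a ≠ 1 := fun h => h1 (key hai h)
    have hb1 : b ≠ 1 := fun h => h2 (key hbi h)
    have hab := (two_values (M' := M₁) hB hnB (M₁.e_mem _) (M₁.e_mem _) hai hbi ha1).resolve_left hb1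
    refine h3 (key (r := a * b) ?_ ?_)
    · rw [M₁.e_add]; exact hai.mul hbi
    · rw [hab]; exact v4_sq a ha

end fin

end Wr

end Cfsg.Agent.Omega.IId.LFour

end
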