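import Cfsg.Agent.Mrg.Omega.TTn.TwoTypes
import Cfsg.Agent.Mrg.Omega.IId.LFour.TriLoc
import Cfsg.Agent.Mrg.Omega.IId.LFour.Quarter
import Mathlib

section


/-!
# `S₅ wr 2` against `S₅ wr 2`: two modules are reduced to one (project OMEGA, II.d L4, SwOne; helper242 #19319)

`w : Wr S P M₁ M₂`, `w' : Wr S' P' M₁' M₂'` with the same `n = e nn`, `a = e aa` in the first summands and
`N_S(V₁) = N_{S'}(V₁')`; `h ∈ C_G(n)` with `[V_P, V_{P'} ^ h] ≠ 1`. Then (helper107's LEMMA TWO, `TTn/TwoTypes.lean`)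
there is `k ∈ C_G(n)` with `[V₁', V₁' ^ k] ≠ 1`.

* `Wr.duo` : the configuration `Duo M₁ M₁' x h`;
* `Wr.exists_one` : the conclusion; `Wr.exists_one'` : from an arbitrary non-commuting pair of `V_P`, `V_{P'} ^ h`.
-/

set_option autoImplicit false
set_option linter.unusedSectionVars false

namespace Cfsg.Agent.Omega.IId.LFour

open Subgroup Pointwise Cfsg Cfsg.Agent.ZN Cfsg.Agent.Omega.MinPar Cfsg.Agent.Omega.FFThm
open Cfsg.Agent.ZN.ChoiceBase (cj mem_cj)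
open Cfsg.Agent.Omega.S5.Mod Cfsg.Agent.Omega.S5.TT
open Cfsg.Agent.Omega.S5.TT.Pos (n_ne mem_C)
open Cfsg.Agent.MinSimple.VModule (le_normalizer_o2 o2_isPGroup o2_le)

universe u

variable {G : Type u} [Group G]

namespace Wr

variable {S S' : Sylow 2 G} {P P' V₁ V₂ L₁ L₂ V₁' V₂' L₁' L₂' : Subgroup G} {M₁ : FiveMod V₁ L₁}
  {M₂ : FiveMod V₂ L₂} {M₁' : FiveMod V₁' L₁'} {M₂' : FiveMod V₂' L₂'}

section fin

variable [Finite G] (w : Wr S P M₁ M₂)
include w

/-- an element of `Q_n` which does not centralise `u ∈ V₁` acts as `(0 1)` -/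
theorem swap_of_ne {q u : G} (hq : q ∈ o2 (centralizer ({M₁.e nn} : Set G))) (hu : u ∈ V₁)
    (h : q * u ≠ u * q) : M₁.Ind q (Equiv.swap 0 1) := by
  refine (w.Q_ind hq).resolve_left fun h1 => h ?_
  exact (mem_centralizer_iff.1 (FiveMod.ind_one_iff.1 h1) u hu).symm

/-- The configuration `Duo` of LEMMA TWO. -/
theorem duo (w' : Wr S' P' M₁' M₂') (en : M₁'.e nn = M₁.e nn) (ea : M₁'.e aa = M₁.e aa)
    (hS : (S : Subgroup G) ⊓ normalizer (V₁ : Set G) = (S' : Subgroup G) ⊓ normalizer (V₁' : Set G)) {h : G}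
    (hn : h * M₁.e nn = M₁.e nn * h) {v u : G} (hv : v ∈ V₁') (hu : u ∈ V₁)
    (hne : h * v * h⁻¹ * u ≠ u * (h * v * h⁻¹)) : ∃ x, TTn.TwoTypes.Duo M₁ M₁' x h := by
  obtain ⟨x, hx, hi⟩ := w.exists_x
  have hxS : x ∈ (S' : Subgroup G) ⊓ normalizer (V₁' : Set G) := hS ▸ ⟨hx.1, hi.mem_normalizer⟩
  have hQ : ∀ g, g * M₁.e nn = M₁.e nn * g → ∀ q ∈ o2 (centralizer ({M₁.e nn} : Set G)),
      g * q * g⁻¹ ∈ o2 (centralizer ({M₁.e nn} : Set G)) := fun g hg q hq =>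
    (mem_normalizer_iff.1 (le_normalizer_o2 _ (mem_C.2 hg)) q).1 hq
  have hv₂ : V₁' ≤ o2 (centralizer ({M₁.e nn} : Set G)) := by rw [← en]; exact w'.V₁_le_Q
  have hn' : h⁻¹ * M₁.e nn = M₁.e nn * h⁻¹ := TTn.TwoTypes.inv_comm hn
  refine ⟨x, en, ea, fun q hq => w.Q_ind hq, fun q hq => w'.Q_ind (by rw [en]; exact hq), w.V₁_le_Q, hv₂,
    fun r hr => ?_, tt_n hi, hi.mem_normalizer, hxS.2, hn,
    ⟨v, hv, w.swap_of_ne (hQ h hn v (hv₂ hv)) hu hne⟩, u, hu, ?_⟩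
  · have h1 : r ∈ (S' : Subgroup G) ⊓ normalizer (V₁' : Set G) := by
      have h2 := w'.symm.o2_centralizer_le hr
      rwa [← w'.S₁_eq] at h2
    rw [← hS] at h1
    have h3 : r * M₁.e nn = M₁.e nn * r := by
      have h4 : M₁.e nn ∈ V₁' := by rw [← en]; exact M₁'.e_mem _
      exact (mem_centralizer_iff.1 (o2_le _ hr) _ h4).symm
    obtain ⟨p, q, hp, hi', -⟩ := w.T_ind ⟨h1.1, mem_C.2 h3⟩
    exact ⟨p, hp, hi'⟩
  · have h1 : h⁻¹ * u * h ∈ o2 (centralizer ({M₁.e nn} : Set G)) := by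
      have := hQ _ hn' u (w.V₁_le_Q hu)
      rwa [inv_inv] at this
    refine w'.swap_of_ne (by rw [en]; exact h1) hv fun h2 => hne ?_
    calc h * v * h⁻¹ * u = h * (v * (h⁻¹ * u * h)) * h⁻¹ := by group
      _ = h * (h⁻¹ * u * h * v) * h⁻¹ := by rw [h2]
      _ = u * (h * v * h⁻¹) := by group

/-- **LEMMA TWO for `S₅ wr 2`.** -/
theorem exists_one (w' : Wr S' P' M₁' M₂') (en : M₁'.e nn = M₁.e nn) (ea : M₁'.e aa = M₁.e aa)
    (hS : (S : Subgroup G) ⊓ normalizer (V₁ : Set G) = (S' : Subgroup G) ⊓ normalizer (V₁' : Set G)) {h : G}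
    (hn : h * M₁.e nn = M₁.e nn * h) {v u : G} (hv : v ∈ V₁') (hu : u ∈ V₁)
    (hne : h * v * h⁻¹ * u ≠ u * (h * v * h⁻¹)) :
    ∃ k, k * M₁'.e nn = M₁'.e nn * k ∧ ∃ v ∈ V₁', ∃ u ∈ V₁', k * v * k⁻¹ * u ≠ u * (k * v * k⁻¹) := by
  obtain ⟨x, d⟩ := w.duo w' en ea hS hn hv hu hne
  obtain ⟨k, hk, -, ⟨_, ⟨v', hv', rfl⟩, hi⟩, -, -⟩ := d.exists_one
  have hi : M₁'.Ind (k * v' * k⁻¹) (Equiv.swap 0 1) := hi
  refine ⟨k, hk, v', hv', M₁'.e ![0, 1, 1, 0, 0], M₁'.e_mem _, fun h1 => ?_⟩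
  rcases (hi.commute_iff _).1 h1 with h2 | h2
  · exact absurd h2 (by decide)
  · exact absurd h2 (by decide)

/-- The same, from an arbitrary non-commuting pair. -/
theorem exists_one' (w' : Wr S' P' M₁' M₂') (en : M₁'.e nn = M₁.e nn) (ea : M₁'.e aa = M₁.e aa)
    (hS : (S : Subgroup G) ⊓ normalizer (V₁ : Set G) = (S' : Subgroup G) ⊓ normalizer (V₁' : Set G)) {h : G}
    (hn : h * M₁.e nn = M₁.e nn * h) {v u : G} (hv : v ∈ zl (S' : Subgroup G) P') (hu : u ∈ zl (S : Subgroup G) P)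
    (hne : h * v * h⁻¹ * u ≠ u * (h * v * h⁻¹)) :
    ∃ k, k * M₁'.e nn = M₁'.e nn * k ∧ ∃ v ∈ V₁', ∃ u ∈ V₁', k * v * k⁻¹ * u ≠ u * (k * v * k⁻¹) := by
  have hQ : ∀ g, g * M₁.e nn = M₁.e nn * g → ∀ q ∈ o2 (centralizer ({M₁.e nn} : Set G)),
      g * q * g⁻¹ ∈ o2 (centralizer ({M₁.e nn} : Set G)) := fun g hg q hq =>
    (mem_normalizer_iff.1 (le_normalizer_o2 _ (mem_C.2 hg)) q).1 hq
  have hn' : h⁻¹ * M₁.e nn = M₁.e nn * h⁻¹ := TTn.TwoTypes.inv_comm hn
  obtain ⟨v₁, hv₁, v₂, hv₂, rfl⟩ : ∃ v₁ ∈ V₁', ∃ v₂ ∈ V₂', v₁ * v₂ = v := by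
    have hN : V₂' ≤ normalizer (V₁' : Set G) := fun v hv =>
      centralizer_le_normalizer _ (mem_centralizer_iff.2 fun u hu => w'.comm hu hv)
    have h2 : v ∈ ((V₁' ⊔ V₂' : Subgroup G) : Set G) := w'.sup ▸ hv
    rw [coe_mul_of_right_le_normalizer_left _ _ hN] at h2
    exact Set.mem_mul.1 h2
  obtain ⟨u₁, hu₁, u₂, hu₂, rfl⟩ : ∃ u₁ ∈ V₁, ∃ u₂ ∈ V₂, u₁ * u₂ = u := by
    have hN : V₂ ≤ normalizer (V₁ : Set G) := fun v hv =>
      centralizer_le_normalizer _ (mem_centralizer_iff.2 fun u hu => w.comm hu hv)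
    have h2 : u ∈ ((V₁ ⊔ V₂ : Subgroup G) : Set G) := w.sup ▸ hu
    rw [coe_mul_of_right_le_normalizer_left _ _ hN] at h2
    exact Set.mem_mul.1 h2
  refine w.exists_one w' en ea hS hn hv₁ hu₁ fun h1 => hne ?_
  -- `V₂'` is centralised by `Q_n`
  have hq₁ : v₁ ∈ o2 (centralizer ({M₁.e nn} : Set G)) := by rw [← en]; exact w'.V₁_le_Q hv₁
  have c1 : h * v₂ * h⁻¹ * (u₁ * u₂) = u₁ * u₂ * (h * v₂ * h⁻¹) := by
    have h2 : h⁻¹ * (u₁ * u₂) * h ∈ o2 (centralizer ({M₁'.e nn} : Set G)) := by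
      rw [en]
      have := hQ _ hn' _ (mul_mem (w.V₁_le_Q hu₁) (w.quarter hu₂))
      rwa [inv_inv] at this
    have h3 := mem_centralizer_iff.1 (w'.quarter_cent h2) v₂ hv₂
    calc h * v₂ * h⁻¹ * (u₁ * u₂) = h * (v₂ * (h⁻¹ * (u₁ * u₂) * h)) * h⁻¹ := by group
      _ = h * (h⁻¹ * (u₁ * u₂) * h * v₂) * h⁻¹ := by rw [h3]
      _ = u₁ * u₂ * (h * v₂ * h⁻¹) := by group
  have c2 : h * v₁ * h⁻¹ * u₂ = u₂ * (h * v₁ * h⁻¹) :=
    (mem_centralizer_iff.1 (w.quarter_cent (hQ h hn v₁ hq₁)) u₂ hu₂).symm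
  calc h * (v₁ * v₂) * h⁻¹ * (u₁ * u₂) = h * v₁ * h⁻¹ * (h * v₂ * h⁻¹ * (u₁ * u₂)) := by group
    _ = h * v₁ * h⁻¹ * (u₁ * u₂ * (h * v₂ * h⁻¹)) := by rw [c1]
    _ = h * v₁ * h⁻¹ * u₁ * u₂ * (h * v₂ * h⁻¹) := by group
    _ = u₁ * (h * v₁ * h⁻¹) * u₂ * (h * v₂ * h⁻¹) := by rw [h1]
    _ = u₁ * (h * v₁ * h⁻¹ * u₂) * (h * v₂ * h⁻¹) := by group
    _ = u₁ * (u₂ * (h * v₁ * h⁻¹)) * (h * v₂ * h⁻¹) := by rw [c2]
    _ = u₁ * u₂ * (h * (v₁ * v₂) * h⁻¹) := by group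

end fin

end Wr

end Cfsg.Agent.Omega.IId.LFour

end

section


/-!
# A transfer argument on the Petersen graph (helper774)

`ρ` an action of `Sym(5)` on an elementary abelian 2-group `A` (as a family of homomorphisms), `s i ∈ A`
(`i = 0, …, 4`) permuted by `Sym(5)`, with product 1, `τ ∈ A` fixed, and the fixed points of
`D₈ = ⟨(0 1), (2 3), (0 2)(1 3)⟩` are `1, s₄, τ, s₄τ`.  Then the fixed points of `⟨(0 1), (2 3)⟩` are the
eight elements `n^i a^j τ^k`, `n = s₀s₁`, `a = s₂s₃` (`fixed`).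
-/

set_option autoImplicit false
set_option linter.unusedSectionVars false

namespace Cfsg.Agent.Omega.IId.LFour.Petersen

/-- permutations of five points -/
abbrev Pm := Equiv.Perm (Fin 5)

/-- `(0 2)(1 3)` -/
def xx : Pm := Equiv.swap 0 2 * Equiv.swap 1 3

/-- the 3-cycle `2 → 3 → 4 → 2` -/
def hh : Pm := Equiv.swap 2 3 * Equiv.swap 3 4

/-- the 3-cycle `0 → 1 → 2 → 0` -/
def kk : Pm := Equiv.swap 0 1 * Equiv.swap 1 2

/-- the 5-cycle `i → i + 1` -/
def cc : Pm := ⟨fun i => i + 1, fun i => i - 1, by decide, by decide⟩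

/-- representatives of the cosets of `D₈` -/
def L15 : List Pm := (List.range 5).flatMap fun i => (List.range 3).map fun j => cc ^ i * kk ^ j

/-- representatives of the cosets of the stabilizer of `{0, 1}` -/
def L10 : List Pm := (List.range 5).flatMap fun i => (List.range 2).map fun j => cc ^ i * Equiv.swap 1 2 ^ j

/-- canonical representative modulo `⟨(0 1), (2 3)⟩` -/
def can1 (p : Pm) : Pm := if p 0 ≤ p 1 then p else p * Equiv.swap 0 1

def can2 (p : Pm) : Pm := if p 2 ≤ p 3 then p else p * Equiv.swap 2 3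

def can (p : Pm) : Pm := can2 (can1 p)

def La : List Pm := L10.flatMap fun g => [g, g * hh, g * hh * hh]

def Lb : List Pm := L15.flatMap fun r => [r, r * xx]

theorem perm_lists : (La.map can).Perm (Lb.map can) := by
  decide +kernel

variable {A : Type*} [CommGroup A]

/-- The data. -/
structure Dat (ρ : Pm → A →* A) (s : Fin 5 → A) (τ : A) : Prop where
  sq : ∀ a : A, a * a = 1
  one : ∀ a, ρ 1 a = a
  mul : ∀ p q a, ρ (p * q) a = ρ p (ρ q a)
  perm : ∀ p i, ρ p (s i) = s (p i)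
  prod : s 0 * s 1 * s 2 * s 3 * s 4 = 1
  fixτ : ∀ p, ρ p τ = τ
  τ_ne : τ ≠ 1
  fix : ∀ u, ρ (Equiv.swap 0 1) u = u → ρ (Equiv.swap 2 3) u = u → ρ xx u = u →
    u = 1 ∨ u = s 4 ∨ u = τ ∨ u = s 4 * τ

namespace Dat

variable {ρ : Pm → A →* A} {s : Fin 5 → A} {τ : A} (h : Dat ρ s τ)
include h

theorem s_four : s 0 * s 1 * (s 2 * s 3) = s 4 := by
  have h1 := h.prod
  calc s 0 * s 1 * (s 2 * s 3) = s 0 * s 1 * s 2 * s 3 * (s 4 * s 4) := by rw [h.sq]; group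
    _ = s 0 * s 1 * s 2 * s 3 * s 4 * s 4 := by group
    _ = s 4 := by rw [h1, one_mul]

theorem mul_fix {p q : Pm} {a : A} (hp : ρ p a = a) (hq : ρ q a = a) : ρ (p * q) a = a := by
  rw [h.mul, hq, hp]

section
variable {y : A} (h01 : ρ (Equiv.swap 0 1) y = y) (h23 : ρ (Equiv.swap 2 3) y = y)
include h01 h23

theorem can_eq (p : Pm) : ρ (can p) y = ρ p y := by
  have e1 : ∀ q : Pm, ρ (can1 q) y = ρ q y := by
    intro q
    unfold can1
    split_ifs
    · rfl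
    · rw [h.mul, h01]
  have e2 : ∀ q : Pm, ρ (can2 q) y = ρ q y := by
    intro q
    unfold can2
    split_ifs
    · rfl
    · rw [h.mul, h23]
  rw [can, e2, e1]

theorem xx01 {u : A} (hu : ρ (Equiv.swap 2 3) u = u) : ρ (Equiv.swap 0 1) (ρ xx u) = ρ xx u := by
  have e : (Equiv.swap 0 1 : Pm) * xx = xx * Equiv.swap 2 3 := by decide
  rw [← h.mul, e, h.mul, hu]

theorem xx23 {u : A} (hu : ρ (Equiv.swap 0 1) u = u) : ρ (Equiv.swap 2 3) (ρ xx u) = ρ xx u := by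
  have e : (Equiv.swap 2 3 : Pm) * xx = xx * Equiv.swap 0 1 := by decide
  rw [← h.mul, e, h.mul, hu]

/-- `u · u^x` is a fixed point of `D₈` -/
theorem norm_mem {u : A} (hu : ρ (Equiv.swap 0 1) u = u) (hu' : ρ (Equiv.swap 2 3) u = u) :
    u * ρ xx u = 1 ∨ u * ρ xx u = s 4 ∨ u * ρ xx u = τ ∨ u * ρ xx u = s 4 * τ := by
  refine h.fix _ ?_ ?_ ?_
  · rw [map_mul, hu, h.xx01 h01 h23 hu']
  · rw [map_mul, hu', h.xx23 h01 h23 hu]
  · have e : xx * xx = 1 := by decide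
    rw [map_mul, ← h.mul, e, h.one, mul_comm]

theorem u_fix : ρ (Equiv.swap 0 1) (y * ρ hh y * ρ (hh * hh) y) = y * ρ hh y * ρ (hh * hh) y ∧
    ρ (Equiv.swap 2 3) (y * ρ hh y * ρ (hh * hh) y) = y * ρ hh y * ρ (hh * hh) y := by
  have e1 : (Equiv.swap 0 1 : Pm) * hh = hh * Equiv.swap 0 1 := by decide
  have e2 : (Equiv.swap 0 1 : Pm) * (hh * hh) = (hh * hh) * Equiv.swap 0 1 := by decide
  have e3 : (Equiv.swap 2 3 : Pm) * hh = (hh * hh) * Equiv.swap 2 3 := by decide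
  have e4 : (Equiv.swap 2 3 : Pm) * (hh * hh) = hh * Equiv.swap 2 3 := by decide
  have f1 : ρ (Equiv.swap 0 1) (ρ hh y) = ρ hh y := by rw [← h.mul, e1, h.mul, h01]
  have f2 : ρ (Equiv.swap 0 1) (ρ (hh * hh) y) = ρ (hh * hh) y := by rw [← h.mul, e2, h.mul, h01]
  have f3 : ρ (Equiv.swap 2 3) (ρ hh y) = ρ (hh * hh) y := by rw [← h.mul, e3, h.mul, h23]
  have f4 : ρ (Equiv.swap 2 3) (ρ (hh * hh) y) = ρ hh y := by rw [← h.mul, e4, h.mul, h23]
  refine ⟨by rw [map_mul, map_mul, h01, f1, f2], ?_⟩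
  rw [map_mul, map_mul, h23, f3, f4, mul_assoc, mul_assoc, mul_comm (ρ hh y)]

/-- the transfer to the stabilizer of `{0, 1}` -/
theorem y3 (d : A) (hd : (y * ρ hh y * ρ (hh * hh) y) * ρ xx (y * ρ hh y * ρ (hh * hh) y) = d)
    (hd' : d = 1 ∨ d = τ) : y * ρ xx y = 1 ∨ y * ρ xx y = s 4 := by
  set u := y * ρ hh y * ρ (hh * hh) y with hu
  have u01 : ρ (Equiv.swap 0 1) u = u := (h.u_fix h01 h23).1
  have u23 : ρ (Equiv.swap 2 3) u = u := (h.u_fix h01 h23).2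
  have uh : ρ hh u = u := by
    have e1 : hh * (hh * hh) = 1 := by decide
    rw [hu, map_mul, map_mul, ← h.mul, ← h.mul, e1, h.one, mul_comm, ← mul_assoc]
  have dfix : ∀ p, ρ p d = d := by
    rcases hd' with rfl | rfl
    · intro p; exact map_one _
    · exact h.fixτ
  have ux : ρ xx u = u * d := by
    rw [← hd, ← mul_assoc, h.sq, one_mul]
  have uc : ∀ p, ρ (p * (xx * hh)) u = ρ p u * d := by
    intro p
    rw [h.mul, h.mul xx hh, uh, ux, map_mul, dfix]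
  have hd1 : d = 1 := by
    have e : (1 : Pm) * (xx * hh) * (xx * hh) * (xx * hh) * (xx * hh) * (xx * hh) = 1 := by decide
    have h2 : ρ (1 * (xx * hh) * (xx * hh) * (xx * hh) * (xx * hh) * (xx * hh)) u = u * d * d * d * d * d := by
      rw [uc, uc, uc, uc, uc, h.one]
    rw [e, h.one, mul_assoc (u * d * d) d d, h.sq, mul_one, mul_assoc u d d, h.sq, mul_one] at h2
    exact (mul_eq_left.1 h2.symm)
  rw [hd1, mul_one] at ux
  have hcc : ρ (xx * hh) u = u := h.mul_fix ux uh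
  have h34 : ρ (Equiv.swap 3 4) u = u := by
    have e : (Equiv.swap 3 4 : Pm) = hh * Equiv.swap 2 3 * (hh * hh) := by decide
    rw [e]
    exact h.mul_fix (h.mul_fix uh u23) (h.mul_fix uh uh)
  have h12 : ρ (Equiv.swap 1 2) u = u := by
    have e : (Equiv.swap 1 2 : Pm) = (xx * hh) * (xx * hh) * (xx * hh) * Equiv.swap 3 4 * ((xx * hh) * (xx * hh)) := by
      decide
    rw [e]
    exact h.mul_fix (h.mul_fix (h.mul_fix (h.mul_fix hcc hcc) hcc) h34) (h.mul_fix hcc hcc)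
  have hc : ρ cc u = u := by
    have e : cc = Equiv.swap 1 2 * (xx * hh) * Equiv.swap 1 2 := by decide
    rw [e]
    exact h.mul_fix (h.mul_fix h12 hcc) h12
  have hpow : ∀ (p : Pm), ρ p u = u → ∀ i : ℕ, ρ (p ^ i) u = u := by
    intro p hp i
    induction i with
    | zero => rw [pow_zero, h.one]
    | succ i ih => rw [pow_succ]; exact h.mul_fix ih hp
  have hL10 : ∀ g ∈ L10, ρ g u = u := by
    intro g hg
    simp only [L10, List.mem_flatMap, List.mem_map] at hg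
    obtain ⟨i, -, j, -, rfl⟩ := hg
    exact h.mul_fix (hpow _ hc i) (hpow _ h12 j)
  -- the product over the 30 flags
  have pa : (La.map fun q => ρ q y).prod = 1 := by
    have h2 : ∀ (L : List Pm), (∀ g ∈ L, ρ g u = u) →
        ((L.flatMap fun g => [g, g * hh, g * hh * hh]).map fun q => ρ q y).prod = u ^ L.length := by
      intro L
      induction L with
      | nil => intro _; simp
      | cons g L ih =>
        intro hL
        rw [List.flatMap_cons, List.map_append, List.prod_append, ih fun g' hg' => hL g' (List.mem_cons_of_mem _ hg'),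
          List.length_cons, pow_succ']
        congr 1
        rw [← hL g List.mem_cons_self, hu, map_mul, map_mul, ← h.mul, ← h.mul]
        simp only [List.map_cons, List.map_nil, List.prod_cons, List.prod_nil, mul_one, mul_assoc]
    have h3 := h2 L10 hL10
    have h4 : L10.length = 2 * 5 := by decide
    rw [h4, pow_mul, pow_two, h.sq, one_pow] at h3
    exact h3
  have pb : (Lb.map fun q => ρ q y).prod = (L15.map fun r => ρ r (y * ρ xx y)).prod := by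
    have h2 : ∀ (L : List Pm), ((L.flatMap fun r => [r, r * xx]).map fun q => ρ q y).prod =
        (L.map fun r => ρ r (y * ρ xx y)).prod := by
      intro L
      induction L with
      | nil => simp
      | cons g L ih =>
        rw [List.flatMap_cons, List.map_append, List.prod_append, ih, List.map_cons, List.prod_cons]
        congr 1
        simp only [List.map_cons, List.map_nil, List.prod_cons, List.prod_nil, mul_one, map_mul, h.mul]
    exact h2 L15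
  have hc' : (fun q : Pm => ρ q y) = fun q => ρ (can q) y := by
    funext q
    exact (h.can_eq h01 h23 q).symm
  have pab : (La.map fun q => ρ q y).prod = (Lb.map fun q => ρ q y).prod := by
    rw [hc']
    have h2 := (perm_lists.map fun q => ρ q y).prod_eq
    rw [List.map_map, List.map_map] at h2
    exact h2
  have hfin : (L15.map fun r => ρ r (y * ρ xx y)).prod = 1 := by rw [← pb, ← pab, pa]
  have hτ15 : ∀ (L : List Pm), (L.map fun r => ρ r τ).prod = τ ^ L.length := by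
    intro L
    induction L with
    | nil => simp
    | cons g L ih => rw [List.map_cons, List.prod_cons, ih, h.fixτ, List.length_cons, pow_succ']
  have h15 : L15.length = 2 * 7 + 1 := by decide
  have hτ' : (L15.map fun r => ρ r τ).prod = τ := by
    rw [hτ15, h15, pow_succ, pow_mul, pow_two, h.sq, one_pow, one_mul]
  have hs' : (L15.map fun r => ρ r (s 4)).prod = 1 := by
    have e1 : (fun r : Pm => ρ r (s 4)) = s ∘ fun r => r 4 := by
      funext r; exact h.perm r 4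
    have e2 : L15.map (fun r => r 4) = [4, 4, 4, 0, 0, 0, 1, 1, 1, 2, 2, 2, 3, 3, 3] := by decide
    rw [e1, ← List.map_map, e2]
    simp only [List.map_cons, List.map_nil, List.prod_cons, List.prod_nil, mul_one]
    calc _ = (s 0 * s 1 * s 2 * s 3 * s 4) * (s 0 * s 1 * s 2 * s 3 * s 4) * (s 0 * s 1 * s 2 * s 3 * s 4) := by
          simp only [mul_assoc, mul_comm, mul_left_comm]
      _ = 1 := by rw [h.prod]; simp
  rcases h.norm_mem h01 h23 h01 h23 with h2 | h2 | h2 | h2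
  · exact Or.inl h2
  · exact Or.inr h2
  · rw [h2, hτ'] at hfin
    exact absurd hfin h.τ_ne
  · rw [h2] at hfin
    have e : (fun r : Pm => ρ r (s 4 * τ)) = fun r => ρ r (s 4) * ρ r τ := by
      funext r; exact map_mul _ _ _
    rw [e, List.prod_map_mul, hs', hτ', one_mul] at hfin
    exact absurd hfin h.τ_ne

omit h01 h23 in
theorem n_fix : ρ (Equiv.swap 0 1) (s 0 * s 1) = s 0 * s 1 ∧ ρ (Equiv.swap 2 3) (s 0 * s 1) = s 0 * s 1 ∧
    ρ hh (s 0 * s 1) = s 0 * s 1 ∧ ρ xx (s 0 * s 1) = s 2 * s 3 := by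
  refine ⟨?_, ?_, ?_, ?_⟩
  · rw [map_mul, h.perm, h.perm, show (Equiv.swap 0 1 : Pm) 0 = 1 by decide,
      show (Equiv.swap 0 1 : Pm) 1 = 0 by decide, mul_comm]
  · rw [map_mul, h.perm, h.perm, show (Equiv.swap 2 3 : Pm) 0 = 0 by decide,
      show (Equiv.swap 2 3 : Pm) 1 = 1 by decide]
  · rw [map_mul, h.perm, h.perm, show hh 0 = 0 by decide, show hh 1 = 1 by decide]
  · rw [map_mul, h.perm, h.perm, show xx 0 = 2 by decide, show xx 1 = 3 by decide]

theorem norm_two : y * ρ xx y = 1 ∨ y * ρ xx y = s 4 := by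
  obtain ⟨n, hn⟩ : ∃ n, n = s 0 * s 1 := ⟨_, rfl⟩
  have hnf := h.n_fix
  rw [← hn] at hnf
  obtain ⟨n1, n2, n3, n4⟩ := hnf
  set u := y * ρ hh y * ρ (hh * hh) y with hu
  have u01 : ρ (Equiv.swap 0 1) u = u := (h.u_fix h01 h23).1
  have u23 : ρ (Equiv.swap 2 3) u = u := (h.u_fix h01 h23).2
  have key : ∀ d, u * ρ xx u = d → d = s 4 * 1 ∨ d = s 4 * τ → y * ρ xx y = 1 ∨ y * ρ xx y = s 4 := by
    intro d hd hd'
    have m01 : ρ (Equiv.swap 0 1) (y * n) = y * n := by rw [map_mul, h01, n1]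
    have m23 : ρ (Equiv.swap 2 3) (y * n) = y * n := by rw [map_mul, h23, n2]
    have n5 : ρ (hh * hh) n = n := h.mul_fix n3 n3
    have e3 : y * n * ρ hh (y * n) * ρ (hh * hh) (y * n) = u * n := by
      rw [map_mul, map_mul, n3, n5, hu]
      calc y * n * (ρ hh y * n) * (ρ (hh * hh) y * n) = y * ρ hh y * ρ (hh * hh) y * (n * n) * n := by
            simp only [mul_assoc, mul_comm, mul_left_comm]
        _ = _ := by rw [h.sq, mul_one]
    have e4 : ∀ v, v * n * ρ xx (v * n) = v * ρ xx v * s 4 := by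
      intro v
      rw [map_mul, n4, ← h.s_four, ← hn]
      simp only [mul_assoc, mul_comm, mul_left_comm]
    have h5 := h.y3 m01 m23 (u * n * ρ xx (u * n)) (by rw [e3]) (by
      rw [e4, hd]
      rcases hd' with rfl | rfl
      · left; rw [mul_one, h.sq]
      · right; rw [mul_comm, ← mul_assoc, h.sq, one_mul])
    rw [e4] at h5
    rcases h5 with h5 | h5
    · right
      calc y * ρ xx y = y * ρ xx y * (s 4 * s 4) := by rw [h.sq, mul_one]
        _ = s 4 := by rw [← mul_assoc, h5, one_mul]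
    · left
      exact mul_eq_right.1 h5
  rcases h.norm_mem h01 h23 u01 u23 with h2 | h2 | h2 | h2
  · exact h.y3 h01 h23 _ h2 (Or.inl rfl)
  · exact key _ h2 (Or.inl (mul_one _).symm)
  · exact h.y3 h01 h23 _ h2 (Or.inr rfl)
  · exact key _ h2 (Or.inr rfl)

/-- **The fixed points of `⟨(0 1), (2 3)⟩`.** -/
theorem fixed : ∃ v, (v = 1 ∨ v = s 4 ∨ v = τ ∨ v = s 4 * τ) ∧ (y = v ∨ y = s 0 * s 1 * v) := by
  obtain ⟨n1, n2, n3, n4⟩ := h.n_fix
  rcases h.norm_two h01 h23 with h2 | h2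
  · refine ⟨y, h.fix y h01 h23 ?_, Or.inl rfl⟩
    calc ρ xx y = y * y * ρ xx y := by rw [h.sq, one_mul]
      _ = y := by rw [mul_assoc, h2, mul_one]
  · refine ⟨s 0 * s 1 * y, h.fix _ (by rw [map_mul, n1, h01]) (by rw [map_mul, n2, h23]) ?_, Or.inr ?_⟩
    · rw [map_mul, n4]
      calc s 2 * s 3 * ρ xx y = s 2 * s 3 * (y * (y * ρ xx y)) := by rw [← mul_assoc y, h.sq, one_mul]
        _ = s 2 * s 3 * (y * (s 0 * s 1 * (s 2 * s 3))) := by rw [h2, h.s_four]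
        _ = s 0 * s 1 * y * ((s 2 * s 3) * (s 2 * s 3)) := by
          simp only [mul_assoc, mul_comm, mul_left_comm]
        _ = s 0 * s 1 * y := by rw [h.sq, mul_one]
    · rw [← mul_assoc, h.sq, one_mul]

end

end Dat

end Cfsg.Agent.Omega.IId.LFour.Petersen

end
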