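import Cfsg.Agent.Mrg.Omega.IId.LFour.TriP
import Cfsg.Agent.Mrg.Omega.IId.LFour.TwoTypes
import Mathlib
import Cfsg.Agent.Mrg.Omega.IId.LFour.Quarter

section


/-!
# `Ω₁(Z(C_S(n)))`, `V_P` a sum of two even-subset modules of degree 5 (helper774)

`w : Wr S P M₁ M₂`, `T = C_S(n)`: `Ω₁(Z(T)) = ⟨n, a, σ₂⟩` (`Wr.zT_cases`), by a transfer argument for the
`S₅`-module `Ω₁(Z(O₂(P))) ∩ C(S ∩ L₂)` (`Petersen.lean`).
-/

set_option autoImplicit false
set_option linter.unusedSectionVars false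

namespace Cfsg.Agent.Omega.IId.LFour

open Subgroup Pointwise Cfsg Cfsg.Agent.Omega.MinPar Cfsg.Agent.Omega.FFThm
open Cfsg.Agent.ZN (o2 zc jj zj zl zc_map)
open Cfsg.Agent.ZN.ChoiceBase (cj mem_cj)
open Cfsg.Agent.Omega.S5.Mod Cfsg.Agent.Omega.S5.TT
open Cfsg.Agent.Omega.S5.TT.Pos (na ns as sn n_ne s_ne a_ne n_ne_a n_ne_s a_ne_s e_sq' mem_C)
open Cfsg.Agent.MinSimple.VModule (mem_zc zc_le zc_comm zc_sq zc_le_zl le_normalizer_o2 o2_isPGroup o2_le
  normalizer_le_normalizer_zc le_normalizer_zl zl_le le_o2 le_centralizer_zc)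
open Petersen (Pm)

universe u

variable {G : Type u} [Group G]

theorem d8_words : ∀ p : Pm, p * dd = dd * p → p = 1 ∨ p = Equiv.swap 0 1 ∨ p = Equiv.swap 2 3 ∨
    p = Equiv.swap 0 1 * Equiv.swap 2 3 ∨ p = Petersen.xx ∨ p = Petersen.xx * Equiv.swap 0 1 ∨
    p = Petersen.xx * Equiv.swap 2 3 ∨ p = Petersen.xx * (Equiv.swap 0 1 * Equiv.swap 2 3) := by
  decide +kernel

theorem single_nn : (Pi.single 0 1 + Pi.single 1 1 : Vec) = nn := by decide

namespace Wr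

variable {S : Sylow 2 G} {P V₁ V₂ L₁ L₂ : Subgroup G} {M₁ : FiveMod V₁ L₁} {M₂ : FiveMod V₂ L₂}

section fin

variable [Finite G] (w : Wr S P M₁ M₂)
include w

theorem V₁_le_zc : V₁ ≤ zc (o2 P) := w.V₁_le.trans (w.star.isLoc.zl_le S w.hG)

theorem V₂_le_zc : V₂ ≤ zc (o2 P) := w.V₂_le.trans (w.star.isLoc.zl_le S w.hG)

/-- the elements of `L₁` which induce the same permutation induce the same automorphism of `Ω₁(Z(O₂(P)))` -/
theorem conj_eq_of_ind {l l' u : G} (hl : l ∈ L₁) (hl' : l' ∈ L₁) {p : Pm} (h : M₁.Ind l p)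
    (h' : M₁.Ind l' p) (hu : u ∈ zc (o2 P)) : l * u * l⁻¹ = l' * u * l'⁻¹ := by
  have h1 : M₁.Ind (l'⁻¹ * l) 1 := by
    have := h'.inv.mul h
    rwa [inv_mul_cancel] at this
  have h2 : l'⁻¹ * l ∈ L₁ := mul_mem (inv_mem hl') hl
  have h3 : l'⁻¹ * l ∈ P ⊓ centralizer (zl (S : Subgroup G) P : Set G) := by
    refine ⟨w.L₁_le h2, ?_⟩
    rw [w.sup]
    have h4 : V₁ ⊔ V₂ ≤ centralizer ({l'⁻¹ * l} : Set G) :=
      sup_le (fun v hv => mem_C.2 (mem_centralizer_iff.1 (FiveMod.ind_one_iff.1 h1) v hv))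
        fun v hv => mem_C.2 (w.L₁_comm h2 hv).symm
    exact mem_centralizer_iff.2 fun v hv => mem_C.1 (h4 hv)
  have h5 := (mem_centralizer_iff.1 (le_centralizer_zc_o2 w.hG S w.star h3) _ hu)
  calc l * u * l⁻¹ = l' * ((l'⁻¹ * l) * u) * (l'⁻¹ * l)⁻¹ * l'⁻¹ := by group
    _ = l' * (u * (l'⁻¹ * l)) * (l'⁻¹ * l)⁻¹ * l'⁻¹ := by rw [h5]
    _ = l' * u * l'⁻¹ := by group

theorem L₁_norm_zc {l u : G} (hl : l ∈ L₁) (hu : u ∈ zc (o2 P)) : l * u * l⁻¹ ∈ zc (o2 P) :=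
  (mem_normalizer_iff.1 (((le_normalizer_o2 P).trans (normalizer_le_normalizer_zc _)) (w.L₁_le hl)) u).1 hu

/-- `Ω₁(Z(O₂(P))) ∩ C(S ∩ L₂)` is invariant under `L₁` -/
theorem conj_AA {l u : G} (hl : l ∈ L₁)
    (hu : u ∈ zc (o2 P) ⊓ centralizer (((S : Subgroup G) ⊓ L₂ : Subgroup G) : Set G)) :
    l * u * l⁻¹ ∈ zc (o2 P) ⊓ centralizer (((S : Subgroup G) ⊓ L₂ : Subgroup G) : Set G) := by
  refine ⟨w.L₁_norm_zc hl hu.1, mem_centralizer_iff.2 fun t ht => ?_⟩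
  have h1 := w.comm_LL hl ht.2 hu.1
  have h2 := mem_centralizer_iff.1 hu.2 t ht
  calc t * (l * u * l⁻¹) = l * (l⁻¹ * (t * l * t⁻¹)) * (t * u) * l⁻¹ := by group
    _ = l * ((l⁻¹ * (t * l * t⁻¹)) * u) * t * l⁻¹ := by rw [h2]; group
    _ = l * (u * (l⁻¹ * (t * l * t⁻¹))) * t * l⁻¹ := by rw [h1]
    _ = l * u * l⁻¹ * t := by group

/-- the data of the transfer argument -/
theorem transfer {y : G} (hy : y ∈ zc (o2 P) ⊓ centralizer (((S : Subgroup G) ⊓ L₂ : Subgroup G) : Set G))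
    (h01 : ∀ l ∈ L₁, M₁.Ind l (Equiv.swap 0 1) → l * y * l⁻¹ = y)
    (h23 : ∀ l ∈ L₁, M₁.Ind l (Equiv.swap 2 3) → l * y * l⁻¹ = y) :
    ∃ v, (v = 1 ∨ v = M₁.e ss ∨ v = M₂.e ss ∨ v = M₁.e ss * M₂.e ss) ∧ (y = v ∨ y = M₁.e nn * v) := by
  set A := zc (o2 P) ⊓ centralizer (((S : Subgroup G) ⊓ L₂ : Subgroup G) : Set G) with hA
  let cg : CommGroup A := { (inferInstance : Group A) with
    mul_comm := fun a b => Subtype.ext (zc_comm _ _ a.2.1 _ b.2.1) }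
  choose lf hlf hli using fun p : Pm => M₁.exists_lift p
  have hli : ∀ p, M₁.Ind (lf p) p := hli
  let ρ : Pm → A →* A := fun p =>
    { toFun := fun a => ⟨lf p * a * (lf p)⁻¹, w.conj_AA (hlf p) a.2⟩
      map_one' := Subtype.ext (by
        show lf p * ((1 : A) : G) * (lf p)⁻¹ = 1
        rw [OneMemClass.coe_one]; group)
      map_mul' := fun a b => Subtype.ext (by
        show lf p * ((a * b : A) : G) * (lf p)⁻¹ = lf p * a * (lf p)⁻¹ * (lf p * b * (lf p)⁻¹)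
        rw [Subgroup.coe_mul]; group) }
  have hρ : ∀ p (a : A), ((ρ p a : A) : G) = lf p * a * (lf p)⁻¹ := fun _ _ => rfl
  have hmem1 : ∀ x, M₁.e x ∈ A := fun x =>
    ⟨w.V₁_le_zc (M₁.e_mem x), mem_centralizer_iff.2 fun t ht => w.L₂_comm ht.2 (M₁.e_mem x)⟩
  have hmem2 : M₂.e ss ∈ A := ⟨w.V₂_le_zc (M₂.e_mem ss), mem_centralizer_iff.2 fun t ht =>
    w.symm.comm_ss w.S_le ht.1 (M₂.le_normalizer ht.2)⟩
  let s : Fin 5 → A := fun i => ⟨M₁.e (Pi.single i 1), hmem1 _⟩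
  let τ : A := ⟨M₂.e ss, hmem2⟩
  have key : ∀ (p : Pm) (a : A) (l : G), l ∈ L₁ → M₁.Ind l p → ((ρ p a : A) : G) = l * a * l⁻¹ :=
    fun p a l hl hi => w.conj_eq_of_ind (hlf p) hl (hli p) hi a.2.1
  have dat : Petersen.Dat ρ s τ :=
    { sq := fun a => Subtype.ext (by
        show (a : G) * a = 1
        rw [← pow_two]; exact (mem_zc.1 a.2.1).2.2)
      one := fun a => Subtype.ext (by
        rw [key 1 a 1 (one_mem _) M₁.ind_one]; group)
      mul := fun p q a => Subtype.ext (by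
        rw [key (p * q) a (lf p * lf q) (mul_mem (hlf p) (hlf q)) ((hli p).mul (hli q)), hρ, hρ]; group)
      perm := fun p i => Subtype.ext (by
        show lf p * M₁.e (Pi.single i 1) * (lf p)⁻¹ = M₁.e (Pi.single (p i) 1)
        rw [hli p, FiveMod.single_comp])
      prod := Subtype.ext (by
        show M₁.e (Pi.single 0 1) * M₁.e (Pi.single 1 1) * M₁.e (Pi.single 2 1) * M₁.e (Pi.single 3 1) *
          M₁.e (Pi.single 4 1) = 1
        rw [← M₁.e_add, ← M₁.e_add, ← M₁.e_add, ← M₁.e_add, sum_single, M₁.e_one])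
      fixτ := fun p => Subtype.ext (by
        show lf p * M₂.e ss * (lf p)⁻¹ = M₂.e ss
        rw [w.L₁_comm (hlf p) (M₂.e_mem ss), mul_inv_cancel_right])
      τ_ne := fun h => s_ne M₂ (congrArg Subtype.val h)
      fix := by
        intro u h1 h2 h3
        have hword : ∀ p : Pm, p * dd = dd * p → ρ p u = u := by
          intro p hp
          have m : ∀ {p q : Pm}, ρ p u = u → ρ q u = u → ρ (p * q) u = u := by
            intro p q hp hq
            apply Subtype.ext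
            rw [key (p * q) u (lf p * lf q) (mul_mem (hlf p) (hlf q)) ((hli p).mul (hli q))]
            have e1 : lf p * u * (lf p)⁻¹ = u := congrArg Subtype.val hp
            have e2 : lf q * u * (lf q)⁻¹ = u := congrArg Subtype.val hq
            calc lf p * lf q * u * (lf p * lf q)⁻¹ = lf p * (lf q * u * (lf q)⁻¹) * (lf p)⁻¹ := by group
              _ = u := by rw [e2, e1]
          rcases d8_words p hp with rfl | rfl | rfl | rfl | rfl | rfl | rfl | rfl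
          · apply Subtype.ext
            rw [key 1 u 1 (one_mem _) M₁.ind_one]; group
          · exact h1
          · exact h2
          · exact m h1 h2
          · exact h3
          · exact m h3 h1
          · exact m h3 h2
          · exact m h3 (m h1 h2)
        have hz : (u : G) ∈ zc ((S : Subgroup G) ⊓ normalizer (V₁ : Set G)) := by
          refine mem_zc.2 ⟨w.T_le (w.o2P_le_T (zc_le _ u.2.1)), fun b hb => ?_, (mem_zc.1 u.2.1).2.2⟩
          obtain ⟨p, q, hp, hq⟩ := w.ind_of_norm (w.S_le hb.1) hb.2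
          obtain ⟨t, ht, hti⟩ := w.d₂' q (w.symm.dS w.S_le hb.1 hq)
          have hbt : M₂.Ind (b * t⁻¹) 1 := by
            have := hq.mul hti.inv
            rwa [mul_inv_cancel] at this
          have hb1 : b * t⁻¹ ∈ L₁ := w.mem_L₁ (mul_mem (w.S_le hb.1) (inv_mem (w.S_le ht.1))) fun v hv =>
            (mem_centralizer_iff.1 (FiveMod.ind_one_iff.1 hbt) v hv).symm
          have hb2 : M₁.Ind (b * t⁻¹) p := by
            have := hp.mul (w.ind₁_of_L₂ (inv_mem ht.2))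
            rwa [mul_one] at this
          have e1 : b * t⁻¹ * u * (b * t⁻¹)⁻¹ = u := by
            rw [← key p u _ hb1 hb2, hword p (w.dS w.S_le hb.1 hp)]
          have e2 := mem_centralizer_iff.1 u.2.2 t ht
          rw [mul_inv_eq_iff_eq_mul] at e1
          calc b * u = (b * t⁻¹) * (t * u) := by group
            _ = (b * t⁻¹ * u) * t := by rw [e2]; group
            _ = u * b := by rw [e1]; group
        rcases w.zS₁_le hz with h4 | h4 | h4 | h4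
        · exact Or.inl (Subtype.ext h4)
        · exact Or.inr (Or.inl (Subtype.ext (by rw [h4, ss_eq])))
        · exact Or.inr (Or.inr (Or.inl (Subtype.ext h4)))
        · refine Or.inr (Or.inr (Or.inr (Subtype.ext ?_)))
          show (u : G) = M₁.e (Pi.single 4 1) * M₂.e ss
          rw [h4, ← ss_eq] }
  obtain ⟨v, hv, hyv⟩ := dat.fixed (y := (⟨y, hy⟩ : A))
    (Subtype.ext (h01 _ (hlf _) (hli _))) (Subtype.ext (h23 _ (hlf _) (hli _)))
  refine ⟨v, ?_, ?_⟩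
  · rcases hv with rfl | rfl | rfl | rfl
    · exact Or.inl rfl
    · right; left
      show M₁.e (Pi.single 4 1) = _
      rw [← ss_eq]
    · right; right; left; rfl
    · right; right; right
      show M₁.e (Pi.single 4 1) * M₂.e ss = _
      rw [← ss_eq]
  · rcases hyv with h1 | h1
    · exact Or.inl (congrArg Subtype.val h1)
    · right
      have h2 : y = M₁.e (Pi.single 0 1) * M₁.e (Pi.single 1 1) * v := congrArg Subtype.val h1
      rw [h2, ← M₁.e_add, single_nn]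

/-- **`Ω₁(Z(C_S(n))) ≤ ⟨n, a, σ₂⟩`.** -/
theorem zT_cases {y : G} (hy : y ∈ zc ((S : Subgroup G) ⊓ centralizer ({M₁.e nn} : Set G))) :
    ∃ v, (v = 1 ∨ v = M₁.e ss ∨ v = M₂.e ss ∨ v = M₁.e ss * M₂.e ss) ∧ (y = v ∨ y = M₁.e nn * v) := by
  obtain ⟨hyT, hyc, hy2⟩ := mem_zc.1 hy
  have hyP : y ∈ zc (o2 P) := by
    have h1 : y ∈ o2 P := w.star.isLoc.char2 S w.hG ⟨w.S_le hyT.1, mem_centralizer_iff.2 fun t ht =>
      hyc t (w.o2P_le_T ht)⟩
    exact mem_zc.2 ⟨h1, fun t ht => hyc t (w.o2P_le_T ht), hy2⟩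
  have h0 : y ∈ zc (o2 P) ⊓ centralizer (((S : Subgroup G) ⊓ L₂ : Subgroup G) : Set G) :=
    ⟨hyP, mem_centralizer_iff.2 fun t ht => hyc t ⟨ht.1, w.L₂_le_C ht.2⟩⟩
  have key : ∀ p : Pm, TTp p → ∀ l ∈ L₁, M₁.Ind l p → l * y * l⁻¹ = y := by
    intro p hp l hl hi
    obtain ⟨t, ht, hti⟩ := w.d₁' p (ttp_dd p hp)
    rw [w.conj_eq_of_ind hl ht.2 hi hti hyP, hyc t (mem_T_of_ind ht.1 hp hti), mul_inv_cancel_right]
  exact w.transfer h0 (key _ (Or.inr (Or.inl rfl))) (key _ (Or.inr (Or.inr (Or.inl rfl))))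

end fin

end Wr

end Cfsg.Agent.Omega.IId.LFour

end

section


/-!
# Involutions of `GL₃(2)` (helper774)

Linear maps of `F₂³` as triples of images of the standard basis; the transvection `x` interchanging `e₀` and
`e₁`; the involutions `m` with `(x m)³ = 1` (by `decide`); conjugate involutions have a product of odd order.
-/

set_option autoImplicit false
set_option linter.unusedSectionVars false

namespace Cfsg.Agent.Omega.IId.LFour.ThreeLin

/-- the vectors -/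
abbrev V3 := ZMod 2 × ZMod 2 × ZMod 2

/-- linear maps: the images of the basis -/
abbrev M3 := V3 × V3 × V3

/-- the value -/
def lin (t : M3) (v : V3) : V3 :=
  (v.1 * t.1.1 + v.2.1 * t.2.1.1 + v.2.2 * t.2.2.1,
   v.1 * t.1.2.1 + v.2.1 * t.2.1.2.1 + v.2.2 * t.2.2.2.1,
   v.1 * t.1.2.2 + v.2.1 * t.2.1.2.2 + v.2.2 * t.2.2.2.2)

/-- composition -/
def comp (t u : M3) : M3 := (lin t u.1, lin t u.2.1, lin t u.2.2)

def e0 : V3 := (1, 0, 0)
def e1 : V3 := (0, 1, 0)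
def e2 : V3 := (0, 0, 1)

/-- the identity -/
def idt : M3 := (e0, e1, e2)

/-- interchange `e₀`, `e₁` -/
def xt : M3 := (e1, e0, e2)

theorem lin_comp (t u : M3) (v : V3) : lin (comp t u) v = lin t (lin u v) := by
  simp only [lin, comp, Prod.mk.injEq]
  refine ⟨by ring, by ring, by ring⟩

theorem lin_idt (v : V3) : lin idt v = v := by
  simp [lin, idt, e0, e1, e2]

theorem lin_e0 (t : M3) : lin t e0 = t.1 := by simp [lin, e0]
theorem lin_e1 (t : M3) : lin t e1 = t.2.1 := by simp [lin, e1]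
theorem lin_e2 (t : M3) : lin t e2 = t.2.2 := by simp [lin, e2]

theorem lin_add (t : M3) (u v : V3) : lin t (u + v) = lin t u + lin t v := by
  simp only [lin, Prod.fst_add, Prod.snd_add, Prod.mk_add_mk, Prod.mk.injEq]
  refine ⟨by ring, by ring, by ring⟩

theorem ext_lin {t u : M3} (h : ∀ v, lin t v = lin u v) : t = u := by
  have h0 := h e0
  have h1 := h e1
  have h2 := h e2
  rw [lin_e0, lin_e0] at h0
  rw [lin_e1, lin_e1] at h1
  rw [lin_e2, lin_e2] at h2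
  exact Prod.ext h0 (Prod.ext h1 h2)

/-- third power -/
def p3 (t : M3) : M3 := comp t (comp t t)

/-- twelfth power -/
def p12 (t : M3) : M3 := comp (comp (p3 t) (p3 t)) (comp (p3 t) (p3 t))

theorem decomp : ∀ v : V3, v = (if v.1 = 0 then 0 else e0) + (if v.2.1 = 0 then 0 else e1) +
    (if v.2.2 = 0 then 0 else e2) := by decide

set_option synthInstance.maxSize 2000 in
theorem p12_eq : ∀ t : M3, comp t t = idt → p12 (comp xt t) = idt := by
  decide +kernel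

set_option synthInstance.maxSize 2000 in
/-- the four involutions fixing `e₀` -/
theorem four : ∀ t : M3, comp t t = idt → p3 (comp xt t) = idt → t.1 = e0 →
    (t.2.1 = (1, 1, 0) ∧ t.2.2 = (1, 0, 1)) ∨ (t.2.1 = (0, 0, 1) ∧ t.2.2 = (0, 1, 0)) ∨
    (t.2.1 = (1, 1, 0) ∧ t.2.2 = (0, 0, 1)) ∨ (t.2.1 = (1, 1, 1) ∧ t.2.2 = (0, 0, 1)) := by
  decide +kernel

set_option synthInstance.maxSize 2000 in
theorem three : ∀ t : M3, comp t t = idt → p3 (comp xt t) = idt →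
    t = xt ∨ t.1 = e0 ∨ (comp t (comp xt t)).1 = e0 := by
  decide +kernel

section dihedral

variable {Q : Type*} [Group Q]

/-- Conjugate involutions: the product has odd order. -/
theorem exists_odd {X W : Q} (hX : X * X = 1) (hW : W * W = 1) {g : Q}
    (hg : g ∈ Subgroup.closure ({X, W} : Set Q)) (h : g * X * g⁻¹ = W) :
    ∃ i : ℤ, (X * W) ^ (2 * i + 1) = 1 := by
  have hXi : X⁻¹ = X := inv_eq_of_mul_eq_one_left hX
  have hWi : W⁻¹ = W := inv_eq_of_mul_eq_one_left hW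
  have hcX : ∀ k : ℤ, X * (X * W) ^ k = (X * W) ^ (-k) * X := by
    intro k
    have h1 : (X * W) ^ (-k) = (X * (X * W) * X⁻¹) ^ k := by
      have h2 : X * (X * W) * X⁻¹ = (X * W)⁻¹ := by
        rw [mul_inv_rev, hXi, hWi, ← mul_assoc, hX, one_mul]
      rw [h2, inv_zpow, zpow_neg]
    rw [h1, conj_zpow, inv_mul_cancel_right]
  have key : ∀ g ∈ Subgroup.closure ({X, W} : Set Q), ∃ k : ℤ, g = (X * W) ^ k ∨ g = (X * W) ^ k * X := by
    intro g hg
    induction hg using Subgroup.closure_induction with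
    | mem x hx =>
      rcases hx with rfl | rfl
      · exact ⟨0, Or.inr (by rw [zpow_zero, one_mul])⟩
      · refine ⟨-1, Or.inr ?_⟩
        rw [zpow_neg, zpow_one, mul_inv_rev, hXi, hWi, mul_assoc, hX, mul_one]
    | one => exact ⟨0, Or.inl (by rw [zpow_zero])⟩
    | mul x y _ _ hx hy =>
      obtain ⟨k, rfl | rfl⟩ := hx <;> obtain ⟨l, rfl | rfl⟩ := hy
      · exact ⟨k + l, Or.inl (by rw [zpow_add])⟩
      · exact ⟨k + l, Or.inr (by rw [zpow_add, mul_assoc])⟩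
      · exact ⟨k - l, Or.inr (by rw [mul_assoc, hcX, sub_eq_add_neg, zpow_add, mul_assoc])⟩
      · exact ⟨k - l, Or.inl (by
          rw [mul_assoc, ← mul_assoc X, hcX, sub_eq_add_neg, zpow_add, mul_assoc ((X * W) ^ (-l)), hX,
            mul_one])⟩
    | inv x _ hx =>
      obtain ⟨k, rfl | rfl⟩ := hx
      · exact ⟨-k, Or.inl (by rw [zpow_neg])⟩
      · refine ⟨k, Or.inr ?_⟩
        rw [mul_inv_rev, hXi, ← zpow_neg, hcX, neg_neg]
  have hc : ∀ k : ℤ, (X * W) ^ k * X * ((X * W) ^ k)⁻¹ = W → (X * W) ^ (2 * k + 1) = 1 := by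
    intro k hk
    have h1 : (X * W) ^ k * X * ((X * W) ^ k)⁻¹ = (X * W) ^ (2 * k) * X := by
      rw [← zpow_neg, mul_assoc, hcX, neg_neg, ← mul_assoc, ← zpow_add]
      congr 2
      ring
    rw [h1] at hk
    have h2 : (X * W) ^ (2 * k) = W * X := by
      calc (X * W) ^ (2 * k) = (X * W) ^ (2 * k) * X * X := by rw [mul_assoc, hX, mul_one]
        _ = W * X := by rw [hk]
    rw [zpow_add, h2, zpow_one]
    calc W * X * (X * W) = W * (X * X) * W := by group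
      _ = 1 := by rw [hX, mul_one, hW]
  obtain ⟨k, rfl | rfl⟩ := key g hg
  · exact ⟨k, hc k h⟩
  · refine ⟨k, hc k ?_⟩
    calc (X * W) ^ k * X * ((X * W) ^ k)⁻¹ = (X * W) ^ k * X * X * ((X * W) ^ k * X)⁻¹ := by
          rw [mul_inv_rev]; group
      _ = W := h

theorem cube_of_odd {Y : Q} (h12 : Y ^ 12 = 1) (h : ∃ i : ℤ, Y ^ (2 * i + 1) = 1) : Y ^ 3 = 1 := by
  obtain ⟨i, hi⟩ := h
  have h1 := orderOf_dvd_of_pow_eq_one h12
  have h2 : (orderOf Y : ℤ) ∣ 2 * i + 1 := orderOf_dvd_iff_zpow_eq_one.2 hi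
  have h3 : Nat.Coprime (orderOf Y) 4 := by
    have h4 : Nat.Coprime (orderOf Y) 2 := by
      rw [Nat.coprime_two_right]
      by_contra hne
      rw [Nat.not_odd_iff_even] at hne
      obtain ⟨j, hj⟩ := hne
      obtain ⟨k, hk⟩ := h2
      rw [hj] at hk
      push_cast at hk
      have : 2 * i + 1 = 2 * ((j : ℤ) * k) := by rw [hk]; ring
      omega
    exact Nat.Coprime.pow_right 2 h4
  have h5 : orderOf Y ∣ 4 * 3 := h1
  exact orderOf_dvd_iff_pow_eq_one.1 (h3.dvd_of_dvd_mul_left h5)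

end dihedral

end Cfsg.Agent.Omega.IId.LFour.ThreeLin

end

section


/-!
# The action of `N_G(C_S(n))` on `Ω₁(Z(C_S(n)))` (helper774; text helper644 #19215)

`w : Wr S P M₁ M₂`, `T = C_S(n)`, `S₁ = N_S(V₁)`, `ζ (i, j, k) = n^i a^j σ₂^k`.

* `Wr.S₁_syl_N` : `S₁` is a Sylow 2-subgroup of `N_G(T)`;
* `Wr.act_props` : `g ∈ N_G(T) ∖ T`, `T⟨g⟩` a 2-group: `g` acts on `Ω₁(Z(T))` as an involution `m` with
  `(x m)³ = 1`, and `|T⟨g⟩| = 2|T|`.
-/

set_option autoImplicit false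
set_option linter.unusedSectionVars false

namespace Cfsg.Agent.Omega.IId.LFour

open Subgroup Pointwise Cfsg Cfsg.Agent.Omega.MinPar Cfsg.Agent.Omega.FFThm
open Cfsg.Agent.ZN (o2 zc jj zj zl zc_map)
open Cfsg.Agent.ZN.ChoiceBase (cj mem_cj)
open Cfsg.Agent.Omega.S5.Mod Cfsg.Agent.Omega.S5.TT
open Cfsg.Agent.Omega.S5.TT.Pos (na ns as sn n_ne s_ne a_ne n_ne_a n_ne_s a_ne_s e_sq' mem_C)
open Cfsg.Agent.MinSimple.VModule (mem_zc zc_le zc_comm zc_sq zc_le_zl le_normalizer_o2 o2_isPGroup o2_le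
  normalizer_le_normalizer_zc le_normalizer_zl zl_le le_o2 le_centralizer_zc)
open Cfsg.Agent.Omega.TwoFFour (Syl2)
open ThreeLin (V3 M3 lin comp e0 e1 e2 idt xt p3 p12)

universe u

variable {G : Type u} [Group G]

/-- the `V₁`-part -/
def f1 (v : V3) : Vec := ![v.1, v.1, v.2.1, v.2.1, 0]

/-- the `V₂`-part -/
def g1 (v : V3) : Vec := ![0, 0, 0, 0, v.2.2]

theorem pow_twelve (y : G) : y ^ 12 = y * (y * y) * (y * (y * y)) * (y * (y * y) * (y * (y * y))) := by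
  simp only [pow_succ, pow_zero, one_mul, mul_assoc]

theorem pow_three_eq (y : G) : y ^ 3 = y * (y * y) := by
  simp only [pow_succ, pow_zero, one_mul, mul_assoc]

theorem f1_add : ∀ u v : V3, f1 (u + v) = f1 u + f1 v := by decide +kernel

theorem g1_add : ∀ u v : V3, g1 (u + v) = g1 u + g1 v := by decide +kernel

theorem fg_inj : ∀ u v : V3, (f1 u = f1 v ∨ f1 u = f1 v + 1) → (g1 u = g1 v ∨ g1 u = g1 v + 1) → u = v := by
  decide +kernel

variable {S : Sylow 2 G} {P V₁ V₂ L₁ L₂ : Subgroup G}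

/-- `ζ (i, j, k) = n^i a^j σ₂^k` -/
def zet (M₁ : FiveMod V₁ L₁) (M₂ : FiveMod V₂ L₂) (v : V3) : G := M₁.e (f1 v) * M₂.e (g1 v)

/-- `g` acts on `Ω₁(Z(T))` as `t` -/
def Act (M₁ : FiveMod V₁ L₁) (M₂ : FiveMod V₂ L₂) (g : G) (t : M3) : Prop :=
  ∀ v, g * zet M₁ M₂ v * g⁻¹ = zet M₁ M₂ (lin t v)

variable {M₁ : FiveMod V₁ L₁} {M₂ : FiveMod V₂ L₂}

theorem zet_zero : zet M₁ M₂ 0 = 1 := by
  have h1 : f1 0 = 0 := by decide
  have h2 : g1 0 = 0 := by decide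
  rw [zet, h1, h2, M₁.e_zero, M₂.e_zero, mul_one]

theorem zet_e0 : zet M₁ M₂ e0 = M₁.e nn := by
  have h1 : f1 e0 = nn := by decide
  have h2 : g1 e0 = 0 := by decide
  rw [zet, h1, h2, M₂.e_zero, mul_one]

theorem zet_e1 : zet M₁ M₂ e1 = M₁.e aa := by
  have h1 : f1 e1 = aa := by decide
  have h2 : g1 e1 = 0 := by decide
  rw [zet, h1, h2, M₂.e_zero, mul_one]

theorem zet_e2 : zet M₁ M₂ e2 = M₂.e ss := by
  have h1 : f1 e2 = 0 := by decide
  have h2 : g1 e2 = ss := by decide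
  rw [zet, h1, h2, M₁.e_zero, one_mul]

theorem zet_s : zet M₁ M₂ (1, 1, 0) = M₁.e ss := by
  have h1 : M₁.e (f1 (1, 1, 0)) = M₁.e ss := M₁.e_eq_iff.2 (by decide)
  have h2 : g1 (1, 1, 0) = 0 := by decide
  rw [zet, h1, h2, M₂.e_zero, mul_one]

theorem zet_z : zet M₁ M₂ (1, 1, 1) = M₁.e ss * M₂.e ss := by
  have h1 : M₁.e (f1 (1, 1, 1)) = M₁.e ss := M₁.e_eq_iff.2 (by decide)
  have h2 : g1 (1, 1, 1) = ss := by decide
  rw [zet, h1, h2]

theorem Act.mul {g h : G} {t u : M3} (hg : Act M₁ M₂ g t) (hh : Act M₁ M₂ h u) :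
    Act M₁ M₂ (g * h) (comp t u) := by
  intro v
  rw [ThreeLin.lin_comp, ← hg, ← hh]
  group

theorem Act.e0 {g : G} {t : M3} (hg : Act M₁ M₂ g t) : g * M₁.e nn * g⁻¹ = zet M₁ M₂ t.1 := by
  rw [← zet_e0 (M₁ := M₁) (M₂ := M₂), hg, ThreeLin.lin_e0]

theorem Act.e1 {g : G} {t : M3} (hg : Act M₁ M₂ g t) : g * M₁.e aa * g⁻¹ = zet M₁ M₂ t.2.1 := by
  rw [← zet_e1 (M₁ := M₁) (M₂ := M₂), hg, ThreeLin.lin_e1]

theorem Act.e2 {g : G} {t : M3} (hg : Act M₁ M₂ g t) : g * M₂.e ss * g⁻¹ = zet M₁ M₂ t.2.2 := by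
  rw [← zet_e2 (M₁ := M₁) (M₂ := M₂), hg, ThreeLin.lin_e2]

namespace Wr

section fin

variable [Finite G] (w : Wr S P M₁ M₂)
include w

theorem zet_add (u v : V3) : zet M₁ M₂ (u + v) = zet M₁ M₂ u * zet M₁ M₂ v := by
  have h := w.comm (M₁.e_mem (f1 v)) (M₂.e_mem (g1 u))
  rw [zet, f1_add, g1_add, M₁.e_add, M₂.e_add, zet, zet]
  calc _ = M₁.e (f1 u) * (M₁.e (f1 v) * M₂.e (g1 u)) * M₂.e (g1 v) := by group
    _ = _ := by rw [h]; group

theorem zet_inj {u v : V3} (h : zet M₁ M₂ u = zet M₁ M₂ v) : u = v := by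
  have h1 : (M₁.e (f1 v))⁻¹ * M₁.e (f1 u) = M₂.e (g1 v) * (M₂.e (g1 u))⁻¹ := by
    have h2 : M₁.e (f1 u) * M₂.e (g1 u) = M₁.e (f1 v) * M₂.e (g1 v) := h
    calc (M₁.e (f1 v))⁻¹ * M₁.e (f1 u) = (M₁.e (f1 v))⁻¹ * (M₁.e (f1 u) * M₂.e (g1 u)) * (M₂.e (g1 u))⁻¹ := by
          group
      _ = _ := by rw [h2]; group
  have h3 : (M₁.e (f1 v))⁻¹ * M₁.e (f1 u) = 1 :=
    w.V₁_ne_V₂ (mul_mem (inv_mem (M₁.e_mem _)) (M₁.e_mem _))
      (by rw [h1]; exact mul_mem (M₂.e_mem _) (inv_mem (M₂.e_mem _)))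
  rw [h3] at h1
  exact fg_inj u v (M₁.e_eq_iff.1 (inv_mul_eq_one.1 h3).symm) (M₂.e_eq_iff.1 (mul_inv_eq_one.1 h1.symm).symm)

theorem zet_sq (v : V3) : zet M₁ M₂ v * zet M₁ M₂ v = 1 := by
  rw [← w.zet_add]
  have : ∀ v : V3, v + v = 0 := by decide
  rw [this, zet_zero]

theorem act_unique {g : G} {t u : M3} (ht : Act M₁ M₂ g t) (hu : Act M₁ M₂ g u) : t = u :=
  ThreeLin.ext_lin fun v => w.zet_inj (by rw [← ht, ← hu])

theorem act_of {g : G} {t : M3} (h0 : g * M₁.e nn * g⁻¹ = zet M₁ M₂ t.1)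
    (h1 : g * M₁.e aa * g⁻¹ = zet M₁ M₂ t.2.1) (h2 : g * M₂.e ss * g⁻¹ = zet M₁ M₂ t.2.2) :
    Act M₁ M₂ g t := by
  intro v
  rw [← zet_e0 (M₁ := M₁) (M₂ := M₂), ← ThreeLin.lin_e0 t] at h0
  rw [← zet_e1 (M₁ := M₁) (M₂ := M₂), ← ThreeLin.lin_e1 t] at h1
  rw [← zet_e2 (M₁ := M₁) (M₂ := M₂), ← ThreeLin.lin_e2 t] at h2
  have hadd : ∀ u v, g * zet M₁ M₂ (u + v) * g⁻¹ = (g * zet M₁ M₂ u * g⁻¹) * (g * zet M₁ M₂ v * g⁻¹) := by
    intro u v
    rw [w.zet_add]; group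
  have k : ∀ (i : ZMod 2) (e : V3), g * zet M₁ M₂ e * g⁻¹ = zet M₁ M₂ (lin t e) →
      g * zet M₁ M₂ (if i = 0 then 0 else e) * g⁻¹ = zet M₁ M₂ (lin t (if i = 0 then 0 else e)) := by
    intro i e he
    split_ifs
    · have h3 : lin t 0 = 0 := by simp [lin]
      rw [h3, zet_zero]; group
    · exact he
  rw [ThreeLin.decomp v, hadd, hadd, ThreeLin.lin_add, ThreeLin.lin_add, w.zet_add, w.zet_add, k _ _ h0,
    k _ _ h1, k _ _ h2]

theorem a_mem_T : M₁.e aa ∈ (S : Subgroup G) ⊓ centralizer ({M₁.e nn} : Set G) :=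
  ⟨w.V₁_le_S (M₁.e_mem aa), mem_C.2 (M₁.e_comm aa nn)⟩

/-- `ζ v ∈ Ω₁(Z(T))` -/
theorem zet_mem (v : V3) : zet M₁ M₂ v ∈ zc ((S : Subgroup G) ⊓ centralizer ({M₁.e nn} : Set G)) := by
  have hn : zet M₁ M₂ e0 ∈ zc ((S : Subgroup G) ⊓ centralizer ({M₁.e nn} : Set G)) := by
    rw [zet_e0]
    exact mem_zc.2 ⟨w.n_mem_T, fun y hy => mem_C.1 hy.2, e_sq' M₁ nn⟩
  have ha : zet M₁ M₂ e1 ∈ zc ((S : Subgroup G) ⊓ centralizer ({M₁.e nn} : Set G)) := by
    rw [zet_e1]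
    exact mem_zc.2 ⟨w.a_mem_T, fun y hy => w.T_comm_a hy, e_sq' M₁ aa⟩
  have hs : zet M₁ M₂ e2 ∈ zc ((S : Subgroup G) ⊓ centralizer ({M₁.e nn} : Set G)) := by
    rw [zet_e2]
    exact mem_zc.2 ⟨w.V₂_le_T (M₂.e_mem ss), fun y hy => w.T_comm_s₂ hy, e_sq' M₂ ss⟩
  have k : ∀ (i : ZMod 2) (e : V3), zet M₁ M₂ e ∈ zc ((S : Subgroup G) ⊓ centralizer ({M₁.e nn} : Set G)) →
      zet M₁ M₂ (if i = 0 then 0 else e) ∈ zc ((S : Subgroup G) ⊓ centralizer ({M₁.e nn} : Set G)) := by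
    intro i e he
    split_ifs
    · rw [zet_zero]; exact one_mem _
    · exact he
  rw [ThreeLin.decomp v, w.zet_add, w.zet_add]
  exact mul_mem (mul_mem (k _ _ hn) (k _ _ ha)) (k _ _ hs)

/-- `Ω₁(Z(T))` consists of the `ζ v` -/
theorem exists_zet {y : G} (hy : y ∈ zc ((S : Subgroup G) ⊓ centralizer ({M₁.e nn} : Set G))) :
    ∃ v, y = zet M₁ M₂ v := by
  obtain ⟨v, hv, hyv⟩ := w.zT_cases hy
  have h1 : ∃ u, v = zet M₁ M₂ u := by
    rcases hv with rfl | rfl | rfl | rfl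
    · exact ⟨0, zet_zero.symm⟩
    · exact ⟨_, zet_s.symm⟩
    · exact ⟨_, zet_e2.symm⟩
    · exact ⟨_, zet_z.symm⟩
  obtain ⟨u, rfl⟩ := h1
  rcases hyv with rfl | rfl
  · exact ⟨u, rfl⟩
  · exact ⟨e0 + u, by rw [w.zet_add, zet_e0]⟩

theorem exists_act {g : G}
    (hg : g ∈ normalizer (((S : Subgroup G) ⊓ centralizer ({M₁.e nn} : Set G) : Subgroup G) : Set G)) :
    ∃ t, Act M₁ M₂ g t := by
  have hN := normalizer_le_normalizer_zc _ hg
  obtain ⟨u0, h0⟩ := w.exists_zet ((mem_normalizer_iff.1 hN _).1 (w.zet_mem e0))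
  obtain ⟨u1, h1⟩ := w.exists_zet ((mem_normalizer_iff.1 hN _).1 (w.zet_mem e1))
  obtain ⟨u2, h2⟩ := w.exists_zet ((mem_normalizer_iff.1 hN _).1 (w.zet_mem e2))
  rw [zet_e0] at h0
  rw [zet_e1] at h1
  rw [zet_e2] at h2
  exact ⟨(u0, u1, u2), w.act_of h0 h1 h2⟩

theorem act_T {g : G} (hg : g ∈ (S : Subgroup G) ⊓ centralizer ({M₁.e nn} : Set G)) :
    Act M₁ M₂ g idt := by
  intro v
  rw [ThreeLin.lin_idt, (mem_zc.1 (w.zet_mem v)).2.1 g hg, mul_inv_cancel_right]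

theorem act_x {x : G} (hx : x ∈ L₁) (hi : M₁.Ind x tt) : Act M₁ M₂ x xt := by
  refine w.act_of ?_ ?_ ?_
  · rw [tt_n hi]; exact zet_e1.symm
  · rw [tt_a hi]; exact zet_e0.symm
  · rw [w.L₁_comm hx (M₂.e_mem ss), mul_inv_cancel_right]; exact zet_e2.symm

/-- `S₁` normalises `T` -/
theorem S₁_le_N : (S : Subgroup G) ⊓ normalizer (V₁ : Set G) ≤
    normalizer (((S : Subgroup G) ⊓ centralizer ({M₁.e nn} : Set G) : Subgroup G) : Set G) := by
  obtain ⟨x, hx, hi⟩ := w.exists_x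
  have hxN : x ∈ normalizer (((S : Subgroup G) ⊓ centralizer ({M₁.e nn} : Set G) : Subgroup G) : Set G) := by
    refine MinSimple.VModule.mem_normalizer_of_map_le ?_
    rintro _ ⟨l, hl, rfl⟩
    exact w.conj_T hx.1 hi hl
  intro y hy
  rcases w.mem_or₁ hx.1 hi hy with h1 | h1
  · exact le_normalizer h1
  · have h2 := mul_mem (le_normalizer h1) (inv_mem hxN)
    rwa [mul_inv_cancel_right] at h2

/-- `S₁` is a Sylow 2-subgroup of `C_G(σ₁)` -/
theorem nt : Syl2 ((S : Subgroup G) ⊓ normalizer (V₁ : Set G)) (centralizer ({M₁.e ss} : Set G)) :=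
  ⟨fun _ hg => mem_C.2 (w.S₁_comm_s₁ hg), S.isPGroup'.to_le inf_le_left, w.no_tri⟩

/-- a 2-subgroup of `N_G(T)` containing `S₁` is `S₁` -/
theorem S₁_max {R : Subgroup G} (hR2 : IsPGroup 2 R) (hSR : (S : Subgroup G) ⊓ normalizer (V₁ : Set G) ≤ R)
    (hRN : R ≤ normalizer (((S : Subgroup G) ⊓ centralizer ({M₁.e nn} : Set G) : Subgroup G) : Set G)) :
    R = (S : Subgroup G) ⊓ normalizer (V₁ : Set G) := by
  by_contra hne
  obtain ⟨x, hx, hi⟩ := w.exists_x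
  have hxS : x ∈ (S : Subgroup G) ⊓ normalizer (V₁ : Set G) := ⟨hx.1, hi.mem_normalizer⟩
  set T := (S : Subgroup G) ⊓ centralizer ({M₁.e nn} : Set G) with hT
  set S₁ := (S : Subgroup G) ⊓ normalizer (V₁ : Set G) with hS₁
  have hc : Nat.card R ≤ 2 * Nat.card S₁ := by
    have h1 := Half.card_le_sylow S hR2
    rwa [w.card_S₁] at h1
  obtain ⟨r₀, hr₀, hr₀S⟩ : ∃ r ∈ R, r ∉ S₁ := by
    by_contra hcon
    push Not at hcon
    exact hne (le_antisymm hcon hSR)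
  obtain ⟨hn, -⟩ := index_two hSR hc hr₀ hr₀S
  have hσ : zet M₁ M₂ (1, 1, 0) = M₁.e nn * (x * M₁.e nn * x⁻¹) := by
    rw [tt_n hi, ← zet_e0 (M₁ := M₁) (M₂ := M₂), ← zet_e1 (M₁ := M₁) (M₂ := M₂), ← w.zet_add]
    rfl
  have hS₁act : ∀ y ∈ S₁, Act M₁ M₂ y idt ∨ Act M₁ M₂ y xt := by
    intro y hy
    rcases w.mem_or₁ hx.1 hi hy with h1 | h1
    · exact Or.inl (w.act_T h1)
    · right
      obtain ⟨t, ht⟩ := w.exists_act (w.S₁_le_N hy)
      have h2 : comp t xt = idt := w.act_unique (ht.mul (w.act_x hx.2 hi)) (w.act_T h1)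
      have h3 : t = xt := by
        apply ThreeLin.ext_lin
        intro v
        have h4 : lin (comp t xt) (lin xt v) = lin idt (lin xt v) := by rw [h2]
        rw [ThreeLin.lin_comp, ThreeLin.lin_idt, ← ThreeLin.lin_comp xt] at h4
        have h5 : comp xt xt = idt := by decide
        rwa [h5, ThreeLin.lin_idt] at h4
      rwa [h3] at ht
  have hRC : R ≤ centralizer ({M₁.e ss} : Set G) := by
    intro r hr
    have hy := hn r hr x hxS
    obtain ⟨t, ht⟩ := w.exists_act (hRN hr)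
    have h1 : r * M₁.e ss * r⁻¹ = zet M₁ M₂ t.1 * ((r * x * r⁻¹) * zet M₁ M₂ t.1 * (r * x * r⁻¹)⁻¹) := by
      rw [← zet_s (M₁ := M₁) (M₂ := M₂), hσ, ← ht.e0]
      group
    have h2 : r * M₁.e ss * r⁻¹ ≠ 1 := by
      rw [Ne, mul_inv_eq_one, mul_eq_left]
      exact s_ne M₁
    have key : ∀ v : V3, v + lin xt v = 0 ∨ v + lin xt v = (1, 1, 0) := by decide +kernel
    rcases hS₁act _ hy with h3 | h3
    · exfalso
      rw [h3, ThreeLin.lin_idt, w.zet_sq] at h1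
      exact h2 h1
    · rw [h3, ← w.zet_add] at h1
      rcases key t.1 with h4 | h4
      · rw [h4, zet_zero] at h1
        exact absurd h1 h2
      · rw [h4, zet_s] at h1
        exact mem_C.2 (by rwa [mul_inv_eq_iff_eq_mul] at h1)
  exact hne (eq_of_le_of_card_ge hSR (card_le_of_syl w.nt hRC hR2)).symm

/-- **`S₁` is a Sylow 2-subgroup of `N_G(T)`** -/
theorem S₁_syl_N : Syl2 ((S : Subgroup G) ⊓ normalizer (V₁ : Set G))
    (normalizer (((S : Subgroup G) ⊓ centralizer ({M₁.e nn} : Set G) : Subgroup G) : Set G)) := by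
  obtain ⟨R, hSR, hRN, hR2, hRs⟩ := Half.exists_sylow_le (S.isPGroup'.to_le inf_le_left) w.S₁_le_N
  rw [← w.S₁_max hR2 hSR hRN]
  exact ⟨hRN, hR2, hRs⟩

/-- **Step 1.** `g ∈ N_G(T) ∖ T` with `T⟨g⟩` a 2-group. -/
theorem act_props {g : G}
    (hg : g ∈ normalizer (((S : Subgroup G) ⊓ centralizer ({M₁.e nn} : Set G) : Subgroup G) : Set G))
    (hg2 : IsPGroup 2 ((S : Subgroup G) ⊓ centralizer ({M₁.e nn} : Set G) ⊔ zpowers g : Subgroup G))
    (hgT : g ∉ (S : Subgroup G) ⊓ centralizer ({M₁.e nn} : Set G)) {t : M3} (ht : Act M₁ M₂ g t) :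
    comp t t = idt ∧ p3 (comp xt t) = idt ∧
      Nat.card ((S : Subgroup G) ⊓ centralizer ({M₁.e nn} : Set G) ⊔ zpowers g : Subgroup G) =
        2 * Nat.card ((S : Subgroup G) ⊓ centralizer ({M₁.e nn} : Set G) : Subgroup G) := by
  obtain ⟨x, hx, hi⟩ := w.exists_x
  have hxS : x ∈ (S : Subgroup G) ⊓ normalizer (V₁ : Set G) := ⟨hx.1, hi.mem_normalizer⟩
  have hxT : x ∉ (S : Subgroup G) ⊓ centralizer ({M₁.e nn} : Set G) := by
    intro h0
    have h2 := tt_n hi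
    rw [mem_C.1 h0.2, mul_inv_cancel_right] at h2
    exact n_ne_a M₁ h2
  have hN := w.S₁_syl_N
  have hcT := w.card_T₁
  set T := (S : Subgroup G) ⊓ centralizer ({M₁.e nn} : Set G) with hT
  set S₁ := (S : Subgroup G) ⊓ normalizer (V₁ : Set G) with hS₁
  set R := T ⊔ zpowers g with hR
  have hTR : T ≤ R := le_sup_left
  have hgR : g ∈ R := (le_sup_right : zpowers g ≤ R) (mem_zpowers g)
  have hRN : R ≤ normalizer (T : Set G) := sup_le le_normalizer (by rwa [zpowers_le])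
  have hc1 : Nat.card R ≤ 2 * Nat.card T := by
    rw [← hcT]
    exact card_le_of_syl hN hRN hg2
  obtain ⟨-, hR2⟩ := index_two hTR hc1 hgR hgT
  have hgg : g * g ∈ T := by
    by_contra hcon
    have h1 := hR2 _ (mul_mem hgR hgR) hcon
    rw [inv_mul_cancel_left] at h1
    exact hgT h1
  have htt : comp t t = idt := w.act_unique (ht.mul ht) (w.act_T hgg)
  have hc2 : Nat.card R = 2 * Nat.card T := by
    refine le_antisymm hc1 ?_
    have h1 : Nat.card T * T.relIndex R = Nat.card R := Half.card_mul_relIndex hTR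
    have h2 : T.relIndex R ≠ 1 := fun h => hgT ((relIndex_eq_one.1 h) hgR)
    have h3 : T.relIndex R ≠ 0 := fun h => by
      rw [h, mul_zero] at h1
      exact Nat.card_pos.ne h1
    rw [← h1, mul_comm]
    exact Nat.mul_le_mul_left _ (by omega)
  refine ⟨htt, ?_, hc2⟩
  have hRs : Syl2 R (normalizer (T : Set G)) := syl_of_card hN hRN hg2 (by rw [hc2, hcT])
  have hH : S₁ ⊔ R ≤ normalizer (T : Set G) := sup_le hN.le hRN
  obtain ⟨c, hc, hc1, -⟩ := (hN.mono le_sup_left hH).exists_conj (hRs.mono le_sup_right hH)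
  have hcx := hc1 x hxS
  have hcxT : c * x * c⁻¹ ∉ T := by
    intro h0
    exact hxT ((mem_normalizer_iff.1 (hH hc) x).2 h0)
  have hk := hR2 _ hcx hcxT
  -- the homomorphism
  have hNN : normalizer (T : Set G) ≤ normalizer (zc T : Set G) := normalizer_le_normalizer_zc _
  set φ := (zc T).normalizerMonoidHom with hφ
  have φ1 : ∀ (y : normalizer (zc T : Set G)), φ y = 1 ↔ (y : G) ∈ centralizer (zc T : Set G) := by
    intro y
    rw [← MonoidHom.mem_ker, hφ, normalizerMonoidHom_ker, mem_subgroupOf]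
  have φT : ∀ (y : normalizer (zc T : Set G)), (y : G) ∈ T → φ y = 1 := fun y hy =>
    (φ1 y).2 (le_centralizer_zc _ hy)
  set x' : normalizer (zc T : Set G) := ⟨x, hNN (hN.le hxS)⟩ with hx'
  set g' : normalizer (zc T : Set G) := ⟨g, hNN hg⟩ with hg'
  set K : Subgroup G := ((Subgroup.closure ({φ x', φ g'} : Set (MulAut (zc T)))).comap φ).map
    (normalizer (zc T : Set G)).subtype with hK
  have hTK : T ≤ K := by
    intro y hy
    refine ⟨⟨y, hNN (le_normalizer hy)⟩, ?_, rfl⟩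
    have h1 : φ ⟨y, hNN (le_normalizer hy)⟩ = 1 := φT _ hy
    show φ ⟨y, hNN (le_normalizer hy)⟩ ∈ Subgroup.closure ({φ x', φ g'} : Set (MulAut (zc T)))
    rw [h1]
    exact one_mem _
  have hxK : x ∈ K := ⟨x', subset_closure (Or.inl rfl), rfl⟩
  have hgK : g ∈ K := ⟨g', subset_closure (Or.inr rfl), rfl⟩
  have hS₁K : S₁ ≤ K := by
    intro y hy
    rcases w.mem_or₁ hx.1 hi hy with h1 | h1
    · exact hTK h1
    · have h2 := mul_mem (hTK h1) (inv_mem hxK)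
      rwa [mul_inv_cancel_right] at h2
  have hRK : R ≤ K := sup_le hTK (by rwa [zpowers_le])
  obtain ⟨c', hc', hcc⟩ := sup_le hS₁K hRK hc
  have hc' : φ c' ∈ Subgroup.closure ({φ x', φ g'} : Set (MulAut (zc T))) := hc'
  have hcc : (c' : G) = c := hcc
  have hX : φ x' * φ x' = 1 := by
    rw [← map_mul]
    exact φT _ (mem_T_of_ind (mul_mem hx.1 hx.1) (Or.inl rfl) (by
      have := hi.mul hi
      rwa [tt_tt] at this))
  have hW : φ g' * φ g' = 1 := by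
    rw [← map_mul]
    exact φT _ hgg
  have hXW : φ c' * φ x' * (φ c')⁻¹ = φ g' := by
    have h1 : φ (g'⁻¹ * (c' * x' * c'⁻¹)) = 1 := φT _ (by
      rw [← hcc] at hk
      exact hk)
    rw [map_mul, map_inv, map_mul, map_mul, map_inv, inv_mul_eq_one] at h1
    exact h1.symm
  have h12 : (φ x' * φ g') ^ 12 = 1 := by
    rw [← map_mul, ← map_pow, φ1]
    have a1 := (w.act_x hx.2 hi).mul ht
    have a3 : Act M₁ M₂ ((x * g) * ((x * g) * (x * g))) (p3 (comp xt t)) := a1.mul (a1.mul a1)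
    have a12 := (a3.mul a3).mul (a3.mul a3)
    have e12 : comp (comp (p3 (comp xt t)) (p3 (comp xt t))) (comp (p3 (comp xt t)) (p3 (comp xt t))) = idt :=
      ThreeLin.p12_eq t htt
    rw [e12] at a12
    have e : (((x' * g') ^ 12 : normalizer (zc T : Set G)) : G) =
        x * g * (x * g * (x * g)) * (x * g * (x * g * (x * g))) *
        (x * g * (x * g * (x * g)) * (x * g * (x * g * (x * g)))) := by
      rw [Subgroup.coe_pow, Subgroup.coe_mul]
      exact pow_twelve (x * g)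
    rw [e]
    refine mem_centralizer_iff.2 fun y hy => ?_
    obtain ⟨v, rfl⟩ := w.exists_zet hy
    have h3 := a12 v
    rw [ThreeLin.lin_idt, mul_inv_eq_iff_eq_mul] at h3
    exact h3.symm
  have h3 := ThreeLin.cube_of_odd h12 (ThreeLin.exists_odd hX hW hc' hXW)
  rw [← map_mul, ← map_pow, φ1] at h3
  have a1 := (w.act_x hx.2 hi).mul ht
  have a3 : Act M₁ M₂ ((x * g) * ((x * g) * (x * g))) (p3 (comp xt t)) := a1.mul (a1.mul a1)
  refine w.act_unique a3 fun v => ?_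
  have h4 := mem_centralizer_iff.1 h3 _ (w.zet_mem v)
  have e : (((x' * g') ^ 3 : normalizer (zc T : Set G)) : G) = x * g * (x * g * (x * g)) := by
    rw [Subgroup.coe_pow, Subgroup.coe_mul]
    exact pow_three_eq (x * g)
  rw [e] at h4
  rw [ThreeLin.lin_idt, ← h4, mul_inv_cancel_right]

end fin

end Wr

end Cfsg.Agent.Omega.IId.LFour

end

section


/-!
# `C_S(n)` is a Sylow 2-subgroup of `C_G(n)` (helper774; text helper644 #19215 (A))

`w : Wr S P M₁ M₂`, `n = M₁.e nn`, `a = M₁.e aa`, `σ = M₁.e ss = n a`, `τ = M₂.e ss`, `T = C_S(n)`.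

* `Wr.T_syl_n` : `T` is a Sylow 2-subgroup of `C_G(n)`;
* `Wr.swap_of_two` : `g ∈ N_G(T) ∖ T`, `T⟨g⟩` a 2-group: `g` interchanges `n` and `a`.
-/

set_option autoImplicit false
set_option linter.unusedSectionVars false

namespace Cfsg.Agent.Omega.IId.LFour

open Subgroup Pointwise Cfsg Cfsg.Agent.Omega.MinPar Cfsg.Agent.Omega.FFThm
open Cfsg.Agent.ZN (o2 zc jj zj zl zc_map)
open Cfsg.Agent.ZN.ChoiceBase (cj mem_cj)
open Cfsg.Agent.Omega.S5.Mod Cfsg.Agent.Omega.S5.TT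
open Cfsg.Agent.Omega.S5.TT.Pos (na ns as sn n_ne s_ne a_ne n_ne_a n_ne_s a_ne_s e_sq' mem_C)
open Cfsg.Agent.MinSimple.VModule (mem_zc zc_le zc_comm zc_sq zc_le_zl le_normalizer_o2 o2_isPGroup o2_le
  normalizer_le_normalizer_zc le_normalizer_zl zl_le le_o2 le_centralizer_zc o2_le_of_sylow)
open Cfsg.Agent.Omega.TwoFFour (Syl2)
open Cfsg.Agent.Omega.FrameNOFF (CZ)
open ThreeLin (V3 M3 lin comp e0 e1 e2 idt xt p3 p12)

universe u

variable {G : Type u} [Group G]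

/-- the six duads of `{0, 1, 2, 3}` -/
def duads : List Vec := [![1, 1, 0, 0, 0], ![1, 0, 1, 0, 0], ![1, 0, 0, 1, 0], ![0, 1, 1, 0, 0],
  ![0, 1, 0, 1, 0], ![0, 0, 1, 1, 0]]

/-- `σ` and the duads -/
def th7 : List Vec := ss :: duads

/-- `{0, 1}`, `{0, 4}`, `{1, 4}` -/
def th3 : List Vec := [nn, ![1, 0, 0, 0, 1], ![0, 1, 0, 0, 1]]

theorem th7_inj : ∀ x ∈ th7, ∀ y ∈ th7, (x = y ∨ x = y + 1) → x = y := by decide +kernel

theorem th7_nodup : th7.Nodup := by decide +kernel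

theorem th7_sum : th7.sum = 1 := by decide +kernel

theorem th7_perm : ∀ p : Equiv.Perm (Fin 5), p * dd = dd * p → ∀ y ∈ th7, y ∘ p.symm ∈ th7 := by
  decide +kernel

theorem duads_perm : ∀ d ∈ duads, ∃ p : Equiv.Perm (Fin 5), nn ∘ p.symm = d ∧ ss ∘ p.symm = ss := by
  decide +kernel

theorem th3_inj : ∀ x ∈ th3, ∀ y ∈ th3, (x = y ∨ x = y + 1) → x = y := by decide +kernel

theorem th3_nodup : th3.Nodup := by decide +kernel

theorem th3_sum : th3.sum = 0 := by decide +kernel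

theorem th3_perm : ∀ p : Equiv.Perm (Fin 5), TTp p → ∀ y ∈ th3, y ∘ p.symm ∈ th3 := by
  intro p hp
  rcases hp with rfl | rfl | rfl | rfl <;> decide +kernel

theorem th3_ex : ∀ d ∈ th3, ∃ p : Equiv.Perm (Fin 5), nn ∘ p.symm = d ∧ aa ∘ p.symm = aa := by
  decide +kernel

theorem prod_map_e {V L : Subgroup G} (M : FiveMod V L) (l : List Vec) : (l.map M.e).prod = M.e l.sum := by
  induction l with
  | nil => rw [List.map_nil, List.prod_nil, List.sum_nil, M.e_zero]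
  | cons a l ih => rw [List.map_cons, List.prod_cons, List.sum_cons, M.e_add, ih]

theorem prod_map_conj (g : G) (l : List G) : (l.map fun v => g * v * g⁻¹).prod = g * l.prod * g⁻¹ := by
  induction l with
  | nil => simp
  | cons a l ih => rw [List.map_cons, List.prod_cons, List.prod_cons, ih]; group

namespace Wr

variable {S : Sylow 2 G} {P V₁ V₂ L₁ L₂ : Subgroup G} {M₁ : FiveMod V₁ L₁} {M₂ : FiveMod V₂ L₂}

section fin

variable [Finite G] (w : Wr S P M₁ M₂)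
include w

omit w in
theorem S_le_CZ : (S : Subgroup G) ≤ CZ (S : Subgroup G) := le_centralizer_zc _

/-- `|C_G(z) : S₁|₂ = 2` -/
theorem S₁_idx : ¬ 4 ∣ ((S : Subgroup G) ⊓ normalizer (V₁ : Set G)).relIndex (CZ (S : Subgroup G)) := by
  set S₁ := (S : Subgroup G) ⊓ normalizer (V₁ : Set G) with hS₁
  have hSF : (S : Subgroup G) ≤ CZ (S : Subgroup G) := le_centralizer_zc _
  have h1 := Subgroup.relIndex_mul_relIndex S₁ (S : Subgroup G) (CZ (S : Subgroup G)) inf_le_left hSF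
  have h2 : S₁.relIndex (S : Subgroup G) = 2 := by
    have h3 := Half.card_mul_relIndex (inf_le_left : S₁ ≤ (S : Subgroup G))
    rw [w.card_S₁, mul_comm 2] at h3
    exact Nat.eq_of_mul_eq_mul_left Nat.card_pos h3
  have h3 : ¬ 2 ∣ (S : Subgroup G).relIndex (CZ (S : Subgroup G)) :=
    Cfsg.Agent.MinSimple.Basic.not_dvd_relIndex S hSF
  rw [← h1, h2]
  intro h4
  apply h3
  obtain ⟨k, hk⟩ := h4
  exact ⟨k, by omega⟩

/-- `|C_G(σ) : T|₂ = 2` -/
theorem T_idx : ¬ 4 ∣ ((S : Subgroup G) ⊓ centralizer ({M₁.e nn} : Set G)).relIndex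
    (centralizer ({M₁.e ss} : Set G)) := by
  have nt := w.nt
  have hTS := w.T_le
  have hcT := w.card_T₁
  set S₁ := (S : Subgroup G) ⊓ normalizer (V₁ : Set G) with hS₁
  set T := (S : Subgroup G) ⊓ centralizer ({M₁.e nn} : Set G) with hT
  have h1 := Subgroup.relIndex_mul_relIndex T S₁ (centralizer ({M₁.e ss} : Set G)) hTS nt.le
  have h2 : T.relIndex S₁ = 2 := by
    have h3 := Half.card_mul_relIndex hTS
    rw [hcT, mul_comm 2] at h3
    exact Nat.eq_of_mul_eq_mul_left Nat.card_pos h3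
  rw [← h1, h2]
  intro h4
  apply nt.odd
  obtain ⟨k, hk⟩ := h4
  exact ⟨k, by omega⟩

/-- `n` and `σ` are not conjugate in `C_G(z)`, `z = στ`. -/
theorem not_conj_n {f : G} (hf : f ∈ CZ (S : Subgroup G)) (hfn : f * M₁.e ss * f⁻¹ = M₁.e nn) : False := by
  obtain ⟨s, hs, p, q, hsw⟩ := w.swap
  have hs1 := w.sw_ss w.S_le hs hsw
  have hs2 := w.symm.sw_ss w.S_le hs (p := q) (q := p) ⟨hsw.2, hsw.1⟩
  have hz := w.s_comm
  have hSF : (S : Subgroup G) ≤ CZ (S : Subgroup G) := le_centralizer_zc _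
  set F := CZ (S : Subgroup G) with hF
  have hO : o2 F ≤ (S : Subgroup G) :=
    o2_le_of_sylow S.isPGroup' (Cfsg.Agent.MinSimple.Basic.not_dvd_relIndex S hSF)
  have hSne : (S : Subgroup G) ≠ ⊥ := fun h => s_ne M₁ (by
    have h1 := w.V₁_le_S (M₁.e_mem ss)
    rw [h, mem_bot] at h1
    exact h1)
  have hloc : IsLoc (S : Subgroup G) F := isLoc_centralizer_zc S hSne
  have hσz : M₁.e ss * (M₁.e ss * M₂.e ss) = M₂.e ss := by rw [← mul_assoc, M₁.e_sq, one_mul]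
  -- the action of `O₂(F)` on `σ`
  have hyσ : ∀ y ∈ o2 F, y * M₁.e ss * y⁻¹ = M₁.e ss ∨ y * M₁.e ss * y⁻¹ = M₂.e ss := by
    intro y hy
    rcases w.mem_or hs hsw (hO hy) with h1 | h1
    · left
      rw [w.S₁_comm_s₁ h1, mul_inv_cancel_right]
    · right
      have h2 := w.S₁_comm_s₂ h1
      calc y * M₁.e ss * y⁻¹ = y * (s * M₂.e ss * s⁻¹) * y⁻¹ := by rw [hs2]
        _ = (y * s * M₂.e ss) * (y * s)⁻¹ := by group
        _ = M₂.e ss := by rw [h2, mul_inv_cancel_right]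
  have hyn : ∀ y ∈ o2 F, y * M₁.e nn = M₁.e nn * y := by
    intro y hy
    have h1 : f⁻¹ * y * f ∈ o2 F := by
      have := (mem_normalizer_iff.1 (le_normalizer_o2 F (inv_mem hf)) y).1 hy
      rwa [inv_inv] at this
    rcases hyσ _ h1 with h2 | h2
    · rw [← mul_inv_eq_iff_eq_mul, ← hfn]
      calc y * (f * M₁.e ss * f⁻¹) * y⁻¹ = f * (f⁻¹ * y * f * M₁.e ss * (f⁻¹ * y * f)⁻¹) * f⁻¹ := by group
        _ = f * M₁.e ss * f⁻¹ := by rw [h2]
    · exfalso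
      have h3 : y * M₁.e nn * y⁻¹ = M₁.e nn * (M₁.e ss * M₂.e ss) := by
        have h4 := w.mem_CZ.1 hf
        calc y * M₁.e nn * y⁻¹ = f * (f⁻¹ * y * f * M₁.e ss * (f⁻¹ * y * f)⁻¹) * f⁻¹ := by rw [← hfn]; group
          _ = f * (M₁.e ss * (M₁.e ss * M₂.e ss)) * f⁻¹ := by rw [h2, hσz]
          _ = (f * M₁.e ss * f⁻¹) * (f * (M₁.e ss * M₂.e ss) * f⁻¹) := by group
          _ = M₁.e nn * (M₁.e ss * M₂.e ss) := by rw [hfn, h4, mul_inv_cancel_right]
      rcases w.mov y (w.S_le (hO hy)) with ⟨p', q', h4, -⟩ | ⟨p', q', h4⟩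
      · rw [h4] at h3
        refine s_ne M₂ (w.V₁_ne_V₂ ?_ (M₂.e_mem ss))
        have h5 : M₂.e ss = (M₁.e nn * M₁.e ss)⁻¹ * M₁.e (nn ∘ p'.symm) := by rw [h3]; group
        rw [h5]
        exact mul_mem (inv_mem (mul_mem (M₁.e_mem _) (M₁.e_mem _))) (M₁.e_mem _)
      · rw [h4.1] at h3
        have h5 : M₁.e nn * M₁.e ss = M₂.e (nn ∘ p'.symm) * (M₂.e ss)⁻¹ := by rw [h3]; group
        have h6 : M₁.e nn * M₁.e ss = 1 := w.V₁_ne_V₂ (mul_mem (M₁.e_mem _) (M₁.e_mem _)) (by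
          rw [h5]
          exact mul_mem (M₂.e_mem _) (inv_mem (M₂.e_mem _)))
        have h7 := eq_inv_of_mul_eq_one_left h6
        rw [M₁.e_inv] at h7
        exact n_ne_s M₁ h7
  have hσO : M₁.e ss ∈ zc (o2 F) := by
    have h1 : ∀ y ∈ o2 F, y * M₁.e ss = M₁.e ss * y := by
      intro y hy
      have h2 : f * y * f⁻¹ ∈ o2 F := (mem_normalizer_iff.1 (le_normalizer_o2 F hf) y).1 hy
      have h3 := hyn _ h2
      rw [← hfn] at h3
      have h4 : f * (y * M₁.e ss) * f⁻¹ = f * (M₁.e ss * y) * f⁻¹ := by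
        calc f * (y * M₁.e ss) * f⁻¹ = f * y * f⁻¹ * (f * M₁.e ss * f⁻¹) := by group
          _ = f * M₁.e ss * f⁻¹ * (f * y * f⁻¹) := h3
          _ = f * (M₁.e ss * y) * f⁻¹ := by group
      exact mul_left_cancel (mul_right_cancel h4)
    refine mem_zc.2 ⟨centralizer_o2_le w.hG S hloc (mem_centralizer_iff.2 fun y hy => h1 y hy), h1,
      e_sq' M₁ ss⟩
  have hFU : F ≤ normalizer (zc (o2 F) : Set G) :=
    (le_normalizer_o2 _).trans (normalizer_le_normalizer_zc _)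
  refine Parity.false_of_list (F := F) (U := zc (o2 F)) (T := (S : Subgroup G) ⊓ normalizer (V₁ : Set G))
    (v := M₁.e ss) (z := M₁.e ss * M₂.e ss) (s := s) (L := th7.map M₁.e)
    (fun a ha b hb => zc_comm _ a ha b hb) ?_ (fun f hf u hu => (mem_normalizer_iff.1 (hFU hf) u).1 hu)
    hσO w.z_ne (fun f hf => w.mem_CZ.1 hf) w.S₁_idx (hSF hs) ?_ ?_ ?_ ?_ ?_ ?_
  · intro a ha
    rw [← pow_two]
    exact (mem_zc.1 ha).2.2
  · rw [hs1, hσz]
  · exact List.Nodup.map_on (fun x hx y hy h => th7_inj x hx y hy (M₁.e_eq_iff.1 h)) th7_nodup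
  · rw [List.length_map]; decide
  · rw [prod_map_e, th7_sum, M₁.e_one]
  · intro x hx
    obtain ⟨d, hd, rfl⟩ := List.mem_map.1 hx
    rcases List.mem_cons.1 hd with rfl | hd
    · exact ⟨1, one_mem _, by group⟩
    · obtain ⟨p', h1, h2⟩ := duads_perm d hd
      obtain ⟨l, hl, hi⟩ := M₁.exists_lift p'
      have hi : M₁.Ind l p' := hi
      have hl1 : l * M₁.e ss = M₁.e ss * l := (hi.commute_iff _).2 (Or.inl h2)
      have hl2 := w.L₁_comm hl (M₂.e_mem ss)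
      refine ⟨l * f, mul_mem (w.mem_CZ.2 ?_) hf, ?_⟩
      · rw [← mul_assoc, hl1, mul_assoc, hl2, ← mul_assoc]
      · calc l * f * M₁.e ss * (l * f)⁻¹ = l * (f * M₁.e ss * f⁻¹) * l⁻¹ := by group
          _ = M₁.e d := by rw [hfn, hi, h1]
  · intro t ht x hx
    obtain ⟨d, hd, rfl⟩ := List.mem_map.1 hx
    obtain ⟨p', q', hp', -⟩ := w.S₁_ind ht
    rw [hp']
    exact List.mem_map_of_mem (th7_perm p' (w.dS w.S_le ht.1 hp') d hd)

/-- the group generated by the `C_G(σ)`-conjugates of `V₁` -/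
def Ds (_ : Wr S P M₁ M₂) : Subgroup G :=
  closure {y | ∃ c ∈ centralizer ({M₁.e ss} : Set G), ∃ v ∈ V₁, y = c * v * c⁻¹}

theorem V₁_le_Ds : V₁ ≤ w.Ds := fun v hv => subset_closure ⟨1, one_mem _, v, hv, by group⟩

theorem Ds_comm : ∀ a ∈ w.Ds, ∀ b ∈ w.Ds, a * b = b * a := by
  have h1 : w.Ds ≤ centralizer {y | ∃ c ∈ centralizer ({M₁.e ss} : Set G), ∃ v ∈ V₁, y = c * v * c⁻¹} := by
    rw [Ds, closure_le]
    rintro _ ⟨c, hc, v, hv, rfl⟩
    refine mem_centralizer_iff.2 ?_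
    rintro _ ⟨c', hc', v', hv', rfl⟩
    have h2 := w.comm_Ds w.nt (mul_mem (inv_mem hc) hc') hv hv'
    calc c' * v' * c'⁻¹ * (c * v * c⁻¹) = c * (c⁻¹ * c' * v' * (c⁻¹ * c')⁻¹ * v) * c⁻¹ := by group
      _ = c * (v * (c⁻¹ * c' * v' * (c⁻¹ * c')⁻¹)) * c⁻¹ := by rw [h2]
      _ = c * v * c⁻¹ * (c' * v' * c'⁻¹) := by group
  have h2 : w.Ds ≤ centralizer (w.Ds : Set G) := by
    conv_rhs => rw [Ds, centralizer_closure]
    exact h1
  intro a ha b hb
  exact (mem_centralizer_iff.1 (h2 hb) a ha)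

theorem Ds_sq : ∀ a ∈ w.Ds, a * a = 1 := by
  intro a ha
  have hcomm := w.Ds_comm
  unfold Ds at ha hcomm
  induction ha using Subgroup.closure_induction with
  | mem x hx =>
    obtain ⟨c, -, v, hv, rfl⟩ := hx
    obtain ⟨y, rfl⟩ := (M₁.mem_iff v).1 hv
    calc c * M₁.e y * c⁻¹ * (c * M₁.e y * c⁻¹) = c * (M₁.e y * M₁.e y) * c⁻¹ := by group
      _ = 1 := by rw [M₁.e_sq]; group
  | one => rw [one_mul]
  | mul x y hx hy h1 h2 =>
    have h3 := hcomm x hx y hy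
    calc x * y * (x * y) = x * (y * x) * y := by group
      _ = (x * x) * (y * y) := by rw [← h3]; group
      _ = 1 := by rw [h1, h2, one_mul]
  | inv x _ h1 => rw [← mul_inv_rev, h1, inv_one]

theorem Ds_norm {f u : G} (hf : f ∈ centralizer ({M₁.e ss} : Set G)) (hu : u ∈ w.Ds) :
    f * u * f⁻¹ ∈ w.Ds := by
  have h1 : w.Ds ≤ (w.Ds).comap (MulAut.conj f).toMonoidHom := by
    conv_lhs => rw [Ds]
    rw [closure_le]
    rintro _ ⟨c, hc, v, hv, rfl⟩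
    refine subset_closure ⟨f * c, mul_mem hf hc, v, hv, ?_⟩
    show f * (c * v * c⁻¹) * f⁻¹ = _
    group
  exact h1 hu

/-- the second parity contradiction -/
theorem no_g₀ {g : G}
    (hg : g ∈ normalizer (((S : Subgroup G) ⊓ centralizer ({M₁.e nn} : Set G) : Subgroup G) : Set G))
    (h0 : g * M₁.e nn * g⁻¹ = M₁.e aa)
    (h1 : g * M₁.e aa * g⁻¹ = M₁.e ss ∨ g * M₁.e aa * g⁻¹ = M₁.e ss * M₂.e ss)
    (h2 : g * M₂.e ss * g⁻¹ = M₂.e ss) : False := by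
  obtain ⟨x, hx, hxi⟩ := w.exists_x
  have hxC : x ∈ centralizer ({M₁.e ss} : Set G) := mem_C.2 ((hxi.commute_iff _).2 (by decide))
  have hV := w.V₁_le_Ds
  have hkey : ∀ l, l * M₁.e aa = M₁.e aa * l → l * M₂.e ss = M₂.e ss * l →
      g * l * g⁻¹ ∈ centralizer ({M₁.e ss} : Set G) := by
    intro l hl1 hl2
    rw [mem_C]
    rcases h1 with h1 | h1
    · rw [← h1]
      calc g * l * g⁻¹ * (g * M₁.e aa * g⁻¹) = g * (l * M₁.e aa) * g⁻¹ := by group
        _ = g * (M₁.e aa * l) * g⁻¹ := by rw [hl1]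
        _ = g * M₁.e aa * g⁻¹ * (g * l * g⁻¹) := by group
    · have h3 : M₁.e ss = g * (M₁.e aa * M₂.e ss) * g⁻¹ := by
        calc M₁.e ss = M₁.e ss * (M₂.e ss * M₂.e ss) := by rw [M₂.e_sq, mul_one]
          _ = (g * M₁.e aa * g⁻¹) * (g * M₂.e ss * g⁻¹) := by rw [h1, h2, mul_assoc]
          _ = g * (M₁.e aa * M₂.e ss) * g⁻¹ := by group
      rw [h3]
      calc g * l * g⁻¹ * (g * (M₁.e aa * M₂.e ss) * g⁻¹) = g * (l * M₁.e aa) * M₂.e ss * g⁻¹ := by group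
        _ = g * M₁.e aa * (l * M₂.e ss) * g⁻¹ := by rw [hl1]; group
        _ = g * (M₁.e aa * M₂.e ss) * g⁻¹ * (g * l * g⁻¹) := by rw [hl2]; group
  refine Parity.false_of_list (F := centralizer ({M₁.e ss} : Set G)) (U := w.Ds)
    (T := (S : Subgroup G) ⊓ centralizer ({M₁.e nn} : Set G))
    (v := M₁.e nn) (z := M₁.e ss) (s := x) (L := (th3.map M₁.e).map fun v => g * v * g⁻¹)
    w.Ds_comm w.Ds_sq (fun f hf u hu => w.Ds_norm hf hu) (hV (M₁.e_mem nn)) (s_ne M₁)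
    (fun f hf => mem_C.1 hf) w.T_idx hxC ?_ ?_ ?_ ?_ ?_ ?_
  · rw [tt_n hxi, ← M₁.e_add, M₁.e_eq_iff]; decide
  · refine List.Nodup.map (fun a b h => mul_left_cancel (mul_right_cancel h)) ?_
    exact List.Nodup.map_on (fun x hx y hy h => th3_inj x hx y hy (M₁.e_eq_iff.1 h)) th3_nodup
  · rw [List.length_map, List.length_map]; decide
  · rw [prod_map_conj, prod_map_e, th3_sum, M₁.e_zero]; group
  · intro y hy
    obtain ⟨v, hv, rfl⟩ := List.mem_map.1 hy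
    obtain ⟨d, hd, rfl⟩ := List.mem_map.1 hv
    obtain ⟨p', h3, h4⟩ := th3_ex d hd
    obtain ⟨l, hl, hi⟩ := M₁.exists_lift p'
    have hi : M₁.Ind l p' := hi
    refine ⟨g * l * g⁻¹ * x, mul_mem (hkey l ((hi.commute_iff _).2 (Or.inl h4))
      (w.L₁_comm hl (M₂.e_mem ss))) hxC, ?_⟩
    calc g * l * g⁻¹ * x * M₁.e nn * (g * l * g⁻¹ * x)⁻¹ =
        g * (l * (g⁻¹ * (x * M₁.e nn * x⁻¹) * g) * l⁻¹) * g⁻¹ := by group
      _ = g * (l * M₁.e nn * l⁻¹) * g⁻¹ := by rw [tt_n hxi, ← h0]; group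
      _ = g * M₁.e d * g⁻¹ := by rw [hi, h3]
  · intro t ht y hy
    obtain ⟨v, hv, rfl⟩ := List.mem_map.1 hy
    obtain ⟨d, hd, rfl⟩ := List.mem_map.1 hv
    have h3 : g⁻¹ * t * g ∈ (S : Subgroup G) ⊓ centralizer ({M₁.e nn} : Set G) := by
      have := (mem_normalizer_iff.1 (inv_mem hg) t).1 ht
      rwa [inv_inv] at this
    obtain ⟨p', q', hp', hi, -⟩ := w.T_ind h3
    have h4 : t * (g * M₁.e d * g⁻¹) * t⁻¹ = g * M₁.e (d ∘ p'.symm) * g⁻¹ := by
      rw [← hi]; group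
    show t * (g * M₁.e d * g⁻¹) * t⁻¹ ∈ _
    rw [h4]
    exact List.mem_map_of_mem (List.mem_map_of_mem (th3_perm p' hp' d hd))

/-- no element of `N_G(T) ∖ T` generating a 2-group with `T` centralises `n` -/
theorem not_fix {g : G}
    (hg : g ∈ normalizer (((S : Subgroup G) ⊓ centralizer ({M₁.e nn} : Set G) : Subgroup G) : Set G))
    (hg2 : IsPGroup 2 ((S : Subgroup G) ⊓ centralizer ({M₁.e nn} : Set G) ⊔ zpowers g : Subgroup G))
    (hgT : g ∉ (S : Subgroup G) ⊓ centralizer ({M₁.e nn} : Set G))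
    (hgn : g * M₁.e nn * g⁻¹ = M₁.e nn) : False := by
  obtain ⟨x, hx, hxi⟩ := w.exists_x
  obtain ⟨s, hs, p, q, hsw⟩ := w.swap
  have hs2 := w.symm.sw_ss w.S_le hs (p := q) (q := p) ⟨hsw.2, hsw.1⟩
  have hxN : x ∈ normalizer (((S : Subgroup G) ⊓ centralizer ({M₁.e nn} : Set G) : Subgroup G) : Set G) :=
    w.S₁_le_N ⟨hx.1, hxi.mem_normalizer⟩
  obtain ⟨t, ht⟩ := w.exists_act hg
  obtain ⟨h1, h2, -⟩ := w.act_props hg hg2 hgT ht
  have h3 : t.1 = e0 := w.zet_inj (by rw [← ht.e0, hgn, zet_e0])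
  have hxs : x * M₁.e ss * x⁻¹ = M₁.e ss := by
    rw [(hxi.commute_iff _).2 (by decide), mul_inv_cancel_right]
  have hxt : x * M₂.e ss * x⁻¹ = M₂.e ss := by
    rw [w.L₁_comm hx.2 (M₂.e_mem ss), mul_inv_cancel_right]
  have hxz : x * (M₁.e ss * M₂.e ss) * x⁻¹ = M₁.e ss * M₂.e ss := by
    calc x * (M₁.e ss * M₂.e ss) * x⁻¹ = (x * M₁.e ss * x⁻¹) * (x * M₂.e ss * x⁻¹) := by group
      _ = _ := by rw [hxs, hxt]
  have hgz : (lin t (1, 1, 1) = (1, 1, 1)) → g ∈ CZ (S : Subgroup G) := by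
    intro h
    rw [w.mem_CZ]
    have h4 := ht (1, 1, 1)
    rw [h, zet_z, mul_inv_eq_iff_eq_mul] at h4
    exact h4
  have hxF : x ∈ CZ (S : Subgroup G) := le_centralizer_zc _ hx.1
  rcases ThreeLin.four t h1 h2 h3 with ⟨h4, h5⟩ | ⟨h4, h5⟩ | ⟨h4, h5⟩ | ⟨h4, h5⟩
  · have ht' : t = ((1, 0, 0), (1, 1, 0), (1, 0, 1)) := Prod.ext h3 (Prod.ext h4 h5)
    have h6 := ht.e1
    rw [h4, zet_s] at h6
    refine w.not_conj_n (f := (g * x)⁻¹) (inv_mem (mul_mem (hgz (by rw [ht']; decide)) hxF)) ?_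
    rw [← h6, ← tt_n hxi]; group
  · have ht' : t = ((1, 0, 0), (0, 0, 1), (0, 1, 0)) := Prod.ext h3 (Prod.ext h4 h5)
    have h6 := ht.e1
    have h7 : (0, 0, 1) = e2 := rfl
    rw [h4, h7, zet_e2] at h6
    refine w.not_conj_n (f := (s * g * x)⁻¹) (inv_mem (mul_mem (mul_mem (le_centralizer_zc _ hs)
      (hgz (by rw [ht']; decide))) hxF)) ?_
    rw [← hs2, ← h6, ← tt_n hxi]; group
  · have h6 := ht.e1
    have h7 := ht.e2
    have h8 : (0, 0, 1) = e2 := rfl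
    rw [h4, zet_s] at h6
    rw [h5, h8, zet_e2] at h7
    refine w.no_g₀ (g := x * g) (mul_mem hxN hg) ?_ (Or.inl ?_) ?_
    · rw [← tt_n hxi]; nth_rewrite 2 [← hgn]; group
    · calc x * g * M₁.e aa * (x * g)⁻¹ = x * (g * M₁.e aa * g⁻¹) * x⁻¹ := by group
        _ = M₁.e ss := by rw [h6, hxs]
    · calc x * g * M₂.e ss * (x * g)⁻¹ = x * (g * M₂.e ss * g⁻¹) * x⁻¹ := by group
        _ = M₂.e ss := by rw [h7, hxt]
  · have h6 := ht.e1
    have h7 := ht.e2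
    have h8 : (0, 0, 1) = e2 := rfl
    rw [h4, zet_z] at h6
    rw [h5, h8, zet_e2] at h7
    refine w.no_g₀ (g := x * g) (mul_mem hxN hg) ?_ (Or.inr ?_) ?_
    · rw [← tt_n hxi]; nth_rewrite 2 [← hgn]; group
    · calc x * g * M₁.e aa * (x * g)⁻¹ = x * (g * M₁.e aa * g⁻¹) * x⁻¹ := by group
        _ = M₁.e ss * M₂.e ss := by rw [h6, hxz]
    · calc x * g * M₂.e ss * (x * g)⁻¹ = x * (g * M₂.e ss * g⁻¹) * x⁻¹ := by group
        _ = M₂.e ss := by rw [h7, hxt]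

/-- **THEOREM (A): `T = C_S(n)` is a Sylow 2-subgroup of `C_G(n)`.** -/
theorem T_syl_n : Syl2 ((S : Subgroup G) ⊓ centralizer ({M₁.e nn} : Set G))
    (centralizer ({M₁.e nn} : Set G)) := by
  obtain ⟨R, hTR, hRC, hR2, hRs⟩ := Half.exists_sylow_le (S.isPGroup'.to_le inf_le_left)
    (inf_le_right : (S : Subgroup G) ⊓ centralizer ({M₁.e nn} : Set G) ≤ centralizer ({M₁.e nn} : Set G))
  by_cases hne : R ≤ (S : Subgroup G) ⊓ centralizer ({M₁.e nn} : Set G)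
  · rw [← le_antisymm hne hTR]
    exact ⟨hRC, hR2, hRs⟩
  · exfalso
    obtain ⟨g, hgR, hgT, hgN⟩ := exists_mem_normalizer hR2 hTR hne
    refine w.not_fix hgN (hR2.to_le (sup_le hTR (by rwa [zpowers_le]))) hgT ?_
    rw [mem_C.1 (hRC hgR), mul_inv_cancel_right]

theorem not_two_dvd : ¬ 2 ∣ ((S : Subgroup G) ⊓ centralizer ({M₁.e nn} : Set G)).relIndex
    (centralizer ({M₁.e nn} : Set G)) := w.T_syl_n.odd

/-- **COR.** `g ∈ N_G(T) ∖ T` with `T⟨g⟩` a 2-group acts on `Ω₁(Z(T))` as `n ↔ a`, `τ ↦ τ`. -/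
theorem act_xt {g : G}
    (hg : g ∈ normalizer (((S : Subgroup G) ⊓ centralizer ({M₁.e nn} : Set G) : Subgroup G) : Set G))
    (hg2 : IsPGroup 2 ((S : Subgroup G) ⊓ centralizer ({M₁.e nn} : Set G) ⊔ zpowers g : Subgroup G))
    (hgT : g ∉ (S : Subgroup G) ⊓ centralizer ({M₁.e nn} : Set G)) : Act M₁ M₂ g xt := by
  obtain ⟨t, ht⟩ := w.exists_act hg
  obtain ⟨h1, h2, hc⟩ := w.act_props hg hg2 hgT ht
  rcases ThreeLin.three t h1 h2 with h3 | h3 | h3
  · rwa [h3] at ht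
  · exfalso
    exact w.not_fix hg hg2 hgT (by rw [ht.e0, h3, zet_e0])
  · exfalso
    obtain ⟨x, hx, hxi⟩ := w.exists_x
    have hxS : x ∈ (S : Subgroup G) ⊓ normalizer (V₁ : Set G) := ⟨hx.1, hxi.mem_normalizer⟩
    have hcT := w.card_T₁
    have hTs := w.T_syl_n
    have hor := fun {y : G} => w.mem_or₁ (y := y) hx.1 hxi
    have hfix : (g * (x * g)) * M₁.e nn * (g * (x * g))⁻¹ = M₁.e nn := by
      rw [(ht.mul ((w.act_x hx.2 hxi).mul ht)).e0, h3, zet_e0]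
    set T := (S : Subgroup G) ⊓ centralizer ({M₁.e nn} : Set G) with hT
    set S₁ := (S : Subgroup G) ⊓ normalizer (V₁ : Set G) with hS₁
    have hS₁2 : IsPGroup 2 S₁ := S.isPGroup'.to_le inf_le_left
    have hgg : g * g ∈ T := by
      have hTR : T ≤ T ⊔ zpowers g := le_sup_left
      have hgR : g ∈ T ⊔ zpowers g := (le_sup_right : zpowers g ≤ _) (mem_zpowers g)
      by_contra hcon
      have h4 := (index_two hTR hc.le hgR hgT).2 _ (mul_mem hgR hgR) hcon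
      rw [inv_mul_cancel_left] at h4
      exact hgT h4
    have hy : g * x * g⁻¹ ∈ centralizer ({M₁.e nn} : Set G) := by
      have h4 : g * (x * g) ∈ centralizer ({M₁.e nn} : Set G) := mem_C.2 (by
        rwa [mul_inv_eq_iff_eq_mul] at hfix)
      have h6 : (g * g)⁻¹ ∈ centralizer ({M₁.e nn} : Set G) :=
        Subgroup.inv_mem _ ((inf_le_right : T ≤ centralizer ({M₁.e nn} : Set G)) hgg)
      have h5 := mul_mem h4 h6
      have e : g * (x * g) * (g * g)⁻¹ = g * x * g⁻¹ := by group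
      rwa [e] at h5
    have hR : cj g S₁ ≤ centralizer ({M₁.e nn} : Set G) := by
      rintro _ ⟨y, hy', rfl⟩
      show g * y * g⁻¹ ∈ _
      rcases hor hy' with h4 | h4
      · exact ((mem_normalizer_iff.1 hg y).1 h4).2
      · have h6 : g * (y * x) * g⁻¹ ∈ centralizer ({M₁.e nn} : Set G) :=
          (inf_le_right : T ≤ centralizer ({M₁.e nn} : Set G)) ((mem_normalizer_iff.1 hg _).1 h4)
        have h5 := mul_mem h6 (inv_mem hy)
        have e : g * (y * x) * g⁻¹ * (g * x * g⁻¹)⁻¹ = g * y * g⁻¹ := by group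
        rwa [e] at h5
    have h6 := card_le_of_syl hTs hR (hS₁2.map _)
    have h7 : Nat.card (cj g S₁) = Nat.card S₁ := card_map_of_injective (MulAut.conj g).injective
    have h8 : 0 < Nat.card T := Nat.card_pos
    omega

/-- **COR.** `g ∈ N_G(T) ∖ T` with `T⟨g⟩` a 2-group interchanges `n` and `a`. -/
theorem swap_of_two {g : G}
    (hg : g ∈ normalizer (((S : Subgroup G) ⊓ centralizer ({M₁.e nn} : Set G) : Subgroup G) : Set G))
    (hg2 : IsPGroup 2 ((S : Subgroup G) ⊓ centralizer ({M₁.e nn} : Set G) ⊔ zpowers g : Subgroup G))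
    (hgT : g ∉ (S : Subgroup G) ⊓ centralizer ({M₁.e nn} : Set G)) :
    g * M₁.e nn * g⁻¹ = M₁.e aa ∧ g * M₁.e aa * g⁻¹ = M₁.e nn ∧ g * M₂.e ss * g⁻¹ = M₂.e ss := by
  have h := w.act_xt hg hg2 hgT
  exact ⟨by rw [h.e0]; exact zet_e1, by rw [h.e1]; exact zet_e0, by rw [h.e2]; exact zet_e2⟩

end fin

end Wr

end Cfsg.Agent.Omega.IId.LFour

end
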