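import Cfsg.Agent.Mrg.Omega.IId.LFour.SwOne
import Cfsg.Agent.Mrg.Omega.IId.LFour.ZTn


/-!
# `SwOne K` (project OMEGA, II.d)
-/

set_option autoImplicit false

namespace Cfsg.Agent.Omega.IId.LFour

open Cfsg Cfsg.Agent.Omega.Frame

universe u

theorem sylN : SylN.{u} := fun _ _ _ _ _ _ _ _ _ _ _ wr => wr.not_two_dvd

/-- **`SwOne K`.** -/
theorem swOne (K : Cls.{u}) : SwOne K := swOne_of_sylN sylN K

end Cfsg.Agent.Omega.IId.LFour
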