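import Cfsg.Agent.Mrg.Omega.IId.LFour.Quarter
import Cfsg.Agent.Mrg.Omega.IId.Triangle
import Cfsg.Agent.Mrg.Omega.S5.NatBig


/-!
# LEMMA X (project OMEGA, II.d L4; helper84 #16986)

`wr : Wr S P M₁ M₂` (`V_P = V₁ × V₂`, `S₅ wr 2`), `n = M₁.e nn` a nonsingular vector of `V₁`.

* `ind_o2` : an element of `O₂(C_G(n))` which normalises `V₁` acts on it as `1` or `(0 1)` (any `FiveMod`);
* `Wr.le_o2_cent` : `V₁ ≤ O₂(C_G(v))` for EVERY `1 ≠ v ∈ V₂` (QUARTER LEMMA and HALF LEMMA);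
* `Wr.lemX₀` : `x ∈ V₁ ∩ H`, `V₂ ≤ B`, `H` normalises `B`, `|B : C_B(x)| ≤ 8` imply `x ∈ O₂(H)` (any subgroups
  `H`, `B`);
* `Wr.lemX'`, `Wr.lemX` : a 2-local `H` with `C_G(n) ≤ H` and `O₂(H) ≤ C_G(n)` has `V₁ ≤ O₂(H)`;
* `Wr.V₁_le_o2`, `Wr.zl_le_o2` : `V₁ ≤ O₂(C_G(n))`, `V_P ≤ O₂(C_G(n))`;
* `Wr.comm_conj` : then `[V₁, n ^ h] = 1` for all `h ∈ H`.

No Sylow condition, no triangle condition.
-/

set_option autoImplicit false
set_option linter.unusedSectionVars false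

namespace Cfsg.Agent.Omega.IId.LFour

open Subgroup Pointwise Cfsg Cfsg.Agent.ZN Cfsg.Agent.Omega.MinPar Cfsg.Agent.Omega.FFThm
open Cfsg.Agent.ZN.ChoiceBase (cj mem_cj)
open Cfsg.Agent.Omega.S5.Mod Cfsg.Agent.Omega.S5.TT
open Cfsg.Agent.Omega.S5.TT.Pos (na ns as sn n_ne s_ne a_ne n_ne_a n_ne_s a_ne_s e_sq' mem_C)
open Cfsg.Agent.Omega.Half (Amb amb_of_loc)
open Cfsg.Agent.Omega.S5.NatBig (odd_comm no_comm exists_inv center_norm)
open Cfsg.Agent.MinSimple.VModule (mem_zc zc_le zc_comm zc_sq zc_le_zl le_normalizer_o2 o2_isPGroup o2_le le_o2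
  normalizer_le_normalizer_zc le_normalizer_zl)

universe u

variable {G : Type u} [Group G]

/-! ### Counting -/

/-- If `|B| < |A||C|`, `A, C ≤ B`, then `A ∩ C ≠ 1`. -/
theorem inf_ne_bot [Finite G] {A C B : Subgroup G} (hA : A ≤ B) (hC : C ≤ B)
    (h : Nat.card B < Nat.card A * Nat.card C) : A ⊓ C ≠ ⊥ := by
  intro h0
  have hd : Disjoint A C := disjoint_iff.2 h0
  have h1 : Function.Injective (fun g : A × C => (⟨(g.1 : G) * g.2, mul_mem (hA g.1.2) (hC g.2.2)⟩ : B)) := by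
    intro g g' hg
    exact Subgroup.mul_injective_of_disjoint hd (congrArg Subtype.val hg)
  have h2 := Nat.card_le_card_of_injective _ h1
  rw [Nat.card_prod] at h2
  omega

/-- `g` maps `B` into `B g {1, n}`: index at most 2. -/
theorem card_le_two_mul [Finite G] {B : Subgroup G} {x n : G}
    (h : ∀ b ∈ B, b * x * b⁻¹ * x⁻¹ = 1 ∨ b * x * b⁻¹ * x⁻¹ = n) :
    Nat.card B ≤ 2 * Nat.card ↥(B ⊓ centralizer ({x} : Set G)) := by
  classical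
  by_cases hex : ∃ b₀ ∈ B, b₀ * x * b₀⁻¹ * x⁻¹ = n
  · obtain ⟨b₀, hb₀, h0⟩ := hex
    set C := B ⊓ centralizer ({x} : Set G) with hC
    have hmem : ∀ b ∈ B, b ∈ C ∨ b₀⁻¹ * b ∈ C := by
      intro b hb
      rcases h b hb with h1 | h1
      · left
        refine ⟨hb, mem_centralizer_singleton_iff.2 ?_⟩
        exact mul_inv_eq_iff_eq_mul.1 (mul_inv_eq_one.1 h1)
      · right
        refine mem_inf.2 ⟨B.mul_mem (B.inv_mem hb₀) hb, mem_centralizer_singleton_iff.2 ?_⟩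
        have h2 : b * x * b⁻¹ = b₀ * x * b₀⁻¹ := mul_right_cancel (h1.trans h0.symm)
        calc b₀⁻¹ * b * x = b₀⁻¹ * (b * x * b⁻¹) * b := by group
          _ = b₀⁻¹ * (b₀ * x * b₀⁻¹) * b := by rw [h2]
          _ = x * (b₀⁻¹ * b) := by group
    have h2 : (B : Set G) ⊆ (C : Set G) ∪ (fun y => b₀ * y) '' (C : Set G) := by
      intro b hb
      rcases hmem b hb with h1 | h1
      · exact Or.inl h1
      · exact Or.inr ⟨_, h1, by group⟩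
    have h3 := Set.ncard_le_ncard h2 (Set.toFinite _)
    have h4 := Set.ncard_union_le (C : Set G) ((fun y => b₀ * y) '' (C : Set G))
    have h5 : ((fun y => b₀ * y) '' (C : Set G)).ncard = (C : Set G).ncard :=
      Set.ncard_image_of_injective _ (mul_right_injective b₀)
    have h6 : (B : Set G).ncard = Nat.card B := rfl
    have h7 : (C : Set G).ncard = Nat.card C := rfl
    omega
  · push Not at hex
    have h1 : B ≤ B ⊓ centralizer ({x} : Set G) := fun b hb => ⟨hb, mem_centralizer_singleton_iff.2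
      (mul_inv_eq_iff_eq_mul.1 (mul_inv_eq_one.1 ((h b hb).resolve_right (hex b hb))))⟩
    have h2 := Subgroup.card_le_of_le h1
    omega

/-! ### The vectors of the module -/

/-- `|V| ≥ 16` -/
theorem card_ge [Finite G] {V L : Subgroup G} (M : FiveMod V L) : 16 ≤ Nat.card V := by
  have h1 : Function.Injective (fun x : Fin 4 → ZMod 2 =>
      (⟨M.e ![x 0, x 1, x 2, x 3, 0], M.e_mem _⟩ : V)) := by
    intro x y h
    have h2 : M.e ![x 0, x 1, x 2, x 3, 0] = M.e ![y 0, y 1, y 2, y 3, 0] := congrArg Subtype.val h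
    rcases M.e_eq_iff.1 h2 with h3 | h3
    · funext i
      fin_cases i
      · exact congrFun h3 0
      · exact congrFun h3 1
      · exact congrFun h3 2
      · exact congrFun h3 3
    · exfalso
      have h4 : (0 : ZMod 2) = 0 + 1 := congrFun h3 4
      rw [zero_add] at h4
      exact zero_ne_one h4
  have h2 := Nat.card_le_card_of_injective _ h1
  have h3 : Nat.card (Fin 4 → ZMod 2) = 16 := by
    rw [Nat.card_eq_fintype_card]; rfl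
  omega

theorem vec_cases : ∀ x : Vec, x = 0 ∨ x = 1 ∨ ∃ p : Equiv.Perm (Fin 5),
    x = nn ∘ p.symm ∨ x = nn ∘ p.symm + 1 ∨ x = ss ∘ p.symm ∨ x = ss ∘ p.symm + 1 := by
  decide +kernel

/-- a permutation which fixes `nn` modulo `1` and normalises: transposition `(0 1)` and `S_3` -/
theorem no_normal_n : ∀ p : Equiv.Perm (Fin 5), (nn ∘ p.symm = nn ∨ nn ∘ p.symm = nn + 1) →
    p = 1 ∨ p = Equiv.swap 0 1 ∨ ∃ r : Equiv.Perm (Fin 5), nn ∘ r.symm = nn ∧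
      p * (r * p⁻¹ * r⁻¹) ≠ 1 ∧ (p * (r * p⁻¹ * r⁻¹)) ^ 3 = 1 := by
  decide +kernel

/-- An element of `O₂(C_G(n))` which normalises `V` acts on it as `1` or as `(0 1)`. -/
theorem ind_o2 [Finite G] {V L : Subgroup G} (M : FiveMod V L) {g : G} {p : Equiv.Perm (Fin 5)}
    (hg : g ∈ o2 (centralizer ({M.e nn} : Set G))) (hp : M.Ind g p) : p = 1 ∨ p = Equiv.swap 0 1 := by
  have hW2 := o2_isPGroup (centralizer ({M.e nn} : Set G))
  have hgC : g ∈ centralizer ({M.e nn} : Set G) := o2_le _ hg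
  have h0 : M.e (nn ∘ p.symm) = M.e nn := by
    rw [← hp nn]
    exact mul_inv_eq_iff_eq_mul.2 (mem_C.1 hgC)
  rcases no_normal_n p (M.e_eq_iff.1 h0) with rfl | rfl | ⟨r, hr0, hr1, hr⟩
  · exact Or.inl rfl
  · exact Or.inr rfl
  · exfalso
    obtain ⟨l, hl, hi⟩ := M.exists_lift r
    have hi : M.Ind l r := hi
    have hlC : l ∈ centralizer ({M.e nn} : Set G) := by
      refine mem_C.2 (mul_inv_eq_iff_eq_mul.1 ?_)
      rw [hi nn, hr0]
    have h1 : g * (l * g⁻¹ * l⁻¹) ∈ o2 (centralizer ({M.e nn} : Set G)) :=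
      mul_mem hg ((mem_normalizer_iff.1 (le_normalizer_o2 _ hlC) _).1 (inv_mem hg))
    have h2 : M.Ind (g * (l * g⁻¹ * l⁻¹)) (p * (r * p⁻¹ * r⁻¹)) := hp.mul ((hi.mul hp.inv).mul hi.inv)
    obtain ⟨k, hk⟩ := hW2 ⟨_, h1⟩
    have hk' : (g * (l * g⁻¹ * l⁻¹)) ^ (2 ^ k) = 1 := congrArg Subtype.val hk
    have key : ∀ m : ℕ, M.Ind ((g * (l * g⁻¹ * l⁻¹)) ^ m) ((p * (r * p⁻¹ * r⁻¹)) ^ m) := by
      intro m
      induction m with
      | zero => rw [pow_zero, pow_zero]; exact M.ind_one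
      | succ m ih => rw [pow_succ, pow_succ]; exact ih.mul h2
    have h3 : (p * (r * p⁻¹ * r⁻¹)) ^ (2 ^ k) = 1 := by
      have h4 := key (2 ^ k)
      rw [hk'] at h4
      exact FiveMod.Ind.unique h4 M.ind_one
    have h5 : orderOf (p * (r * p⁻¹ * r⁻¹)) ∣ Nat.gcd (2 ^ k) 3 :=
      Nat.dvd_gcd (orderOf_dvd_of_pow_eq_one h3) (orderOf_dvd_of_pow_eq_one hr)
    have h6 : Nat.gcd (2 ^ k) 3 = 1 := Nat.Coprime.pow_left k (by norm_num)
    rw [h6, Nat.dvd_one, orderOf_eq_one_iff] at h5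
    exact hr1 h5

theorem swap_add_x : ∀ y : Vec, (y ∘ (Equiv.swap (0 : Fin 5) 1).symm + y = 0) ∨
    (y ∘ (Equiv.swap (0 : Fin 5) 1).symm + y = nn) := by
  decide +kernel

/-- `[O₂(C_G(n)) ∩ N(V), V] ≤ ⟨n⟩` -/
theorem comm_o2 [Finite G] {V L : Subgroup G} (M : FiveMod V L) {g v : G} {p : Equiv.Perm (Fin 5)}
    (hg : g ∈ o2 (centralizer ({M.e nn} : Set G))) (hp : M.Ind g p) (hv : v ∈ V) :
    g * v * g⁻¹ * v⁻¹ = 1 ∨ g * v * g⁻¹ * v⁻¹ = M.e nn := by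
  obtain ⟨y, rfl⟩ := (M.mem_iff v).1 hv
  rw [hp.comm_eq]
  rcases ind_o2 M hg hp with rfl | rfl
  · left
    have e : (y ∘ (1 : Equiv.Perm (Fin 5)).symm : Vec) = y := rfl
    rw [e, add_self, M.e_zero]
  · rcases swap_add_x y with h3 | h3
    · left; rw [h3, M.e_zero]
    · right; rw [h3]

namespace Wr

variable {S : Sylow 2 G} {P V₁ V₂ L₁ L₂ : Subgroup G} {M₁ : FiveMod V₁ L₁} {M₂ : FiveMod V₂ L₂}

section fin

variable [Finite G] (wr : Wr S P M₁ M₂)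
include wr

/-- `V₁ ≤ O₂(C_G(v))` for every `1 ≠ v ∈ V₂`. -/
theorem le_o2_cent {v : G} (hv : v ∈ V₂) (hv1 : v ≠ 1) : V₁ ≤ o2 (centralizer ({v} : Set G)) := by
  obtain ⟨x, rfl⟩ := (M₂.mem_iff v).1 hv
  have key : ∀ (y : Vec) (p : Equiv.Perm (Fin 5)), V₁ ≤ o2 (centralizer ({M₂.e y} : Set G)) →
      V₁ ≤ o2 (centralizer ({M₂.e (y ∘ p.symm)} : Set G)) := by
    intro y p hy u hu
    obtain ⟨g, hg, hi⟩ := M₂.exists_lift p
    rw [← hi y, Triangle.o2_cent_conj]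
    refine ⟨u, hy hu, ?_⟩
    change g * u * g⁻¹ = u
    rw [wr.L₂_comm hg hu, mul_inv_cancel_right]
  have e1 : ∀ y : Vec, M₂.e (y + 1) = M₂.e y := fun y => M₂.e_eq_iff.2 (Or.inr rfl)
  rcases vec_cases x with rfl | rfl | ⟨p, rfl | rfl | rfl | rfl⟩
  · exact absurd M₂.e_zero hv1
  · exact absurd M₂.e_one hv1
  · exact key _ p wr.symm.quarter
  · rw [e1]; exact key _ p wr.symm.quarter
  · exact key _ p wr.V₁_le_o2_centralizer.1
  · rw [e1]; exact key _ p wr.V₁_le_o2_centralizer.1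

/-- `O₂(C_G(n)) ∩ P` acts on `V₁` inside `⟨(0 1)⟩`. -/
theorem o2_ind {g : G} (hg : g ∈ o2 (centralizer ({M₁.e nn} : Set G))) (hgP : g ∈ P) :
    M₁.Ind g 1 ∨ M₁.Ind g (Equiv.swap 0 1) := by
  obtain ⟨p, q, hp, -⟩ := wr.ind_of_comm hgP (M₁.e_mem nn) (n_ne M₁) (mem_C.1 (o2_le _ hg))
  rcases ind_o2 M₁ hg hp with rfl | rfl
  · exact Or.inl hp
  · exact Or.inr hp

/-- `[O₂(C_G(n)) ∩ P, V_P] ≤ ⟨n⟩` -/
theorem comm_o2 {g v : G} (hg : g ∈ o2 (centralizer ({M₁.e nn} : Set G))) (hgP : g ∈ P)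
    (hv : v ∈ zl (S : Subgroup G) P) : g * v * g⁻¹ * v⁻¹ = 1 ∨ g * v * g⁻¹ * v⁻¹ = M₁.e nn := by
  obtain ⟨p, q, hp, -⟩ := wr.ind_of_comm hgP (M₁.e_mem nn) (n_ne M₁) (mem_C.1 (o2_le _ hg))
  have h1 : v ∈ V₁ ⊔ V₂ := wr.sup ▸ hv
  have hn : V₂ ≤ normalizer (V₁ : Set G) := fun v hv => by
    refine centralizer_le_normalizer _ (mem_centralizer_iff.2 fun u hu => wr.comm hu hv)
  obtain ⟨v₁, hv₁, v₂, hv₂, rfl⟩ : ∃ v₁ ∈ V₁, ∃ v₂ ∈ V₂, v₁ * v₂ = v := by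
    have h2 : v ∈ ((V₁ ⊔ V₂ : Subgroup G) : Set G) := h1
    rw [coe_mul_of_right_le_normalizer_left _ _ hn] at h2
    exact Set.mem_mul.1 h2
  have h3 : g * v₂ = v₂ * g := (mem_centralizer_iff.1 (wr.quarter_cent hg) v₂ hv₂).symm
  have e : g * (v₁ * v₂) * g⁻¹ * (v₁ * v₂)⁻¹ = g * v₁ * g⁻¹ * v₁⁻¹ := by
    calc g * (v₁ * v₂) * g⁻¹ * (v₁ * v₂)⁻¹ = g * v₁ * (v₂ * g⁻¹) * v₂⁻¹ * v₁⁻¹ := by group
      _ = g * v₁ * (g⁻¹ * v₂) * v₂⁻¹ * v₁⁻¹ := by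
        rw [show v₂ * g⁻¹ = g⁻¹ * v₂ from by
          calc v₂ * g⁻¹ = g⁻¹ * (g * v₂) * g⁻¹ := by group
            _ = g⁻¹ * (v₂ * g) * g⁻¹ := by rw [h3]
            _ = g⁻¹ * v₂ := by group]
      _ = g * v₁ * g⁻¹ * v₁⁻¹ := by group
  rw [e]
  exact LFour.comm_o2 M₁ hg hp hv₁

/-- **LEMMA X, the core.** -/
theorem lemX₀ {H B : Subgroup G} {x : G} (hx : x ∈ V₁) (hxH : x ∈ H)
    (hB : ∀ h ∈ H, ∀ b ∈ B, h * b * h⁻¹ ∈ B) (hV2B : V₂ ≤ B)
    (hcB : Nat.card B ≤ 8 * Nat.card ↥(B ⊓ centralizer ({x} : Set G))) : x ∈ o2 H := by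
  by_contra hxO
  have hx2 : x * x = 1 := M₁.sq hx
  obtain ⟨d, hdH, hd1, hdo, hinv⟩ := exists_inv hxH hx2 hxO
  have hcard : 16 ≤ Nat.card V₂ := card_ge M₂
  -- `V₂^d ∩ C_B(x) ≠ 1`
  set φ := MulAut.conj d with hφ
  have hφB : φ • V₂ ≤ B := by
    rintro _ ⟨v, hv, rfl⟩
    exact hB d hdH v (hV2B hv)
  have h1 : φ • V₂ ⊓ (B ⊓ centralizer ({x} : Set G)) ≠ ⊥ := by
    refine inf_ne_bot hφB inf_le_left ?_
    have h2 : Nat.card ↥(φ • V₂) = Nat.card V₂ := (Nat.card_congr (Subgroup.equivSMul φ V₂).toEquiv).symm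
    rw [h2]
    have h3 : 0 < Nat.card ↥(B ⊓ centralizer ({x} : Set G)) := Nat.card_pos
    have h4 := Nat.mul_le_mul_right (Nat.card ↥(B ⊓ centralizer ({x} : Set G))) hcard
    omega
  obtain ⟨⟨y, hy⟩, hy1⟩ := Subgroup.ne_bot_iff_exists_ne_one.1 h1
  have hy1 : y ≠ 1 := fun h => hy1 (Subtype.ext h)
  obtain ⟨⟨v, hv, hvy⟩, -, hyx⟩ := hy
  have hvy : d * v * d⁻¹ = y := hvy
  have hv1 : v ≠ 1 := by
    rintro rfl
    apply hy1
    rw [← hvy]; group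
  have hxy : x * y = y * x := (mem_centralizer_singleton_iff.1 hyx).symm
  have hxv : x * v = v * x := wr.comm hx hv
  have e1 : x * y * x⁻¹ = d⁻¹ * v * d := by
    calc x * y * x⁻¹ = (x * d * x⁻¹) * (x * v * x⁻¹) * (x * d * x⁻¹)⁻¹ := by rw [← hvy]; group
      _ = d⁻¹ * v * d := by rw [hinv, hxv, mul_inv_cancel_right, inv_inv]
  have e2 : d⁻¹ * v * d = d * v * d⁻¹ := by rw [← e1, hxy, mul_inv_cancel_right, hvy]
  have e3 : d * (d * v * d⁻¹) * d⁻¹ = v := by rw [← e2]; group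
  exact no_comm hdo hd1 hinv (wr.le_o2_cent hv hv1 hx) (odd_comm hdo e3)

/-- `|B| ≤ 8 |C_B(x)|` for `x ∈ V₁` and `B ≤ O₂(C_G(n))`. -/
theorem card_le_eight {B : Subgroup G} (hBW : B ≤ o2 (centralizer ({M₁.e nn} : Set G))) {x : G} (hx : x ∈ V₁) :
    Nat.card B ≤ 8 * Nat.card ↥(B ⊓ centralizer ({x} : Set G)) := by
  have hB1 : Nat.card B ≤ 4 * Nat.card ↥(B ⊓ (S : Subgroup G)) := by
    set T := (S : Subgroup G) ⊓ centralizer ({M₁.e nn} : Set G) with hT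
    set W := o2 (centralizer ({M₁.e nn} : Set G)) with hW
    have h1 := wr.card_W
    have h2 : Nat.card ↥(T ⊓ W) * (T ⊓ W).relIndex W = Nat.card W := Half.card_mul_relIndex inf_le_right
    have h3 : (T ⊓ W).relIndex W ≤ 4 := by
      have h4 : Nat.card ↥(T ⊓ W) * (T ⊓ W).relIndex W ≤ Nat.card ↥(T ⊓ W) * 4 := by
        rw [h2, mul_comm _ 4]; exact h1
      exact Nat.le_of_mul_le_mul_left h4 Nat.card_pos
    have h5 : (T ⊓ W).relIndex B ≤ 4 := by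
      refine (relIndex_le_of_le_right hBW ?_).trans h3
      intro h6
      rw [h6, mul_zero] at h2
      exact Nat.card_pos.ne h2
    have h7 : Nat.card ↥(B ⊓ (T ⊓ W)) * (B ⊓ (T ⊓ W)).relIndex B = Nat.card B :=
      Half.card_mul_relIndex inf_le_left
    have h8 : (B ⊓ (T ⊓ W)).relIndex B = (T ⊓ W).relIndex B := inf_relIndex_left _ _
    rw [h8] at h7
    have h9 : Nat.card ↥(B ⊓ (T ⊓ W)) ≤ Nat.card ↥(B ⊓ (S : Subgroup G)) :=
      Subgroup.card_le_of_le (inf_le_inf_left _ (inf_le_left.trans inf_le_left))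
    calc Nat.card B = Nat.card ↥(B ⊓ (T ⊓ W)) * (T ⊓ W).relIndex B := h7.symm
      _ ≤ Nat.card ↥(B ⊓ (S : Subgroup G)) * 4 := Nat.mul_le_mul h9 h5
      _ = _ := mul_comm _ _
  have hB2 : Nat.card ↥(B ⊓ (S : Subgroup G)) ≤ 2 * Nat.card ↥(B ⊓ centralizer ({x} : Set G)) := by
    refine (card_le_two_mul (x := x) (n := M₁.e nn) fun b hb => ?_).trans
      (Nat.mul_le_mul_left _ (Subgroup.card_le_of_le (inf_le_inf_right _ inf_le_left)))
    exact wr.comm_o2 (hBW hb.1) (wr.S_le hb.2) (wr.V₁_le hx)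
  omega

/-- **LEMMA X.** -/
theorem lemX' {H : Subgroup G} (hc : H ⊓ centralizer (o2 H : Set G) ≤ o2 H)
    (hCH : centralizer ({M₁.e nn} : Set G) ≤ H) (hO : o2 H ≤ centralizer ({M₁.e nn} : Set G)) :
    V₁ ≤ o2 H := by
  have hOW : o2 H ≤ o2 (centralizer ({M₁.e nn} : Set G)) :=
    le_o2 hO (o2_isPGroup H) (hCH.trans (le_normalizer_o2 H))
  have hV1C : V₁ ≤ centralizer ({M₁.e nn} : Set G) := fun v hv => mem_C.2 (M₁.comm hv (M₁.e_mem nn))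
  have hV2C : V₂ ≤ centralizer ({M₁.e nn} : Set G) := fun v hv => mem_C.2 (wr.comm (M₁.e_mem nn) hv).symm
  have hV2B : V₂ ≤ o2 H ⊓ centralizer (o2 H : Set G) := by
    intro v hv
    have h1 : v ∈ centralizer (o2 H : Set G) := mem_centralizer_iff.2 fun y hy =>
      (mem_centralizer_iff.1 (wr.quarter_cent (hOW hy)) v hv).symm
    exact ⟨hc ⟨hCH (hV2C hv), h1⟩, h1⟩
  intro x hx
  exact wr.lemX₀ (B := o2 H ⊓ centralizer (o2 H : Set G)) hx (hCH (hV1C hx))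
    (fun h hh b hb => center_norm hh hb) hV2B (wr.card_le_eight (inf_le_left.trans hOW) hx)

/-- **LEMMA X** for the normaliser of a 2-group. -/
theorem lemX {U : Subgroup G} (hU : IsPGroup 2 U) (hU1 : U ≠ ⊥)
    (hC : centralizer ({M₁.e nn} : Set G) ≤ normalizer (U : Set G))
    (ho : o2 (normalizer (U : Set G)) ≤ centralizer ({M₁.e nn} : Set G)) : V₁ ≤ o2 (normalizer (U : Set G)) :=
  wr.lemX' (MinSimple.Basic.char2_normalizer wr.hG hU hU1) hC ho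

/-- `V₁ ≤ O₂(C_G(n))`. -/
theorem V₁_le_o2 : V₁ ≤ o2 (centralizer ({M₁.e nn} : Set G)) :=
  wr.lemX' (MinSimple.Basic.char2_centralizer wr.hG (e_sq' M₁ nn) (n_ne M₁)) le_rfl (o2_le _)

/-- `V_P ≤ O₂(C_G(n))`. -/
theorem zl_le_o2 : zl (S : Subgroup G) P ≤ o2 (centralizer ({M₁.e nn} : Set G)) := by
  rw [wr.sup]
  exact sup_le wr.V₁_le_o2 wr.quarter

/-- LEMMA X in the form used by the consumers: `[V₁, ⟨n^H⟩] = 1`. -/
theorem comm_conj {H : Subgroup G} (hc : H ⊓ centralizer (o2 H : Set G) ≤ o2 H)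
    (hCH : centralizer ({M₁.e nn} : Set G) ≤ H) (hO : o2 H ≤ centralizer ({M₁.e nn} : Set G))
    {h x : G} (hh : h ∈ H) (hx : x ∈ V₁) : x * (h * M₁.e nn * h⁻¹) = h * M₁.e nn * h⁻¹ * x := by
  have h1 : h⁻¹ * x * h ∈ o2 H := by
    have := (mem_normalizer_iff.1 (le_normalizer_o2 H (inv_mem hh)) x).1 (wr.lemX' hc hCH hO hx)
    rwa [inv_inv] at this
  have h2 := mem_C.1 (hO h1)
  calc x * (h * M₁.e nn * h⁻¹) = h * (h⁻¹ * x * h * M₁.e nn) * h⁻¹ := by group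
    _ = h * (M₁.e nn * (h⁻¹ * x * h)) * h⁻¹ := by rw [h2]
    _ = h * M₁.e nn * h⁻¹ * x := by group

end fin

end Wr

end Cfsg.Agent.Omega.IId.LFour
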