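import Cfsg.Agent.Mrg.Omega.TTn.BZero
import Cfsg.Agent.Mrg.Omega.NO3b.UMethod
import Cfsg.Agent.Mrg.Omega.Sec.Faithful


/-!
# (C) of #14703 (S₅ wr 2, `U ≤ Q_a`): the abstract part (helper430)

`Calc.Dat N U (cls N a) Wf` (transvections `Wf c` with centres `c ∈ cls N a` on `U`), no connectedness.
* `comm_all'` : a 2-subgroup `K` of `N`, normalised by `C_N(a)`, which centralises `a` and a neighbour `b` of `a`,
  centralises `cls N a`, if `Wf c` is faithful on `U` modulo `O₂(N)`;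
* `conj_of_rank` : two subgroups of order 3 modulo the 2-group `Q` in a group `X` which commutes modulo `Q` with a
  further element of order 3 are conjugate in `X` modulo `Q`, if the 3-rank is at most 2.
-/

set_option autoImplicit false
set_option linter.unusedSectionVars false

namespace Cfsg.Agent.Omega.IId.LFour.CAbs

open Subgroup Cfsg Cfsg.Agent.ZN
open Cfsg.Agent.Omega.S5.ChiConst (cls)
open Cfsg.Agent.Omega.TTn
open Cfsg.Agent.Omega.TTn.BZero (Adj Rel cls_conj a_cls conj_b near)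
open Cfsg.Agent.MinSimple.VModule (o2_isPGroup le_o2 o2_le le_normalizer_o2 mem_normalizer_of_map_le)
open Cfsg.Agent.Omega.NO3b.UMethod (o2_le_o2_of_normal)

variable {G : Type*} [Group G]

theorem inv_conj {k a : G} (h : k * a = a * k) : k⁻¹ * a * k⁻¹⁻¹ = a := by
  calc k⁻¹ * a * k⁻¹⁻¹ = k⁻¹ * (a * k) := by group
    _ = a := by rw [← h]; group

/-- adjacency inside `cls N a` -/
def Ad (N : Subgroup G) (a : G) (Wf : G → Subgroup G) (c d : G) : Prop :=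
  c ∈ cls N a ∧ d ∈ cls N a ∧ Adj Wf c d

/-- connectedness -/
abbrev Cn (N : Subgroup G) (a : G) (Wf : G → Subgroup G) (c d : G) : Prop :=
  Relation.ReflTransGen (Ad N a Wf) c d

section

variable {a b : G} {N U : Subgroup G} {Wf : G → Subgroup G}

theorem cn_symm [Finite G] (h : Calc.Dat N U (cls N a) Wf) {x y : G} (hxy : Cn N a Wf x y) : Cn N a Wf y x := by
  induction hxy with
  | refl => exact Relation.ReflTransGen.refl
  | @tail c d _ hcd ih =>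
    exact Relation.ReflTransGen.head ⟨hcd.2.1, hcd.1, h.sym c hcd.1 d hcd.2.1 hcd.2.2⟩ ih

theorem cn_conj (h : Calc.Dat N U (cls N a) Wf) {g x y : G} (hg : g ∈ N) (hxy : Cn N a Wf x y) :
    Cn N a Wf (g * x * g⁻¹) (g * y * g⁻¹) := by
  induction hxy with
  | refl => exact Relation.ReflTransGen.refl
  | @tail c d _ hcd ih =>
    obtain ⟨hc, hd, w, hw, hwd⟩ := hcd
    refine ih.tail ⟨cls_conj hc hg, cls_conj hd hg, g * w * g⁻¹, h.eqv g hg c hc w hw, fun h0 => hwd ?_⟩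
    calc w * d = g⁻¹ * (g * w * g⁻¹ * (g * d * g⁻¹)) * g := by group
      _ = d * w := by rw [h0]; group

/-- `K` centralises the component of `a`. -/
theorem comm_comp [Finite G] (h : Calc.Dat N U (cls N a) Wf) (bA : b ∈ cls N a) (mov : Adj Wf a b)
    {K : Subgroup G} (hK : ∀ y ∈ N, y * a = a * y → ∀ k ∈ K, y * k * y⁻¹ ∈ K)
    (hKa : ∀ k ∈ K, k * a = a * k) (hKb : ∀ k ∈ K, k * b = b * k) {c : G} (hc : c ∈ cls N a)
    (hac : Cn N a Wf a c) : ∀ k ∈ K, k * c = c * k := by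
  have key : ∀ k ∈ K, ∀ c ∈ cls N a, Adj Wf a c → k * c = c * k := by
    intro k hk c hc hac
    obtain ⟨y, hy, hya, rfl⟩ := conj_b h bA mov hc hac
    have h2 := hKb _ (hK y⁻¹ (inv_mem hy) (by
      calc y⁻¹ * a = y⁻¹ * (a * y) * y⁻¹ := by group
        _ = a * y⁻¹ := by rw [← hya]; group) k hk)
    calc k * (y * b * y⁻¹) = y * (y⁻¹ * k * y⁻¹⁻¹ * b) * y⁻¹ := by group
      _ = y * b * y⁻¹ * k := by rw [h2]; group
  intro k hk
  rcases near h hac with rfl | hac | ⟨d, hd, had, hdc⟩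
  · exact hKa k hk
  · exact key k hk c hc hac
  · by_cases hac : Adj Wf a c
    · exact key k hk c hc hac
    have hcU := h.OmA _ hc
    have hdU := h.OmA _ hd
    obtain ⟨v, hv, hvc⟩ := hdc
    have he : c * d ∈ cls N a := by
      rw [← h.move hd hv hcU hvc]
      exact h.OmX v (h.WX _ hd v hv) c hc
    have h2 : Adj Wf a (c * d) := by
      obtain ⟨w, hw, hwd⟩ := had
      refine ⟨w, hw, fun h0 => hwd ?_⟩
      rw [h.comm_mul_iff a_cls hw hcU hdU] at h0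
      refine h0.mp ?_
      by_contra h2
      exact hac ⟨w, hw, h2⟩
    have h3 := key k hk _ he h2
    have h4 := key k hk d hd had
    have h5 : k * c * d = c * k * d := by
      calc k * c * d = k * (c * d) := by group
        _ = c * (d * k) := by rw [h3]; group
        _ = c * k * d := by rw [← h4]; group
    exact mul_right_cancel h5

/-- commutators of `Wf c` and `Wf d`, `c`, `d` not joined -/
theorem comm_mem_o2 [Finite G] (h : Calc.Dat N U (cls N a) Wf)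
    (hf : ∀ c ∈ cls N a, ∀ w ∈ Wf c, (∀ u ∈ U, w * u = u * w) → w ∈ o2 N) {c d : G} (hc : c ∈ cls N a)
    (hd : d ∈ cls N a) (hcd : ¬ Adj Wf c d) {w v : G} (hw : w ∈ Wf c) (hv : v ∈ Wf d) :
    w * v * w⁻¹ * v⁻¹ ∈ o2 N := by
  have hwd : w * d = d * w := by
    by_contra h0; exact hcd ⟨w, hw, h0⟩
  have hvc : v * c = c * v := by
    by_contra h0; exact hcd (h.sym d hd c hc ⟨v, hv, h0⟩)
  have h1 : w * v * w⁻¹ ∈ Wf d := by
    have := h.eqv w (h.WX c hc w hw) d hd v hv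
    rwa [Calc.conj_eq_iff.mpr hwd] at this
  refine hf d hd _ (mul_mem h1 (inv_mem hv)) fun u hu => ?_
  have hcU := h.OmA _ hc
  have hdU := h.OmA _ hd
  have hwN := h.WX c hc w hw
  have hvN := h.WX d hd v hv
  -- `w v = v w` on `U`
  have e1 : ∀ u ∈ U, w * v * u * (w * v)⁻¹ = v * w * u * (v * w)⁻¹ := by
    intro u hu
    have a1 : w * v * u * (w * v)⁻¹ = w * (v * u * v⁻¹) * w⁻¹ := by group
    have a2 : v * w * u * (v * w)⁻¹ = v * (w * u * w⁻¹) * v⁻¹ := by group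
    rw [a1, a2]
    have hwd' := Calc.conj_eq_iff.mpr hwd
    have hvc' := Calc.conj_eq_iff.mpr hvc
    have s1 : ∀ x, w * (u * x) * w⁻¹ = w * u * w⁻¹ * (w * x * w⁻¹) := fun x => by group
    have s2 : ∀ x, v * (u * x) * v⁻¹ = v * u * v⁻¹ * (v * x * v⁻¹) := fun x => by group
    rcases h.act c hc w hw u hu with h2 | h2 <;> rcases h.act d hd v hv u hu with h3 | h3
    · rw [h2, h3, h2]
    · rw [h3, s1, h2, hwd', h3]
    · rw [h2, s2, h3, hvc', h2]
    · rw [h2, h3, s1, s2, h2, h3, hwd', hvc', mul_assoc, mul_assoc, h.comm c hcU d hdU]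
  have h3 := e1 ((v * w)⁻¹ * u * (v * w)) (by
    have := h.norm (v * w)⁻¹ (inv_mem (mul_mem hvN hwN)) u hu
    rwa [inv_inv] at this)
  have h4 : w * v * w⁻¹ * v⁻¹ * u * (w * v * w⁻¹ * v⁻¹)⁻¹ = u := by
    calc _ = w * v * ((v * w)⁻¹ * u * (v * w)) * (w * v)⁻¹ := by group
      _ = v * w * ((v * w)⁻¹ * u * (v * w)) * (v * w)⁻¹ := h3
      _ = u := by group
  exact Calc.conj_eq_iff.mp h4

/-- **`K` centralises `cls N a`.** -/
theorem comm_all' [Finite G] (h : Calc.Dat N U (cls N a) Wf) (bA : b ∈ cls N a) (mov : Adj Wf a b)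
    (hQ : ∀ q ∈ o2 N, ∀ u ∈ U, q * u = u * q)
    (hf : ∀ c ∈ cls N a, ∀ w ∈ Wf c, (∀ u ∈ U, w * u = u * w) → w ∈ o2 N)
    {K : Subgroup G} (hKN : K ≤ N) (hK2 : IsPGroup 2 K)
    (hK : ∀ y ∈ N, y * a = a * y → ∀ k ∈ K, y * k * y⁻¹ ∈ K)
    (hKa : ∀ k ∈ K, k * a = a * k) (hKb : ∀ k ∈ K, k * b = b * k) :
    ∀ k ∈ K, ∀ c ∈ cls N a, k * c = c * k := by
  intro k₀ hk₀ c₀ hc₀
  by_cases hac₀ : Cn N a Wf a c₀
  · exact comm_comp h bA mov hK hKa hKb hc₀ hac₀ k₀ hk₀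
  -- members of other components fix `a`
  have hfix : ∀ c ∈ cls N a, ¬ Cn N a Wf a c → ∀ w ∈ Wf c, w * a = a * w := by
    intro c hc hac w hw
    by_contra h0
    exact hac (Relation.ReflTransGen.single ⟨a_cls, hc, h.sym c hc a a_cls ⟨w, hw, h0⟩⟩)
  set R : Subgroup G := closure {y | ∃ k ∈ K, ∃ c ∈ cls N a, ¬ Cn N a Wf a c ∧ ∃ w ∈ Wf c,
    y = k * w * k⁻¹ * w⁻¹} with hR
  set F : Subgroup G := closure {w | ∃ c ∈ cls N a, w ∈ Wf c} with hF
  have hRK : R ≤ K := by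
    rw [hR, closure_le]
    rintro _ ⟨k, hk, c, hc, hac, w, hw, rfl⟩
    have h1 := hK w (h.WX c hc w hw) (hfix c hc hac w hw) _ (inv_mem hk)
    have e : k * w * k⁻¹ * w⁻¹ = k * (w * k⁻¹ * w⁻¹) := by group
    rw [e]
    exact mul_mem hk h1
  have hFN : F ≤ N := by
    rw [hF, closure_le]
    rintro w ⟨c, hc, hw⟩
    exact h.WX c hc w hw
  -- `k w k⁻¹` is a member of `Wf (k c k⁻¹)`
  have hkc : ∀ k ∈ K, ∀ c ∈ cls N a, ¬ Cn N a Wf a c → ¬ Cn N a Wf a (k * c * k⁻¹) := by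
    intro k hk c hc hac h1
    have h2 := cn_conj h (inv_mem (hKN hk)) h1
    have e : k⁻¹ * (k * c * k⁻¹) * k⁻¹⁻¹ = c := by group
    have e2 : k⁻¹ * a * k⁻¹⁻¹ = a := inv_conj (hKa k hk)
    rw [e, e2] at h2
    exact hac h2
  have hRF : R ≤ F := by
    rw [hR, closure_le]
    rintro _ ⟨k, hk, c, hc, hac, w, hw, rfl⟩
    exact mul_mem (subset_closure ⟨_, cls_conj hc (hKN hk), h.eqv k (hKN hk) c hc w hw⟩)
      (inv_mem (subset_closure ⟨c, hc, hw⟩))
  have hQn : N ≤ normalizer (o2 N : Set G) := le_normalizer_o2 N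
  have hRQ2 : IsPGroup 2 (R ⊔ o2 N : Subgroup G) :=
    (hK2.to_le hRK).to_sup_of_normal_right' (o2_isPGroup _) ((hRK.trans hKN).trans hQn)
  -- `F` normalises `R O₂(N)`
  have hFR : F ≤ normalizer ((R ⊔ o2 N : Subgroup G) : Set G) := by
    rw [hF, closure_le]
    rintro v ⟨d, hd, hv⟩
    have hvN := h.WX d hd v hv
    refine mem_normalizer_of_map_le ?_
    rw [Subgroup.map_sup]
    refine sup_le ?_ ?_
    · rw [hR, MonoidHom.map_closure, closure_le]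
      rintro _ ⟨_, ⟨k, hk, c, hc, hac, w, hw, rfl⟩, rfl⟩
      change v * (k * w * k⁻¹ * w⁻¹) * v⁻¹ ∈ _
      by_cases had : Cn N a Wf a d
      · -- `v` commutes with `w` and `k w k⁻¹` modulo `O₂(N)`
        have hnd : ∀ c ∈ cls N a, ¬ Cn N a Wf a c → ¬ Adj Wf d c := fun c hc hac h1 =>
          hac (had.tail ⟨hd, hc, h1⟩)
        have h1 := comm_mem_o2 h hf hd hc (hnd c hc hac) hv hw
        have h2 := comm_mem_o2 h hf hd (cls_conj hc (hKN hk)) (hnd _ (cls_conj hc (hKN hk)) (hkc k hk c hc hac)) hv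
          (h.eqv k (hKN hk) c hc w hw)
        have hr : k * w * k⁻¹ * w⁻¹ ∈ R := subset_closure ⟨k, hk, c, hc, hac, w, hw, rfl⟩
        have h3 : k * w * k⁻¹ * w⁻¹ * (v * w * v⁻¹ * w⁻¹)⁻¹ * (k * w * k⁻¹ * w⁻¹)⁻¹ ∈ o2 N :=
          (mem_normalizer_iff.1 (hQn (hKN (hRK hr))) _).1 (inv_mem h1)
        have e : v * (k * w * k⁻¹ * w⁻¹) * v⁻¹ = (v * (k * w * k⁻¹) * v⁻¹ * (k * w * k⁻¹)⁻¹) *
            (k * w * k⁻¹ * w⁻¹ * (v * w * v⁻¹ * w⁻¹)⁻¹ * (k * w * k⁻¹ * w⁻¹)⁻¹) * (k * w * k⁻¹ * w⁻¹) := by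
          group
        rw [e]
        exact mul_mem (mul_mem (mem_sup_right h2) (mem_sup_right h3)) (mem_sup_left hr)
      · refine mem_sup_left (subset_closure ⟨v * k * v⁻¹, hK v hvN (hfix d hd had v hv) k hk, v * c * v⁻¹,
          cls_conj hc hvN, ?_, v * w * v⁻¹, h.eqv v hvN c hc w hw, by group⟩)
        intro h1
        have h2 := cn_conj h (inv_mem hvN) h1
        have e : v⁻¹ * (v * c * v⁻¹) * v⁻¹⁻¹ = c := by group
        have e2 : v⁻¹ * a * v⁻¹⁻¹ = a := inv_conj (hfix d hd had v hv)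
        rw [e, e2] at h2
        exact hac h2
    · rintro _ ⟨q, hq, rfl⟩
      exact mem_sup_right ((mem_normalizer_iff.1 (hQn hvN) q).1 hq)
  -- `R ≤ O₂(N)`
  have hRQ : R ≤ o2 N := by
    have h1 : R ⊔ o2 N ≤ o2 (F ⊔ o2 N) :=
      le_o2 (sup_le_sup_right hRF _) hRQ2 (sup_le hFR (le_sup_right.trans le_normalizer))
    have h2 : N ≤ normalizer ((F ⊔ o2 N : Subgroup G) : Set G) := by
      intro g hg
      refine mem_normalizer_of_map_le ?_
      rw [Subgroup.map_sup]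
      refine sup_le ?_ ?_
      · rw [hF, MonoidHom.map_closure, closure_le]
        rintro _ ⟨w, ⟨c, hc, hw⟩, rfl⟩
        exact mem_sup_left (subset_closure ⟨g * c * g⁻¹, cls_conj hc hg, h.eqv g hg c hc w hw⟩)
      · rintro _ ⟨q, hq, rfl⟩
        exact mem_sup_right ((mem_normalizer_iff.1 (hQn hg) q).1 hq)
    exact le_sup_left.trans (h1.trans (o2_le_o2_of_normal (sup_le hFN (o2_le N)) h2))
  -- the end
  obtain ⟨g, hg, hgc⟩ := id hc₀
  obtain ⟨w₀, hw₀, hw₀b⟩ := mov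
  have hw : g * w₀ * g⁻¹ ∈ Wf c₀ := by rw [hgc]; exact h.eqv g hg a a_cls w₀ hw₀
  set w := g * w₀ * g⁻¹ with hwdef
  set u := g * b * g⁻¹ with hudef
  have huA : u ∈ cls N a := cls_conj bA hg
  have huU := h.OmA _ huA
  have hwu : w * u ≠ u * w := by
    intro h0
    apply hw₀b
    calc w₀ * b = g⁻¹ * (w * u) * g := by rw [hwdef, hudef]; group
      _ = b * w₀ := by rw [h0, hwdef, hudef]; group
  have h1 := h.move hc₀ hw huU hwu
  have hr : k₀ * w * k₀⁻¹ * w⁻¹ ∈ R := subset_closure ⟨k₀, hk₀, c₀, hc₀, hac₀, w, hw, rfl⟩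
  have h2 := hQ _ (hRQ hr) _ (mul_mem huU (h.OmA _ hc₀))
  have h3 : k₀ * w * k₀⁻¹ * u * (k₀ * w * k₀⁻¹)⁻¹ = u * c₀ := by
    calc _ = (k₀ * w * k₀⁻¹ * w⁻¹) * (w * u * w⁻¹) * (k₀ * w * k₀⁻¹ * w⁻¹)⁻¹ := by group
      _ = u * c₀ := by rw [h1, h2, mul_inv_cancel_right]
  have hkc₀ := cls_conj hc₀ (hKN hk₀)
  rcases h.act _ hkc₀ _ (h.eqv k₀ (hKN hk₀) c₀ hc₀ w hw) u huU with h4 | h4
  · exfalso
    rw [h3, mul_eq_left] at h4
    rw [h4, mul_one] at h1
    exact hwu (Calc.conj_eq_iff.mp h1)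
  · rw [h3] at h4
    exact Calc.conj_eq_iff.mp (mul_left_cancel h4).symm

end

/-! ### The rank -/

section rank

variable {Γ : Type*} [Group Γ]

theorem zpowers_of_comm [Finite Γ] (hr : PRankLE 3 2 Γ) {x y z : Γ} (hx : x ^ 3 = 1) (hy : y ^ 3 = 1)
    (hz : z ^ 3 = 1) (hxy : x * y = y * x) (hxz : x * z = z * x) (hyz : y * z = z * y) (hz1 : z ≠ 1)
    {X : Subgroup Γ} (hyX : y ∈ X) (hzX : z ∈ X) (hxX : x ∉ X) : y ∈ zpowers z := by
  classical
  have h3 : Fact (Nat.Prime 3) := ⟨Nat.prime_three⟩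
  by_contra hno
  set A : Subgroup Γ := closure {x, y, z} with hA
  set B : Subgroup Γ := closure {y, z} with hB
  have hBX : B ≤ X := by
    rw [hB, closure_le]
    rintro _ (rfl | rfl)
    · exact hyX
    · exact hzX
  have hAc : IsMulCommutative A := by
    refine isMulCommutative_closure ?_
    rintro _ (rfl | rfl | rfl) _ (rfl | rfl | rfl)
    · rfl
    · exact hxy
    · exact hxz
    · exact hxy.symm
    · rfl
    · exact hyz
    · exact hxz.symm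
    · exact hyz.symm
    · rfl
  have hcomm : ∀ a ∈ A, ∀ b ∈ A, a * b = b * a := fun a ha b hb =>
    congrArg Subtype.val (hAc.is_comm.comm (⟨a, ha⟩ : A) ⟨b, hb⟩)
  have hexp : ∀ a ∈ A, a ^ 3 = 1 := by
    intro a ha
    induction ha using closure_induction with
    | mem a ha =>
      rcases ha with rfl | rfl | rfl
      · exact hx
      · exact hy
      · exact hz
    | one => exact one_pow 3
    | mul a b ha hb h1 h2 =>
      have h4 : Commute a b := hcomm a ha b hb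
      rw [h4.mul_pow, h1, h2, one_mul]
    | inv a _ h1 => rw [inv_pow, h1, inv_one]
  have hBA : B ≤ A := closure_mono (Set.subset_insert _ _)
  have h9 := hr A hAc hexp
  have hB3 : IsPGroup 3 B := fun b => ⟨1, Subtype.ext (by
    change (b : Γ) ^ (3 ^ 1) = 1
    rw [pow_one]; exact hexp b (hBA b.2))⟩
  have hzB : zpowers z ≤ B := by
    rw [zpowers_le]; exact subset_closure (Or.inr rfl)
  have hzlt : zpowers z < B := lt_of_le_of_ne hzB fun h => hno (h ▸ subset_closure (Or.inl rfl))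
  have hz3 : Nat.card (zpowers z) = 3 := by
    rw [Nat.card_zpowers]; exact orderOf_eq_prime hz hz1
  have hc3 : 3 < Nat.card B := by
    rw [← hz3]
    have h1 := Set.ncard_lt_ncard (SetLike.coe_ssubset_coe.2 hzlt) (Set.toFinite _)
    exact h1
  obtain ⟨k, hk⟩ := IsPGroup.iff_card.1 hB3
  have hBA' : B = A := by
    refine eq_of_le_of_card_ge hBA (h9.trans ?_)
    rw [hk] at hc3 ⊢
    have : 1 < k := by
      by_contra h
      have : k ≤ 1 := by omega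
      have := Nat.pow_le_pow_right (by norm_num : 0 < 3) this
      omega
    exact Nat.pow_le_pow_right (by norm_num) this
  exact hxX (hBX (hBA' ▸ subset_closure (Or.inl rfl)))

/-- Two subgroups of order 3 of `X` are conjugate in `X`. -/
theorem conj_of_rank' [Finite Γ] (hr : PRankLE 3 2 Γ) {X : Subgroup Γ} {x e y : Γ} (hx : x ^ 3 = 1)
    (hxX : x ∉ X) (hc : ∀ g ∈ X, x * g = g * x) (he : e ∈ X) (he3 : e ^ 3 = 1) (hy : y ∈ X)
    (hy3 : y ^ 3 = 1) (hy1 : y ≠ 1) : ∃ g ∈ X, g * e * g⁻¹ ∈ zpowers y := by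
  classical
  have h3 : Fact (Nat.Prime 3) := ⟨Nat.prime_three⟩
  -- a Sylow 3-subgroup containing `y`
  have hyp : IsPGroup 3 (zpowers (⟨y, hy⟩ : X)) := by
    rw [IsPGroup.iff_card, Nat.card_zpowers]
    have h4 : orderOf (⟨y, hy⟩ : X) ∣ 3 ^ 1 := orderOf_dvd_of_pow_eq_one (Subtype.ext (by rw [pow_one]; exact hy3))
    obtain ⟨k, -, hk⟩ := (Nat.dvd_prime_pow Nat.prime_three).1 h4
    exact ⟨k, hk⟩
  have hep : IsPGroup 3 (zpowers (⟨e, he⟩ : X)) := by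
    rw [IsPGroup.iff_card, Nat.card_zpowers]
    have h4 : orderOf (⟨e, he⟩ : X) ∣ 3 ^ 1 := orderOf_dvd_of_pow_eq_one (Subtype.ext (by rw [pow_one]; exact he3))
    obtain ⟨k, -, hk⟩ := (Nat.dvd_prime_pow Nat.prime_three).1 h4
    exact ⟨k, hk⟩
  obtain ⟨R, hR⟩ := hyp.exists_le_sylow
  obtain ⟨T, hT⟩ := hep.exists_le_sylow
  obtain ⟨g, hg⟩ := MulAction.exists_smul_eq X T R
  have hyR : (⟨y, hy⟩ : X) ∈ (R : Subgroup X) := hR (mem_zpowers _)
  have heR : g * ⟨e, he⟩ * g⁻¹ ∈ (R : Subgroup X) := by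
    rw [← hg]
    exact Subgroup.smul_mem_pointwise_smul _ (MulAut.conj g) (T : Subgroup X) (hT (mem_zpowers _))
  -- an element of order 3 in the centre of `R`
  have hRne : Nontrivial (R : Subgroup X) := by
    rw [Subgroup.nontrivial_iff_exists_ne_one]
    exact ⟨_, hyR, fun h => hy1 (congrArg Subtype.val h)⟩
  have hcen : Nontrivial (center (R : Subgroup X)) := R.isPGroup'.center_nontrivial
  have hc3 : IsPGroup 3 (center (R : Subgroup X)) := R.isPGroup'.to_subgroup _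
  obtain ⟨k, hk⟩ := IsPGroup.iff_card.1 hc3
  have hdvd : 3 ∣ Nat.card (center (R : Subgroup X)) := by
    rw [hk]
    have : k ≠ 0 := by
      rintro rfl
      rw [pow_zero] at hk
      have := Finite.one_lt_card (α := center (R : Subgroup X))
      omega
    exact dvd_pow_self 3 this
  obtain ⟨z, hz⟩ := exists_prime_orderOf_dvd_card' (G := center (R : Subgroup X)) 3 hdvd
  have hz3 : ((z : (R : Subgroup X)) : Γ) ^ 3 = 1 := by
    have := pow_orderOf_eq_one z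
    rw [hz] at this
    have := congrArg (fun w : center (R : Subgroup X) => (((w : (R : Subgroup X)) : X) : Γ)) this
    simpa using this
  have hz1 : ((z : (R : Subgroup X)) : Γ) ≠ 1 := by
    intro h
    have h4 : z = 1 := Subtype.ext (Subtype.ext (Subtype.ext h))
    rw [h4, orderOf_one] at hz
    norm_num at hz
  have hzX : ((z : (R : Subgroup X)) : Γ) ∈ X := ((z : (R : Subgroup X)) : X).2
  have hzc : ∀ r ∈ (R : Subgroup X), ((r : X) : Γ) * ((z : (R : Subgroup X)) : Γ) =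
      ((z : (R : Subgroup X)) : Γ) * ((r : X) : Γ) := by
    intro r hr
    have := mem_center_iff.1 z.2 ⟨r, hr⟩
    have := congrArg (fun w : (R : Subgroup X) => ((w : X) : Γ)) this
    simpa using this
  have key : ∀ r ∈ (R : Subgroup X), ((r : X) : Γ) ^ 3 = 1 → ((r : X) : Γ) ∈ zpowers ((z : (R : Subgroup X)) : Γ) :=
    fun r hrR hr3 => zpowers_of_comm hr hx hr3 hz3 (hc _ r.2) (hc _ hzX) (hzc r hrR) hz1 r.2 hzX hxX
  have h1 := key _ hyR hy3
  have h2 := key _ heR (by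
    change ((g : Γ) * e * (g : Γ)⁻¹) ^ 3 = 1
    rw [conj_pow, he3]; group)
  have h5 : zpowers y = zpowers ((z : (R : Subgroup X)) : Γ) := by
    refine eq_of_le_of_card_ge (by rw [zpowers_le]; exact h1) ?_
    rw [Nat.card_zpowers, Nat.card_zpowers, orderOf_eq_prime hz3 hz1, orderOf_eq_prime hy3 hy1]
  exact ⟨g, g.2, h5 ▸ h2⟩

/-- The same modulo a normal 2-subgroup. -/
theorem conj_of_rank [Finite G] (hr : PRankLE 3 2 G) {N Q X : Subgroup G}
    (hQn : N ≤ normalizer (Q : Set G)) (hQ2 : IsPGroup 2 Q) (hXN : X ≤ N) {x e y u : G} (hx : x ∈ N)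
    (hx3 : x ^ 3 ∈ Q) (hc : ∀ g ∈ X, x * g * x⁻¹ * g⁻¹ ∈ Q) (hQu : ∀ q ∈ Q, q * u = u * q)
    (hXu : ∀ g ∈ X, g * u = u * g) (hxu : x * u ≠ u * x) (he : e ∈ X) (he3 : e ^ 3 ∈ Q) (hy : y ∈ X)
    (hy3 : y ^ 3 ∈ Q) (hy1 : y ∉ Q) : ∃ g ∈ X, ∃ k ∈ zpowers y, g * e * g⁻¹ * k⁻¹ ∈ Q := by
  classical
  have h3 : Fact (Nat.Prime 3) := ⟨Nat.prime_three⟩
  have hN : (Q.subgroupOf N).Normal := normal_subgroupOf_of_le_normalizer hQn
  set π := QuotientGroup.mk' (Q.subgroupOf N) with hπ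
  have hcop : (Nat.card (Q.subgroupOf N)).Coprime 3 := by
    have h2 : IsPGroup 2 (Q.subgroupOf N) := hQ2.comap_of_injective _ N.subtype_injective
    obtain ⟨k, hk⟩ := IsPGroup.iff_card.1 h2
    rw [hk]
    exact Nat.Coprime.pow_left k (by norm_num)
  have hr' : PRankLE 3 2 (N ⧸ Q.subgroupOf N) :=
    Cfsg.Agent.Omega.Sec.Reduce.prankLE_quotient _ hcop (Cfsg.Agent.Omega.Sec.Reduce.prankLE_of_injective N.subtype N.subtype_injective hr)
  have hker : ∀ g : N, π g = 1 ↔ (g : G) ∈ Q := fun g => by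
    rw [hπ, QuotientGroup.mk'_apply, QuotientGroup.eq_one_iff, mem_subgroupOf]
  set X' : Subgroup (N ⧸ Q.subgroupOf N) := (X.subgroupOf N).map π with hX'
  have hmem : ∀ g : N, (g : G) ∈ X → π g ∈ X' := fun g hg => ⟨g, hg, rfl⟩
  obtain ⟨g', hg', hk⟩ := conj_of_rank' hr' (X := X') (x := π ⟨x, hx⟩) (e := π ⟨e, hXN he⟩)
    (y := π ⟨y, hXN hy⟩) (by rw [← map_pow, hker]; exact hx3) (by
      rintro ⟨g, hg, hgx⟩
      have h1 : π (g⁻¹ * ⟨x, hx⟩) = 1 := by rw [map_mul, map_inv, hgx, inv_mul_cancel]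
      rw [hker] at h1
      change (g : G)⁻¹ * x ∈ Q at h1
      have h2 := hQu _ h1
      have h3 := hXu g hg
      apply hxu
      calc x * u = g * ((g : G)⁻¹ * x * u) := by group
        _ = (g * u) * ((g : G)⁻¹ * x) := by rw [h2]; group
        _ = u * x := by rw [h3]; group) (by
      rintro _ ⟨g, hg, rfl⟩
      have h1 : π (⟨x, hx⟩ * g * (⟨x, hx⟩)⁻¹ * g⁻¹) = 1 := (hker _).2 (hc g hg)
      rw [map_mul, map_mul, map_mul, map_inv, map_inv, mul_inv_eq_one, mul_inv_eq_iff_eq_mul] at h1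
      exact h1) (hmem _ he) (by rw [← map_pow, hker]; exact he3) (hmem _ hy)
      (by rw [← map_pow, hker]; exact hy3) (by rw [Ne, hker]; exact hy1)
  obtain ⟨g, hg, rfl⟩ := hg'
  obtain ⟨i, hi⟩ := hk
  refine ⟨g, hg, y ^ i, ⟨i, rfl⟩, ?_⟩
  have h1 : π (g * ⟨e, hXN he⟩ * g⁻¹ * ((⟨y, hXN hy⟩ : N) ^ i)⁻¹) = 1 := by
    rw [map_mul, map_mul, map_mul, map_inv, map_inv, map_zpow, mul_inv_eq_one]
    exact hi.symm
  rw [hker] at h1
  exact h1

/-! ### Elements of order 3 -/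

/-- `(k₁ k₂)³ ∈ R` -/
theorem cube_mem {R : Subgroup G} {k₁ k₂ : G} (h₁ : k₁ ∈ normalizer (R : Set G))
    (h₂ : k₂ ∈ normalizer (R : Set G)) (s₁ : k₁ * k₁ ∈ R) (s₂ : k₂ * k₂ ∈ R)
    (h : k₁ * k₂ * k₁⁻¹ * (k₂ * k₁ * k₂⁻¹) ∈ R) : (k₁ * k₂) ^ 3 ∈ R := by
  have h3 : k₂ * k₁ * k₂⁻¹ ∈ normalizer (R : Set G) := mul_mem (mul_mem h₂ h₁) (inv_mem h₂)
  have h4 := (mem_normalizer_iff.1 (inv_mem h3) _).1 s₁
  have e : (k₁ * k₂) ^ 3 = k₁ * k₂ * k₁⁻¹ * (k₂ * k₁ * k₂⁻¹) *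
      ((k₂ * k₁ * k₂⁻¹)⁻¹ * (k₁ * k₁) * (k₂ * k₁ * k₂⁻¹)⁻¹⁻¹) * (k₂ * k₂) := by
    rw [pow_succ, pow_two]; group
  rw [e]
  exact mul_mem (mul_mem h h4) s₂

/-- a power of order 3 -/
theorem exists_pow_two {R : Subgroup G} (hR : IsPGroup 2 R) {y : G} (hy : y ^ 3 ∈ R) :
    ∃ j : ℕ, (y ^ 2 ^ j) ^ 3 = 1 := by
  obtain ⟨j, hj⟩ := hR ⟨_, hy⟩
  have h1 : (y ^ 3) ^ 2 ^ j = 1 := congrArg Subtype.val hj
  exact ⟨j, by rw [← pow_mul, mul_comm, pow_mul]; exact h1⟩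

end rank

end Cfsg.Agent.Omega.IId.LFour.CAbs
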