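import Cfsg.Agent.Mrg.Omega.IId.LFour.LemX
import Cfsg.Agent.Mrg.Omega.IId.LFour.Quarter
import Cfsg.Agent.Mrg.Omega.IId.SideOf


/-!
# The crux of II.d L4 (project OMEGA, `S₅ wr 2`, one-factor `T`-pair): the facts at all duads; `A = ⟨V₁^{C(V₂)}⟩`

`w : Wr S P M₁ M₂`.

* `du i j` : the duad `{i, j}`; `DF M V'` : QUARTER LEMMA, `V ≤ Q_p`, `Q_p` acts as `⟨(i j)⟩`, `K_p` does not act
  trivially, for every duad `p` of `V`; `df₁` : from `Wr` and `K_n ≰ C(V₁)`; `df₂`;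
* `ncl H X` : `⟨X^H⟩`;
* `AA` : `A = ⟨V₁^{C(V₂)}⟩`, `A ≤ O₂(C_G(v))` for `1 ≠ v ∈ V₂`, `A` elementary abelian;
* `fixA` : `C_A(⟨K_p⟩) = 1`.
-/

set_option autoImplicit false
set_option linter.unusedSectionVars false

namespace Cfsg.Agent.Omega.IId.LFour.Crux

open Subgroup Pointwise Cfsg Cfsg.Agent.ZN Cfsg.Agent.Omega.MinPar Cfsg.Agent.Omega.FFThm
open Cfsg.Agent.Omega.S5.Mod Cfsg.Agent.Omega.S5.TT
open Cfsg.Agent.Omega.S5.TT.Pos (na ns as sn n_ne s_ne a_ne n_ne_a n_ne_s a_ne_s e_sq' mem_C)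
open Cfsg.Agent.Omega.Half (Amb amb_of_loc)
open Cfsg.Agent.Omega.S5.NatBig (odd_comm no_comm exists_inv)
open Cfsg.Agent.MinSimple.VModule (mem_zc zc_le zc_comm zc_sq zc_le_zl le_normalizer_o2 o2_isPGroup o2_le le_o2
  normalizer_le_normalizer_zc le_normalizer_zl)
open Cfsg.Agent.Omega.IId.One (Kk mem_Kk conj_Kk Kk_conj le_normalizer_Kk cz mem_cz Kk_le)
open Cfsg.Agent.Omega.IId.Two (le_normalizer_of)

universe u

variable {G : Type u} [Group G]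

/-! ### Duads -/

/-- the duad `{i, j}` -/
def du (i j : Fin 5) : Vec := Pi.single i 1 + Pi.single j 1

theorem du_comm (i j : Fin 5) : du i j = du j i := add_comm _ _

theorem nn_comp : ∀ p : Equiv.Perm (Fin 5), nn ∘ p.symm = du (p 0) (p 1) := by
  decide +kernel

theorem exists_perm : ∀ i j : Fin 5, i ≠ j → ∃ p : Equiv.Perm (Fin 5), p 0 = i ∧ p 1 = j := by
  decide +kernel

theorem du_comp (p : Equiv.Perm (Fin 5)) (i j : Fin 5) : du i j ∘ p.symm = du (p i) (p j) := by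
  have h1 : du i j ∘ p.symm = (Pi.single i 1 : Vec) ∘ p.symm + (Pi.single j 1 : Vec) ∘ p.symm := rfl
  rw [h1, FiveMod.single_comp, FiveMod.single_comp]
  rfl

theorem swap_cases : ∀ (i j : Fin 5) (y : Vec),
    (y i = y j ∧ y ∘ (Equiv.swap i j).symm = y) ∨
      (y i ≠ y j ∧ y ∘ (Equiv.swap i j).symm = du i j + y) := by
  decide +kernel

/-- `(i j)` fixes `M.e y` -/
theorem swap_fix {V L : Subgroup G} {M : FiveMod V L} {g : G} {i j : Fin 5} (h : M.Ind g (Equiv.swap i j))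
    {y : Vec} (hy : y i = y j) : g * M.e y * g⁻¹ = M.e y := by
  rw [h]
  rcases swap_cases i j y with ⟨-, h1⟩ | ⟨h1, -⟩
  · rw [h1]
  · exact absurd hy h1

/-- `(i j)` moves `M.e y` -/
theorem swap_mov {V L : Subgroup G} {M : FiveMod V L} {g : G} {i j : Fin 5} (h : M.Ind g (Equiv.swap i j))
    {y : Vec} (hy : y i ≠ y j) : g * M.e y * g⁻¹ = M.e (du i j) * M.e y := by
  rw [h]
  rcases swap_cases i j y with ⟨h1, -⟩ | ⟨-, h1⟩
  · exact absurd h1 hy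
  · rw [h1, M.e_add]

theorem du_ne {V L : Subgroup G} (M : FiveMod V L) {i j : Fin 5} (hij : i ≠ j) : M.e (du i j) ≠ 1 := by
  rw [Ne, M.ker]
  revert hij; revert i j
  have key : ∀ i j : Fin 5, i ≠ j → ¬ (du i j = 0 ∨ du i j = 1) := by decide +kernel
  exact fun {i j} h => key i j h

/-! ### The facts at all duads of `V` -/

/-- The facts at all duads of `V`; `V'` is the other summand. -/
structure DF {V L : Subgroup G} (M : FiveMod V L) (V' : Subgroup G) : Prop where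
  q : ∀ i j, i ≠ j → V' ≤ o2 (centralizer ({M.e (du i j)} : Set G))
  qc : ∀ i j, i ≠ j → o2 (centralizer ({M.e (du i j)} : Set G)) ≤ centralizer (V' : Set G)
  s : ∀ i j, i ≠ j → V ≤ o2 (centralizer ({M.e (du i j)} : Set G))
  ind : ∀ i j, i ≠ j → ∀ g ∈ o2 (centralizer ({M.e (du i j)} : Set G)),
    M.Ind g 1 ∨ M.Ind g (Equiv.swap i j)
  kq : ∀ i j, i ≠ j → Kk (M.e (du i j)) ≤ o2 (centralizer ({M.e (du i j)} : Set G))
  k : ∀ i j, i ≠ j → ∃ g ∈ Kk (M.e (du i j)), M.Ind g (Equiv.swap i j)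

section wr

variable {S : Sylow 2 G} {P V₁ V₂ L₁ L₂ : Subgroup G} {M₁ : FiveMod V₁ L₁} {M₂ : FiveMod V₂ L₂}
variable [Finite G] (wr : Wr S P M₁ M₂)
include wr

theorem df₁ (hk : ∃ g ∈ Kk (M₁.e nn), M₁.Ind g (Equiv.swap 0 1)) : DF M₁ V₂ := by
  have hnd : M₁.e nn = M₁.e (du 0 1) := congrArg _ (nn_comp 1)
  have key : ∀ i j, i ≠ j → ∃ (p : Equiv.Perm (Fin 5)) (l : G), l ∈ L₁ ∧ M₁.Ind l p ∧ p 0 = i ∧ p 1 = j ∧
      l * M₁.e nn * l⁻¹ = M₁.e (du i j) := by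
    intro i j hij
    obtain ⟨p, h0, h1⟩ := exists_perm i j hij
    obtain ⟨l, hl, hi⟩ := M₁.exists_lift p
    have hi : M₁.Ind l p := hi
    exact ⟨p, l, hl, hi, h0, h1, by rw [hi, nn_comp, h0, h1]⟩
  have hsw : ∀ p : Equiv.Perm (Fin 5), p * Equiv.swap 0 1 * p⁻¹ = Equiv.swap (p 0) (p 1) := fun p =>
    (Equiv.swap_apply_apply p 0 1).symm
  have hpull : ∀ {i j : Fin 5} {l x : G}, l * M₁.e nn * l⁻¹ = M₁.e (du i j) →
      x ∈ o2 (centralizer ({M₁.e (du i j)} : Set G)) →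
      ∃ y ∈ o2 (centralizer ({M₁.e nn} : Set G)), x = l * y * l⁻¹ := by
    intro i j l x hl hx
    rw [← hl, Triangle.o2_cent_conj] at hx
    obtain ⟨y, hy, rfl⟩ := hx
    exact ⟨y, hy, rfl⟩
  have hpush : ∀ {i j : Fin 5} {l x : G}, l * M₁.e nn * l⁻¹ = M₁.e (du i j) →
      x ∈ o2 (centralizer ({M₁.e nn} : Set G)) → l * x * l⁻¹ ∈ o2 (centralizer ({M₁.e (du i j)} : Set G)) := by
    intro i j l x hl hx
    rw [← hl, Triangle.o2_cent_conj]
    exact ⟨x, hx, rfl⟩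
  have hn2 : ∀ i j, i ≠ j → M₁.e (du i j) ^ 2 = 1 := fun i j _ => e_sq' M₁ _
  refine ⟨?_, ?_, ?_, ?_, ?_, ?_⟩
  · intro i j hij v hv
    obtain ⟨p, l, hl, hi, h0, h1, h2⟩ := key i j hij
    have h3 := hpush h2 (wr.quarter hv)
    rwa [wr.L₁_comm hl hv, mul_inv_cancel_right] at h3
  · intro i j hij x hx
    obtain ⟨p, l, hl, hi, h0, h1, h2⟩ := key i j hij
    obtain ⟨y, hy, rfl⟩ := hpull h2 hx
    refine mem_centralizer_iff.2 fun v hv => ?_
    have h3 := mem_centralizer_iff.1 (wr.quarter_cent hy) v hv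
    have h4 := wr.L₁_comm hl hv
    have h5 : l⁻¹ * v = v * l⁻¹ := by rw [inv_mul_eq_iff_eq_mul, ← mul_assoc, h4, mul_inv_cancel_right]
    calc v * (l * y * l⁻¹) = (v * l) * y * l⁻¹ := by group
      _ = l * (v * y) * l⁻¹ := by rw [← h4]; group
      _ = l * y * (v * l⁻¹) := by rw [h3]; group
      _ = l * y * l⁻¹ * v := by rw [← h5]; group
  · intro i j hij v hv
    obtain ⟨p, l, hl, hi, h0, h1, h2⟩ := key i j hij
    have h3 : l⁻¹ * v * l ∈ V₁ := by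
      have := (mem_normalizer_iff.1 (inv_mem hi.mem_normalizer) v).1 hv
      rwa [inv_inv] at this
    have h4 := hpush h2 (wr.V₁_le_o2 h3)
    have e : l * (l⁻¹ * v * l) * l⁻¹ = v := by group
    rwa [e] at h4
  · intro i j hij x hx
    obtain ⟨p, l, hl, hi, h0, h1, h2⟩ := key i j hij
    obtain ⟨y, hy, rfl⟩ := hpull h2 hx
    rcases wr.Q_ind hy with h3 | h3
    · left
      have := (hi.mul h3).mul hi.inv
      rwa [mul_one, mul_inv_cancel] at this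
    · right
      have := (hi.mul h3).mul hi.inv
      rwa [hsw, h0, h1] at this
  · intro i j hij
    exact Kk_le_o2 wr.hG (e_sq' M₁ _) (du_ne M₁ hij)
  · intro i j hij
    obtain ⟨p, l, hl, hi, h0, h1, h2⟩ := key i j hij
    obtain ⟨g, hg, hgi⟩ := hk
    refine ⟨l * g * l⁻¹, conj_Kk h2 hg, ?_⟩
    have := (hi.mul hgi).mul hi.inv
    rwa [hsw, h0, h1] at this

/-- the hypothesis for the other summand -/
theorem hk_symm (hk : ∃ g ∈ Kk (M₁.e nn), M₁.Ind g (Equiv.swap 0 1)) :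
    ∃ g ∈ Kk (M₂.e nn), M₂.Ind g (Equiv.swap 0 1) := by
  obtain ⟨s, hs, p, q, hsw, -⟩ := wr.swap
  obtain ⟨l, hl, hi⟩ := M₂.exists_lift p⁻¹
  have h1 : ∀ x, (l * s) * M₁.e x * (l * s)⁻¹ = M₂.e x := by
    intro x
    calc (l * s) * M₁.e x * (l * s)⁻¹ = l * (s * M₁.e x * s⁻¹) * l⁻¹ := by group
      _ = l * M₂.e (x ∘ p.symm) * l⁻¹ := by rw [hsw]
      _ = M₂.e ((x ∘ p.symm) ∘ (p⁻¹ : Equiv.Perm (Fin 5)).symm) := hi _
      _ = M₂.e x := by
        congr 1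
        funext i
        change x (p.symm ((p⁻¹).symm i)) = x i
        rw [show (p⁻¹).symm i = p i from rfl, Equiv.symm_apply_apply]
  obtain ⟨g, hg, hgi⟩ := hk
  refine ⟨(l * s) * g * (l * s)⁻¹, conj_Kk (h1 nn) hg, fun x => ?_⟩
  calc (l * s) * g * (l * s)⁻¹ * M₂.e x * ((l * s) * g * (l * s)⁻¹)⁻¹
      = (l * s) * (g * ((l * s)⁻¹ * M₂.e x * (l * s)) * g⁻¹) * (l * s)⁻¹ := by group
    _ = (l * s) * (g * M₁.e x * g⁻¹) * (l * s)⁻¹ := by
      rw [← h1 x]; group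
    _ = M₂.e (x ∘ (Equiv.swap 0 1 : Equiv.Perm (Fin 5)).symm) := by rw [hgi, h1]

theorem df₂ (hk : ∃ g ∈ Kk (M₁.e nn), M₁.Ind g (Equiv.swap 0 1)) : DF M₂ V₁ :=
  df₁ wr.symm (hk_symm wr hk)

end wr

/-! ### Normal closures -/

/-- `⟨X^H⟩` -/
def ncl (H X : Subgroup G) : Subgroup G := closure {y | ∃ h ∈ H, ∃ x ∈ X, y = h * x * h⁻¹}

theorem conj_mem_ncl {H X : Subgroup G} {h x : G} (hh : h ∈ H) (hx : x ∈ X) : h * x * h⁻¹ ∈ ncl H X :=
  subset_closure ⟨h, hh, x, hx, rfl⟩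

theorem le_ncl (H X : Subgroup G) : X ≤ ncl H X := fun x hx => by
  have := conj_mem_ncl (one_mem H) hx
  simpa using this

theorem ncl_le {H X B : Subgroup G} (hX : X ≤ B) (hB : H ≤ normalizer (B : Set G)) : ncl H X ≤ B := by
  rw [ncl, closure_le]
  rintro _ ⟨h, hh, x, hx, rfl⟩
  exact (mem_normalizer_iff.1 (hB hh) x).1 (hX hx)

/-- an element which normalises `H` and `X` normalises `⟨X^H⟩` -/
theorem norm_ncl {H X T : Subgroup G} (hH : T ≤ normalizer (H : Set G)) (hX : T ≤ normalizer (X : Set G)) :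
    T ≤ normalizer (ncl H X : Set G) := by
  apply le_normalizer_of
  intro t ht y hy
  rw [ncl] at hy
  induction hy using closure_induction with
  | mem y hy =>
    obtain ⟨h, hh, x, hx, rfl⟩ := hy
    have e : t * (h * x * h⁻¹) * t⁻¹ = (t * h * t⁻¹) * (t * x * t⁻¹) * (t * h * t⁻¹)⁻¹ := by group
    rw [e]
    exact conj_mem_ncl ((mem_normalizer_iff.1 (hH ht) h).1 hh) ((mem_normalizer_iff.1 (hX ht) x).1 hx)
  | one =>
    have e : t * 1 * t⁻¹ = 1 := by group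
    rw [e]; exact one_mem _
  | mul y z _ _ h1 h2 =>
    have e : t * (y * z) * t⁻¹ = (t * y * t⁻¹) * (t * z * t⁻¹) := by group
    rw [e]; exact mul_mem h1 h2
  | inv y _ h1 =>
    have e : t * y⁻¹ * t⁻¹ = (t * y * t⁻¹)⁻¹ := by group
    rw [e]; exact inv_mem h1

theorem le_normalizer_ncl (H X : Subgroup G) : H ≤ normalizer (ncl H X : Set G) := by
  apply le_normalizer_of
  intro t ht y hy
  rw [ncl] at hy
  induction hy using closure_induction with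
  | mem y hy =>
    obtain ⟨h, hh, x, hx, rfl⟩ := hy
    have e : t * (h * x * h⁻¹) * t⁻¹ = (t * h) * x * (t * h)⁻¹ := by group
    rw [e]
    exact conj_mem_ncl (mul_mem ht hh) hx
  | one =>
    have e : t * 1 * t⁻¹ = 1 := by group
    rw [e]; exact one_mem _
  | mul y z _ _ h1 h2 =>
    have e : t * (y * z) * t⁻¹ = (t * y * t⁻¹) * (t * z * t⁻¹) := by group
    rw [e]; exact mul_mem h1 h2
  | inv y _ h1 =>
    have e : t * y⁻¹ * t⁻¹ = (t * y * t⁻¹)⁻¹ := by group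
    rw [e]; exact inv_mem h1

/-! ### `A = ⟨V₁^{C(V₂)}⟩` -/

section A

variable {S : Sylow 2 G} {P V₁ V₂ L₁ L₂ : Subgroup G} {M₁ : FiveMod V₁ L₁} {M₂ : FiveMod V₂ L₂}

/-- `A = ⟨V₁^{C(V₂)}⟩` -/
abbrev AA (V₁ V₂ : Subgroup G) : Subgroup G := ncl (centralizer (V₂ : Set G)) V₁

variable [Finite G] (wr : Wr S P M₁ M₂)

include wr in
/-- `A ≤ O₂(C_G(v))` for `1 ≠ v ∈ V₂` -/
theorem A_le_o2 {v : G} (hv : v ∈ V₂) (hv1 : v ≠ 1) : AA V₁ V₂ ≤ o2 (centralizer ({v} : Set G)) := by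
  refine ncl_le (wr.le_o2_cent hv hv1) ?_
  refine le_trans ?_ (MinSimple.VModule.le_normalizer_o2 _)
  intro c hc
  exact mem_C.2 (mem_centralizer_iff.1 hc v hv).symm

/-- `A` centralises `O₂(C_G(r))`, `r` a duad of `V₂` -/
theorem A_le_cent (D₂ : DF M₂ V₁) {i j : Fin 5} (hij : i ≠ j) :
    AA V₁ V₂ ≤ centralizer (o2 (centralizer ({M₂.e (du i j)} : Set G)) : Set G) := by
  refine ncl_le ?_ ?_
  · intro v hv
    refine mem_centralizer_iff.2 fun x hx => ?_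
    exact (mem_centralizer_iff.1 (D₂.qc i j hij hx) v hv).symm
  · intro c hc
    have h1 : c ∈ centralizer ({M₂.e (du i j)} : Set G) :=
      mem_C.2 (mem_centralizer_iff.1 hc _ (M₂.e_mem _)).symm
    have h2 := MinSimple.VModule.le_normalizer_o2 _ h1
    rw [mem_normalizer_iff]
    intro y
    have key : ∀ {c y : G}, c ∈ normalizer (o2 (centralizer ({M₂.e (du i j)} : Set G)) : Set G) →
        y ∈ centralizer (o2 (centralizer ({M₂.e (du i j)} : Set G)) : Set G) →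
        c * y * c⁻¹ ∈ centralizer (o2 (centralizer ({M₂.e (du i j)} : Set G)) : Set G) := by
      intro c y hc hy
      refine mem_centralizer_iff.2 fun x hx => ?_
      have h3 : c⁻¹ * x * c ∈ o2 (centralizer ({M₂.e (du i j)} : Set G)) := by
        have := (mem_normalizer_iff.1 (inv_mem hc) x).1 hx
        rwa [inv_inv] at this
      have h4 := mem_centralizer_iff.1 hy _ h3
      calc x * (c * y * c⁻¹) = c * ((c⁻¹ * x * c) * y) * c⁻¹ := by group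
        _ = c * (y * (c⁻¹ * x * c)) * c⁻¹ := by rw [h4]
        _ = c * y * c⁻¹ * x := by group
    refine ⟨key h2, fun hy => ?_⟩
    have h3 := key (inv_mem h2) hy
    have e : c⁻¹ * (c * y * c⁻¹) * c⁻¹⁻¹ = y := by group
    rwa [e] at h3

theorem V₁_le_A : V₁ ≤ AA V₁ V₂ := le_ncl _ _

include wr in
theorem A_comm (D₂ : DF M₂ V₁) {x y : G} (hx : x ∈ AA V₁ V₂) (hy : y ∈ AA V₁ V₂) : x * y = y * x := by
  have h01 : (0 : Fin 5) ≠ 1 := by decide
  have h1 := A_le_o2 wr (M₂.e_mem (du 0 1)) (du_ne M₂ h01) hx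
  exact mem_centralizer_iff.1 (A_le_cent D₂ h01 hy) x h1

include wr in
theorem A_sq (D₂ : DF M₂ V₁) {x : G} (hx : x ∈ AA V₁ V₂) : x * x = 1 := by
  have hx0 := hx
  rw [AA, ncl] at hx
  induction hx using closure_induction with
  | mem y hy =>
    obtain ⟨h, hh, x, hx, rfl⟩ := hy
    calc h * x * h⁻¹ * (h * x * h⁻¹) = h * (x * x) * h⁻¹ := by group
      _ = 1 := by rw [M₁.sq hx]; group
  | one => rw [mul_one]
  | mul y z hy hz h1 h2 =>
    have h3 := A_comm wr D₂ (x := y) (y := z) hy hz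
    calc y * z * (y * z) = y * (z * y) * z := by group
      _ = (y * y) * (z * z) := by rw [← h3]; group
      _ = 1 := by rw [h1 hy, h2 hz, one_mul]
  | inv y hy h1 =>
    rw [← mul_inv_rev, h1 hy, inv_one]

include wr in
theorem A_isPGroup : IsPGroup 2 (AA V₁ V₂) :=
  (o2_isPGroup _).to_le (A_le_o2 wr (M₂.e_mem (du 0 1)) (du_ne M₂ (by decide)))

include wr in
/-- `A` centralises `V₁` -/
theorem A_cent₁ (D₂ : DF M₂ V₁) : AA V₁ V₂ ≤ centralizer (V₁ : Set G) := fun _ hx =>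
  mem_centralizer_iff.2 fun _ hv => A_comm wr D₂ (V₁_le_A hv) hx

/-- `A` centralises `V₂` -/
theorem A_cent₂ (D₂ : DF M₂ V₁) : AA V₁ V₂ ≤ centralizer (V₂ : Set G) := fun _ hx =>
  mem_centralizer_iff.2 fun v hv => mem_centralizer_iff.1 (A_le_cent D₂ (i := 0) (j := 1) (by decide) hx) v
    (D₂.s 0 1 (by decide) hv)

include wr in
/-- `S₁ = N_S(V₁)` normalises `A` -/
theorem S₁_norm_A : (S : Subgroup G) ⊓ normalizer (V₁ : Set G) ≤ normalizer (AA V₁ V₂ : Set G) := by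
  refine norm_ncl ?_ inf_le_right
  intro s hs
  have h1 : s ∈ normalizer (V₂ : Set G) := by
    have h2 : s ∈ (S : Subgroup G) ⊓ normalizer (V₂ : Set G) := by rw [← wr.S₁_eq]; exact hs
    exact h2.2
  have key : ∀ {g c : G}, g ∈ normalizer (V₂ : Set G) → c ∈ centralizer (V₂ : Set G) →
      g * c * g⁻¹ ∈ centralizer (V₂ : Set G) := by
    intro g c hg hc
    refine mem_centralizer_iff.2 fun x hx => ?_
    have h3 : g⁻¹ * x * g ∈ V₂ := by
      have := (mem_normalizer_iff.1 (inv_mem hg) x).1 hx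
      rwa [inv_inv] at this
    have h4 := mem_centralizer_iff.1 hc _ h3
    calc x * (g * c * g⁻¹) = g * ((g⁻¹ * x * g) * c) * g⁻¹ := by group
      _ = g * (c * (g⁻¹ * x * g)) * g⁻¹ := by rw [h4]
      _ = g * c * g⁻¹ * x := by group
  rw [mem_normalizer_iff]
  intro c
  refine ⟨key h1, fun hc => ?_⟩
  have h3 := key (inv_mem h1) hc
  have e : s⁻¹ * (s * c * s⁻¹) * s⁻¹⁻¹ = c := by group
  rwa [e] at h3

/-- `A` commutes with `M₂.e y` only if ... : `M₂.e ss ∉ A` -/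
theorem ss_not_mem_A (D₂ : DF M₂ V₁) : M₂.e ss ∉ AA V₁ V₂ := by
  intro h
  have h04 : (0 : Fin 5) ≠ 4 := by decide
  obtain ⟨k, hk, hi⟩ := D₂.k 0 4 h04
  have h1 := mem_centralizer_iff.1 (A_le_cent D₂ h04 h) k (D₂.kq 0 4 h04 hk)
  have h2 := swap_mov hi (y := ss) (by decide)
  rw [h1, mul_inv_cancel_right] at h2
  exact du_ne M₂ h04 (mul_eq_right.1 h2.symm)

include wr in
/-- **`C_A(⟨K_p⟩) = 1`** -/
theorem fixA (D₁ : DF M₁ V₂) (D₂ : DF M₂ V₁) {x : G} (hx : x ∈ AA V₁ V₂)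
    (hc : ∀ i j, i ≠ j → ∀ k ∈ Kk (M₁.e (du i j)), k * x = x * k) : x = 1 := by
  by_contra hx1
  set Z : Subgroup G := AA V₁ V₂ ⊓ ⨅ i, ⨅ j, ⨅ (_ : i ≠ j), centralizer (Kk (M₁.e (du i j)) : Set G) with hZ
  have mZ : ∀ {y : G}, y ∈ Z ↔ y ∈ AA V₁ V₂ ∧ ∀ i j, i ≠ j → ∀ k ∈ Kk (M₁.e (du i j)), k * y = y * k := by
    intro y
    simp only [hZ, mem_inf, mem_iInf, mem_centralizer_iff, SetLike.mem_coe]
  have hZx : x ∈ Z := mZ.2 ⟨hx, hc⟩
  have hZ2 : IsPGroup 2 Z := (A_isPGroup wr).to_le inf_le_left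
  have hZ1 : Z ≠ ⊥ := by
    intro h
    rw [h, mem_bot] at hZx
    exact hx1 hZx
  have hn : (S : Subgroup G) ⊓ normalizer (V₁ : Set G) ≤ normalizer (Z : Set G) := by
    apply le_normalizer_of
    intro s hs y hy
    obtain ⟨hyA, hyK⟩ := mZ.1 hy
    refine mZ.2 ⟨(mem_normalizer_iff.1 (S₁_norm_A wr hs) y).1 hyA, fun i j hij k hk => ?_⟩
    obtain ⟨p, q, hp, -⟩ := wr.S₁_ind hs
    have h1 : s⁻¹ * M₁.e (du i j) * s⁻¹⁻¹ = M₁.e (du (p⁻¹ i) (p⁻¹ j)) := by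
      rw [hp.inv, du_comp]
    have h2 := conj_Kk h1 hk
    rw [inv_inv] at h2
    have h3 := hyK _ _ (fun h => hij (p⁻¹.injective h)) _ h2
    calc k * (s * y * s⁻¹) = s * ((s⁻¹ * k * s) * y) * s⁻¹ := by group
      _ = s * (y * (s⁻¹ * k * s)) * s⁻¹ := by rw [h3]
      _ = s * y * s⁻¹ * k := by group
  obtain ⟨v, hv, hv1, hvt⟩ := Half.exists_fixed hZ2 hZ1 (S.isPGroup'.to_le inf_le_left) hn
  have hvt' : ∀ t ∈ (S : Subgroup G) ⊓ normalizer (V₁ : Set G), t * v = v * t := fun t ht =>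
    mul_inv_eq_iff_eq_mul.1 (hvt t ht)
  obtain ⟨hvA, hvK⟩ := mZ.1 hv
  have hvS : v ∈ (S : Subgroup G) ⊓ normalizer (V₁ : Set G) :=
    wr.o2P_le_S₁ (centralizer_o2_le wr.hG S wr.star.isLoc
      (mem_centralizer_iff.2 fun x hx => hvt' x (wr.o2P_le_S₁ hx)))
  have hvz : v ∈ zc ((S : Subgroup G) ⊓ normalizer (V₁ : Set G)) :=
    MinSimple.VModule.mem_zc.2 ⟨hvS, hvt', by rw [pow_two]; exact A_sq wr D₂ hvA⟩
  have h1A : M₁.e ss ∈ AA V₁ V₂ := V₁_le_A (M₁.e_mem _)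
  rcases wr.zS₁_le hvz with h | h | h | h
  · exact hv1 h
  · have h04 : (0 : Fin 5) ≠ 4 := by decide
    obtain ⟨k, hk, hi⟩ := D₁.k 0 4 h04
    have h1 := hvK 0 4 h04 k hk
    have h2 := swap_mov hi (y := ss) (by decide)
    rw [h] at h1
    rw [h1, mul_inv_cancel_right] at h2
    exact du_ne M₁ h04 (mul_eq_right.1 h2.symm)
  · exact ss_not_mem_A D₂ (h ▸ hvA)
  · refine ss_not_mem_A (M₂ := M₂) D₂ ?_
    have h2 := mul_mem h1A hvA
    rwa [h, ← mul_assoc, M₁.e_sq, one_mul] at h2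

end A

end Cfsg.Agent.Omega.IId.LFour.Crux
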