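import Cfsg.Agent.Mrg.Omega.IId.LFour.CBase
import Cfsg.Agent.Mrg.Omega.IId.LFour.TriP
import Cfsg.Agent.Mrg.Omega.BTwo.Split
import Cfsg.Agent.Mrg.Omega.IId.LFour.Crux
import Cfsg.Agent.Mrg.Omega.HOneTwo.Basic

section


/-!
# (C) of #14703 (II.d L4, `S₅ wr 2`), final form (helper430)

* `Wr.ch` : the hypotheses `CH` from `U_n ≤ O₂(C(a))` and one non-commuting pair `V₁`, `V₁ ^ s`, `s ∈ C(n)`
  (no triangle: `Wr.no_tri`);
* `Wr.comm_of_UU_le` : `m_3(G) ≤ 2`, `U_n ≤ O₂(C(a))`: `V₁` commutes with `V₁ ^ s` for every `s ∈ C(n)`.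
-/

set_option autoImplicit false
set_option linter.unusedSectionVars false

namespace Cfsg.Agent.Omega.IId.LFour

open Subgroup Pointwise Cfsg Cfsg.Agent.ZN Cfsg.Agent.Omega.MinPar
open Cfsg.Agent.Omega.S5.Mod Cfsg.Agent.Omega.S5.TT
open Cfsg.Agent.Omega.IId.One (Kk mem_Kk Kk_conj conj_Kk)
open Cfsg.Agent.Omega.TTn (UU Q)

universe u

variable {G : Type u} [Group G] [Finite G] {S : Sylow 2 G} {P V₁ V₂ L₁ L₂ : Subgroup G} {M₁ : FiveMod V₁ L₁}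
  {M₂ : FiveMod V₂ L₂}

/-- a non-commuting pair gives an element of `K_n` which moves `V₁` -/
theorem Wr.exists_kk (wr : Wr S P M₁ M₂) {s v v' : G} (hs : s * M₁.e nn = M₁.e nn * s) (hv : v ∈ V₁)
    (hv' : v' ∈ V₁) (hne : v * (s * v' * s⁻¹) ≠ s * v' * s⁻¹ * v) :
    ∃ k ∈ Kk (M₁.e nn), M₁.Ind k (Equiv.swap 0 1) := by
  have hk : s * v' * s⁻¹ ∈ Kk (M₁.e nn) := conj_Kk (by rw [hs, mul_inv_cancel_right]) (wr.V₁_le_Kk hv')
  refine ⟨_, hk, ?_⟩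
  rcases wr.Kk_ind hk with hi | hi
  · exact absurd (mem_centralizer_iff.1 (FiveMod.ind_one_iff.1 hi) v hv) hne
  · exact hi

theorem Wr.ch (wr : Wr S P M₁ M₂) (hU : UU (M₁.e nn) (M₁.e aa) ≤ Q (M₁.e aa))
    (ex : ∃ k ∈ Kk (M₁.e nn), M₁.Ind k (Equiv.swap 0 1)) : CH S P M₁ M₂ :=
  ⟨wr, ⟨fun _ hg => Pos.mem_C.2 (wr.S₁_comm_s₁ hg), S.isPGroup'.to_le inf_le_left, wr.no_tri⟩, ex, hU⟩

/-- **(C) of #14703**: `m_3(G) ≤ 2`, `U_n ≤ O₂(C(a))`: the `C(n)`-conjugates of `V₁` commute with `V₁`. -/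
theorem Wr.comm_of_UU_le (wr : Wr S P M₁ M₂) (hr : PRankLE 3 2 G)
    (hU : UU (M₁.e nn) (M₁.e aa) ≤ Q (M₁.e aa)) {s : G} (hs : s * M₁.e nn = M₁.e nn * s) :
    ∀ v ∈ V₁, ∀ v' ∈ V₁, v * (s * v' * s⁻¹) = s * v' * s⁻¹ * v := by
  intro v hv v' hv'
  by_contra hne
  exact (wr.ch hU (wr.exists_kk hs hv hv' hne)).false_of_rank hr hs hv hv' hne

end Cfsg.Agent.Omega.IId.LFour

end

section


/-!
# (J2), (J4) of #19215 (II.d L4, `S₅ wr 2`, pure pair): LEMMA E over `T_n` (helper430)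

`b : HTT T P' V R o` with `R o = {1, n}`, `V ≤ V₁`, the points `R i` generated by duads of `V₁`,
`Ω₁(Z(T)) ∩ C(P') = {1, a, τ, a τ}` (`n = M₁.e nn`, `a = M₁.e aa`, `τ = M₂.e ss`).

* `goodY₂` : `n` lies in an abelian normal subgroup of `C(y)`, `1 ≠ y ∈ V₂`; `goodY_a`, `goodY_s` for `a`, `σ = n a`;
* `le_all` : `LE V R j` for all `j`;
* `hyV` : `V` commutes with `n ^ C(σ)`;
* `eq_a` : an element `≠ 1` of `{1, a, τ, a τ}` which is `a` or centralised by `N(V) ∩ N(R o)` is `a`.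
-/

set_option autoImplicit false
set_option linter.unusedSectionVars false

namespace Cfsg.Agent.Omega.IId.LFour.HttLE

open Subgroup Pointwise Cfsg Cfsg.Agent.ZN Cfsg.Agent.Omega.MinPar
open Cfsg.Agent.Omega.S5.Mod Cfsg.Agent.Omega.S5.TT
open Cfsg.Agent.Omega.S5.TT.Pos (na ns as sn n_ne s_ne a_ne n_ne_a n_ne_s a_ne_s e_sq' mem_C)
open Cfsg.Agent.MinSimple.VModule (o2_isPGroup le_o2 o2_le zc_le zc_comm)
open Cfsg.Agent.Omega.TwoFFour (Syl2)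
open Cfsg.Agent.Omega.TTn (WW UU mem_WW₁ le_WW₁ WW_le WW_norm Q)
open Cfsg.Agent.Omega.IId.LFour.LemEY (GoodY)
open Cfsg.Agent.Omega.HTwo.ThmA (LE)
open Cfsg.Agent.Omega.HT
open Cfsg.Agent.Omega.BTwo (XX CenX QQ cj_one)

universe u

variable {G : Type u} [Group G] [Finite G] {S : Sylow 2 G} {P V₁ V₂ L₁ L₂ : Subgroup G} {M₁ : FiveMod V₁ L₁}
  {M₂ : FiveMod V₂ L₂}

theorem normalizer_eq {R : Subgroup G} {c : G} (hR : ∀ x, x ∈ R ↔ x = 1 ∨ x = c) (hc : c ≠ 1) :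
    normalizer (R : Set G) = centralizer ({c} : Set G) := by
  have hcR : c ∈ R := (hR c).2 (Or.inr rfl)
  apply le_antisymm
  · intro g hg
    refine mem_C.2 ?_
    rcases (hR _).1 ((mem_normalizer_iff.1 hg c).1 hcR) with h | h
    · exfalso
      apply hc
      calc c = g⁻¹ * (g * c * g⁻¹) * g := by group
        _ = 1 := by rw [h]; group
    · exact mul_inv_eq_iff_eq_mul.1 h
  · intro g hg
    have hg' := mem_C.1 hg
    refine ChoiceBase.mem_normalizer_of_cj_le ?_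
    rintro _ ⟨x, hx, rfl⟩
    change g * x * g⁻¹ ∈ R
    rcases (hR x).1 hx with rfl | rfl
    · rw [mul_one, mul_inv_cancel]; exact one_mem _
    · rw [hg', mul_inv_cancel_right]; exact hx

/-- `Z(O₂(C(y)))` -/
theorem goodY_of {y r : G} (h1 : r ∈ o2 (centralizer ({y} : Set G)))
    (h2 : ∀ q ∈ o2 (centralizer ({y} : Set G)), q * r = r * q) : GoodY r y := by
  refine ⟨o2 (centralizer ({y} : Set G)) ⊓ centralizer (o2 (centralizer ({y} : Set G)) : Set G),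
    ⟨h1, mem_centralizer_iff.2 h2⟩, ?_, fun a ha c hc => mem_centralizer_iff.1 hc.2 a ha.1⟩
  exact Half.le_normalizer_inf (le_normalizer_o2 _) fun g hg => norm_cent (le_normalizer_o2 _ hg)

section wr

variable (wr : Wr S P M₁ M₂)
include wr

theorem syl₂ : Syl2 ((S : Subgroup G) ⊓ normalizer (V₁ : Set G)) (centralizer ({M₁.e ss} : Set G)) :=
  ⟨fun _ hg => mem_C.2 (wr.S₁_comm_s₁ hg), S.isPGroup'.to_le inf_le_left, wr.no_tri⟩

theorem goodY_s : GoodY (M₁.e nn) (M₁.e ss) := by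
  refine ⟨WW V₁ V₁ (M₁.e ss), le_WW₁ V₁ V₁ _ (M₁.e_mem _), ?_, ?_⟩
  · intro g hg
    refine ChoiceBase.mem_normalizer_of_cj_le ?_
    rintro _ ⟨x, hx, rfl⟩
    exact WW_norm (mem_C.1 hg) hx
  · intro u hu v hv
    have key : ∀ g, g * M₁.e ss = M₁.e ss * g → ∀ k, k * M₁.e ss = M₁.e ss * k → ∀ v ∈ V₁, ∀ w ∈ V₁,
        g * v * g⁻¹ * (k * w * k⁻¹) = k * w * k⁻¹ * (g * v * g⁻¹) := by
      intro g hg k hk v hv w hw
      have h1 : g⁻¹ * k * M₁.e ss = M₁.e ss * (g⁻¹ * k) := by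
        rw [mul_assoc, hk, ← mul_assoc, inv_comm hg, mul_assoc]
      have h2 := wr.comm_Ds (syl₂ wr) (mem_C.2 h1) hv hw
      calc g * v * g⁻¹ * (k * w * k⁻¹) = g * (v * ((g⁻¹ * k) * w * (g⁻¹ * k)⁻¹)) * g⁻¹ := by group
        _ = g * (((g⁻¹ * k) * w * (g⁻¹ * k)⁻¹) * v) * g⁻¹ := by rw [h2]
        _ = k * w * k⁻¹ * (g * v * g⁻¹) := by group
    have h1 : WW V₁ V₁ (M₁.e ss) ≤ centralizer ({u} : Set G) := by
      have h2 : ∀ g, g * M₁.e ss = M₁.e ss * g → ∀ v ∈ V₁, g * v * g⁻¹ ∈ centralizer ({u} : Set G) := by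
        intro g hg v hv
        have h3 : WW V₁ V₁ (M₁.e ss) ≤ centralizer ({g * v * g⁻¹} : Set G) := by
          have h4 : ∀ k, k * M₁.e ss = M₁.e ss * k → ∀ w ∈ V₁, k * w * k⁻¹ ∈
              centralizer ({g * v * g⁻¹} : Set G) := fun k hk w hw => mem_C.2 (key k hk g hg w hw v hv)
          exact WW_le h4 h4
        exact mem_C.2 (mem_C.1 (h3 hu)).symm
      exact WW_le h2 h2
    exact (mem_C.1 (h1 hv)).symm

theorem goodY_a : GoodY (M₁.e nn) (M₁.e aa) := by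
  have h1 : M₁.e nn ∈ Q (M₁.e aa) := wr.Kka_le_Qa (wr.V₁_le_Kka (M₁.e_mem _))
  exact goodY_of h1 fun q hq => (wr.Qa_le_S hq).2.1

omit [Finite G] wr in
theorem cls_two : ∀ x : Vec, ¬ (x = 0 ∨ x = 1) → ∃ p : Equiv.Perm (Fin 5),
    ((x = ss ∘ p.symm ∨ x = ss ∘ p.symm + 1) ∨ (x = nn ∘ p.symm ∨ x = nn ∘ p.symm + 1)) := by
  decide +kernel

theorem goodY₂ {y : G} (hy : y ∈ V₂) (hy1 : y ≠ 1) : GoodY (M₁.e nn) y := by
  obtain ⟨x, rfl⟩ := (M₂.mem_iff y).1 hy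
  rw [Ne, M₂.ker] at hy1
  obtain ⟨p, hp⟩ := cls_two x hy1
  obtain ⟨l, hl, hli⟩ := M₂.exists_lift p
  have hli : M₂.Ind l p := hli
  have hln : l * M₁.e nn = M₁.e nn * l := wr.L₂_comm hl (M₁.e_mem _)
  -- transport
  have key : ∀ z : Vec, M₂.e x = l * M₂.e z * l⁻¹ → M₁.e nn ∈ o2 (centralizer ({M₂.e z} : Set G)) →
      (∀ q ∈ o2 (centralizer ({M₂.e z} : Set G)), q * M₁.e nn = M₁.e nn * q) →
      GoodY (M₁.e nn) (M₂.e x) := by
    intro z hz h1 h2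
    have e : l⁻¹ * M₁.e nn * l = M₁.e nn := by
      rw [mul_assoc, ← hln]; group
    refine goodY_of ?_ fun q hq => ?_
    · change M₁.e nn ∈ Q (M₂.e x)
      rw [hz, ← mem_Q_conj, e]
      exact h1
    · have h3 : l⁻¹ * q * l ∈ Q (M₂.e z) := by
        rw [mem_Q_conj, ← hz]; exact hq
      have h4 := h2 _ h3
      calc q * M₁.e nn = l * (l⁻¹ * q * l * (l⁻¹ * M₁.e nn * l)) * l⁻¹ := by group
        _ = l * (l⁻¹ * M₁.e nn * l * (l⁻¹ * q * l)) * l⁻¹ := by rw [e, h4]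
        _ = M₁.e nn * q := by group
  rcases hp with hp | hp
  · refine key ss ?_ ?_ ?_
    · rw [hli, M₂.e_eq_iff]; exact hp
    · exact wr.V₁_le_o2_centralizer.1 (M₁.e_mem _)
    · intro q hq
      exact (mem_centralizer_iff.1 (wr.V₁_le_o2_centralizer.2 hq) _ (M₁.e_mem _)).symm
  · refine key nn ?_ ?_ ?_
    · rw [hli, M₂.e_eq_iff]; exact hp
    · exact wr.symm.quarter (M₁.e_mem _)
    · intro q hq
      exact (mem_centralizer_iff.1 (wr.symm.quarter_cent hq) _ (M₁.e_mem _)).symm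

omit [Finite G] wr in
theorem du_span : ∀ y : Vec, ∃ b₀ b₁ b₂ b₃ : Bool,
    (y = cond b₀ (Crux.du 0 4) 0 + cond b₁ (Crux.du 1 4) 0 + cond b₂ (Crux.du 2 4) 0 + cond b₃ (Crux.du 3 4) 0 ∨
     y = cond b₀ (Crux.du 0 4) 0 + cond b₁ (Crux.du 1 4) 0 + cond b₂ (Crux.du 2 4) 0 +
      cond b₃ (Crux.du 3 4) 0 + 1) := by
  decide +kernel

/-- `⟨τ τ'⟩`, `τ' ∈ τ ^ L₂`, generate `V₂` -/
theorem V₂_le {Λ : Subgroup G} (h : ∀ l ∈ L₂, M₂.e ss * (l * M₂.e ss * l⁻¹) ∈ Λ) : V₂ ≤ Λ := by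
  have h1 : ∀ i : Fin 5, i ≠ 4 → M₂.e (Crux.du i 4) ∈ Λ := by
    intro i hi
    obtain ⟨l, hl, hli⟩ := M₂.exists_lift (Equiv.swap 4 i)
    have hli : M₂.Ind l (Equiv.swap 4 i) := hli
    have h2 := h l hl
    rw [hli, ← M₂.e_add] at h2
    have e : ∀ i : Fin 5, i ≠ 4 → ss + ss ∘ (Equiv.swap 4 i : Equiv.Perm (Fin 5)).symm = Crux.du i 4 := by
      decide
    rwa [e i hi] at h2
  intro v hv
  obtain ⟨y, rfl⟩ := (M₂.mem_iff v).1 hv
  obtain ⟨b₀, b₁, b₂, b₃, hy⟩ := du_span y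
  have hc : ∀ (b : Bool) (i : Fin 5), i ≠ 4 → M₂.e (cond b (Crux.du i 4) 0) ∈ Λ := by
    rintro (_ | _) i hi
    · rw [cond_false, M₂.e_zero]; exact one_mem _
    · exact h1 i hi
  have e2 : M₂.e y = M₂.e (cond b₀ (Crux.du 0 4) 0 + cond b₁ (Crux.du 1 4) 0 + cond b₂ (Crux.du 2 4) 0 +
      cond b₃ (Crux.du 3 4) 0) := by
    rw [M₂.e_eq_iff]; exact hy
  rw [e2, M₂.e_add, M₂.e_add, M₂.e_add]
  exact mul_mem (mul_mem (mul_mem (hc _ _ (by decide)) (hc _ _ (by decide))) (hc _ _ (by decide)))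
    (hc _ _ (by decide))

end wr

/-! ### The instance -/

section inst

variable {ι : Type*} {T P' V : Subgroup G} {R : ι → Subgroup G} {o : ι}

/-- What is used of the frame. -/
structure Fr (M₁ : FiveMod V₁ L₁) (M₂ : FiveMod V₂ L₂) (T P' V : Subgroup G) (R : ι → Subgroup G) (o : ι) :
    Prop where
  htt : HTT T P' V R o
  Ro : ∀ x, x ∈ R o ↔ x = 1 ∨ x = M₁.e nn
  Ri : ∀ i, ∃ p q : Fin 5, p ≠ q ∧ ∀ x, x ∈ R i ↔ x = 1 ∨ x = M₁.e (Crux.du p q)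
  V_le : V ≤ V₁
  P'_le : P' ≤ T ⊔ XX V R
  cz : ∀ x ∈ zc T ⊓ centralizer (P' : Set G), x = 1 ∨ x = M₁.e aa ∨ x = M₂.e ss ∨ x = M₁.e aa * M₂.e ss

variable (wr : Wr S P M₁ M₂) (f : Fr M₁ M₂ T P' V R o)
include wr f

/-- `X ≤ C(V₂)` -/
theorem XX_le : XX V R ≤ centralizer (V₂ : Set G) := by
  refine iSup_le fun i => (f.htt.W_le_Q i).trans ?_
  obtain ⟨p, q, hpq, hRi⟩ := f.Ri i
  have h1 : M₁.e (Crux.du p q) ≠ 1 := Crux.du_ne M₁ hpq
  have h2 := wr.symm.quarter_duad hpq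
  change o2 (normalizer (R i : Set G)) ≤ _
  rw [normalizer_eq hRi h1]
  exact h2

/-- **(J2)** LEMMA E over `T_n` -/
theorem le_all (j : ι) : LE V R j := by
  have b := f.htt
  have hn := n_ne M₁
  have hnc : ∃ k ∈ normalizer (R o : Set G), ∃ v ∈ V, ∃ w ∈ BTwo.cj k V, v * w ≠ w * v := by
    obtain ⟨h, hh, H⟩ := b.mt o
    by_contra hcon
    push Not at hcon
    refine b.false_of_comm (h := h) (fun j k hj hk => (H j k hj hk).1) fun v hv => ?_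
    refine mem_centralizer_iff.2 fun w hw => hcon h hh w hw _ ?_
    exact BTwo.conj_mem_cj hv
  refine LemEY.le_T' b.toBTS (i := o) (r := M₁.e nn) (fun x hx => (f.Ro x).1 hx) ((f.Ro _).2 (Or.inr rfl))
    b.S_p b.S_V b.S_R b.S_odd hnc (A := V₂) ?_ ?_ ?_ ?_ j
  · refine ⟨M₂.e nn, M₂.e_mem _, M₂.e aa, M₂.e_mem _, n_ne M₂, a_ne M₂, ?_⟩
    rw [na M₂]; exact s_ne M₂
  · exact fun v hv => mem_centralizer_iff.2 fun x hx => (mem_centralizer_iff.1 (XX_le wr f hx) v hv).symm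
  · exact fun y hy hy1 => goodY₂ wr hy hy1
  · intro e heT he1 hee hec heX
    have hezc : e ∈ zc T ⊓ centralizer (P' : Set G) := by
      refine ⟨mem_zc.2 ⟨heT, fun t ht => (hec t ht).symm, by rw [pow_two]; exact hee⟩, ?_⟩
      have h1 : T ⊔ XX V R ≤ centralizer ({e} : Set G) :=
        sup_le (fun t ht => mem_C.2 (hec t ht).symm) fun x hx => mem_C.2 (mem_centralizer_iff.1 heX x hx)
      exact mem_centralizer_iff.2 fun x hx => mem_C.1 (h1 (f.P'_le hx))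
    have hL : L₂ ≤ normalizer (R o : Set G) := by
      rw [normalizer_eq f.Ro hn]
      exact fun l hl => mem_C.2 (wr.L₂_comm hl (M₁.e_mem _))
    have hone : ∀ Λ : Subgroup G, normalizer (R o : Set G) ≤ normalizer (Λ : Set G) → e ∈ Λ →
        (∀ l ∈ L₂, e * (l * e * l⁻¹) = M₂.e ss * (l * M₂.e ss * l⁻¹)) → V₂ ≤ Λ := by
      intro Λ hΛ heΛ he
      refine V₂_le wr fun l hl => ?_
      rw [← he l hl]
      exact mul_mem heΛ ((mem_normalizer_iff.1 (hΛ (hL hl)) e).1 heΛ)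
    rcases f.cz e hezc with h | h | h | h
    · exact absurd h he1
    · left
      rw [h, na M₁]
      exact ⟨goodY_a wr, goodY_s wr⟩
    · right
      intro Λ hΛ heΛ
      exact hone Λ hΛ heΛ fun l hl => by rw [h]
    · right
      intro Λ hΛ heΛ
      refine hone Λ hΛ heΛ fun l hl => ?_
      have h1 : l * M₁.e aa = M₁.e aa * l := wr.L₂_comm hl (M₁.e_mem _)
      have h2 : l * M₂.e ss * l⁻¹ ∈ V₂ :=
        (mem_normalizer_iff.1 (M₂.le_normalizer hl) _).1 (M₂.e_mem _)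
      have h3 := wr.comm (M₁.e_mem aa) h2
      have h4 := wr.comm (M₁.e_mem aa) (M₂.e_mem ss)
      rw [h]
      calc M₁.e aa * M₂.e ss * (l * (M₁.e aa * M₂.e ss) * l⁻¹) =
          M₁.e aa * M₂.e ss * ((l * M₁.e aa) * M₂.e ss * l⁻¹) := by group
        _ = (M₁.e aa * M₂.e ss) * M₁.e aa * (l * M₂.e ss * l⁻¹) := by rw [h1]; group
        _ = M₂.e ss * (M₁.e aa * M₁.e aa) * (l * M₂.e ss * l⁻¹) := by rw [h4]; group
        _ = M₂.e ss * (l * M₂.e ss * l⁻¹) := by rw [M₁.e_sq, mul_one]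

/-- **(J4)** `V` commutes with `n ^ C(σ)` -/
theorem hyV : ∀ g : G, g * (M₁.e aa * M₁.e nn) = M₁.e aa * M₁.e nn * g → ∀ v ∈ V,
    v * (g * M₁.e nn * g⁻¹) = g * M₁.e nn * g⁻¹ * v := by
  intro g hg v hv
  have e : M₁.e aa * M₁.e nn = M₁.e ss := by rw [M₁.e_comm, na M₁]
  rw [e] at hg
  exact wr.comm_Ds (syl₂ wr) (mem_C.2 hg) (f.V_le hv) (M₁.e_mem _)

/-- only `a` has to be considered -/
theorem eq_a {z : G} (hz : z ∈ zc T ⊓ centralizer (P' : Set G)) (hz1 : z ≠ 1)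
    (h : z = M₁.e aa ∨ ∀ g ∈ normalizer (V : Set G), g ∈ normalizer (R o : Set G) → g * z = z * g) :
    z = M₁.e aa := by
  rcases h with h | h
  · exact h
  obtain ⟨l, hl, hli⟩ := M₂.exists_lift (Equiv.swap 0 4)
  have hli : M₂.Ind l (Equiv.swap 0 4) := hli
  have h1 : l * M₂.e ss ≠ M₂.e ss * l := by
    rw [Ne, hli.commute_iff]; decide
  have hlV : l ∈ normalizer (V : Set G) := centralizer_le_normalizer _
    (mem_centralizer_iff.2 fun v hv => (wr.L₂_comm hl (f.V_le hv)).symm)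
  have hlR : l ∈ normalizer (R o : Set G) := by
    rw [normalizer_eq f.Ro (n_ne M₁)]
    exact mem_C.2 (wr.L₂_comm hl (M₁.e_mem _))
  have h2 := h l hlV hlR
  rcases f.cz z hz with h3 | h3 | h3 | h3
  · exact absurd h3 hz1
  · exact h3
  · rw [h3] at h2; exact absurd h2 h1
  · exfalso
    apply h1
    rw [h3] at h2
    have h4 : l * M₁.e aa = M₁.e aa * l := wr.L₂_comm hl (M₁.e_mem _)
    have h5 : M₁.e aa * (l * M₂.e ss) = M₁.e aa * (M₂.e ss * l) := by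
      calc M₁.e aa * (l * M₂.e ss) = l * M₁.e aa * M₂.e ss := by rw [h4]; group
        _ = M₁.e aa * (M₂.e ss * l) := by rw [mul_assoc, h2]; group
    exact mul_left_cancel h5

end inst

end Cfsg.Agent.Omega.IId.LFour.HttLE

end
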