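import Cfsg.Agent.Mrg.Omega.IId.LFour.CFin
import Cfsg.Agent.Mrg.Omega.HT.Main
import Cfsg.Agent.Mrg.Omega.HTwo.AlphaP
import Cfsg.Agent.Mrg.Omega.IId.M4.Entry
import Cfsg.Agent.Mrg.Omega.IId.LFour.TriP
import Cfsg.Agent.Mrg.Omega.IId.LFour.LemX
import Cfsg.Agent.Mrg.Omega.IId.LFour.Quarter

section


/-!
# LEMMA O (II.d L4, `S₅ wr 2`, pure pair): 2-groups normalised by `T_n` and `X` (helper430)

`T = C_S(n)` Sylow in `C_G(n)`; an element of `N_G(T)` centralises `n` or swaps `n` and `a` (`Tn`).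

* `Tn.odd` : `T` has odd index in every `M`, `T ≤ M ≤ C(a)`;
* `Tn.lemO` : a 2-group `K` normalised by `T` and by `x₁, x₂ ∈ C(a)` with `n ^ x₁ = {0 4}`, `n ^ x₂ = {1 4}` centralises `n`;
* `Tn.loc` : a 2-group normalised by `T` and `X` centralises `V` (`HTT.loc`);
* `false_of_fr` : the end, `HT.Final.false_of`.
-/

set_option autoImplicit false
set_option linter.unusedSectionVars false

namespace Cfsg.Agent.Omega.IId.LFour.HttLE

open Subgroup Pointwise Cfsg Cfsg.Agent.ZN Cfsg.Agent.Omega.MinPar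
open Cfsg.Agent.Omega.S5.Mod Cfsg.Agent.Omega.S5.TT
open Cfsg.Agent.Omega.S5.TT.Pos (na ns as sn n_ne s_ne a_ne n_ne_a n_ne_s a_ne_s e_sq' mem_C)
open Cfsg.Agent.MinSimple.VModule (o2_isPGroup le_o2 o2_le zc_le zc_comm)
open Cfsg.Agent.Omega.HTwo.ThmA (LE)
open Cfsg.Agent.Omega.HT
open Cfsg.Agent.Omega.BTwo (XX CenX QQ cj_one)

universe u

variable {G : Type u} [Group G]

/-! ### 2-groups -/

theorem exists_grow [Finite G] {R T : Subgroup G} (hR : IsPGroup 2 R) (hTR : T ≤ R) (hne : ¬ R ≤ T) :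
    ∃ w ∈ R, w ∉ T ∧ w ∈ normalizer (T : Set G) := by
  have : Fact (Nat.Prime 2) := ⟨Nat.prime_two⟩
  have : Group.IsNilpotent R := hR.isNilpotent
  have h1 : T.subgroupOf R < ⊤ := by
    refine lt_top_iff_ne_top.2 fun h => hne ?_
    exact subgroupOf_eq_top.1 h
  have h2 := Group.normalizerCondition_of_isNilpotent (G := R) _ h1
  obtain ⟨x, hx, hxT⟩ := SetLike.exists_of_lt h2
  refine ⟨x, x.2, fun h => hxT (mem_subgroupOf.2 h), ?_⟩
  rw [mem_normalizer_iff]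
  intro y
  constructor
  · intro hy
    have h3 := (mem_normalizer_iff.1 hx ⟨y, hTR hy⟩).1 (mem_subgroupOf.2 hy)
    exact mem_subgroupOf.1 h3
  · intro hy
    have hyR : y ∈ R := by
      have h4 := mul_mem (mul_mem (inv_mem x.2) (hTR hy)) x.2
      have e : (x : G)⁻¹ * (x * y * (x : G)⁻¹) * x = y := by group
      rwa [e] at h4
    exact mem_subgroupOf.1 ((mem_normalizer_iff.1 hx ⟨y, hyR⟩).2 (mem_subgroupOf.2 hy))

/-- `|n ^ R| ≤ |R : T|` if `T` centralises `n` -/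
theorem card_orbit_le [Finite G] {R T : Subgroup G} {n : G} (hTR : T ≤ R) (hT : ∀ t ∈ T, t * n = n * t)
    {k : ℕ} (hk : Nat.card R ≤ k * Nat.card T) (s : Finset G) (hs : ∀ y ∈ s, ∃ r ∈ R, y = r * n * r⁻¹) :
    s.card ≤ k := by
  classical
  choose! r hr hry using hs
  -- `s → R / T`
  have hinj : Function.Injective fun y : s => (QuotientGroup.mk (⟨r y, hr y y.2⟩ : R) : R ⧸ T.subgroupOf R) := by
    rintro ⟨y, hy⟩ ⟨y', hy'⟩ h
    rw [QuotientGroup.eq] at h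
    have h1 : (r y)⁻¹ * r y' ∈ T := mem_subgroupOf.1 h
    have h2 := hT _ h1
    apply Subtype.ext
    change y = y'
    rw [hry y hy, hry y' hy']
    calc r y * n * (r y)⁻¹ = r y * (n * ((r y)⁻¹ * r y')) * (r y')⁻¹ := by group
      _ = r y * ((r y)⁻¹ * r y' * n) * (r y')⁻¹ := by rw [h2]
      _ = r y' * n * (r y')⁻¹ := by group
  have h1 := Nat.card_le_card_of_injective _ hinj
  rw [Nat.card_eq_fintype_card, Fintype.card_coe] at h1
  have h2 : Nat.card (R ⧸ T.subgroupOf R) * Nat.card T = Nat.card R := by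
    have h3 := (T.subgroupOf R).card_mul_index
    rw [Nat.card_congr (subgroupOfEquivOfLe hTR).toEquiv] at h3
    rw [mul_comm]
    exact h3
  have h3 : 0 < Nat.card T := Nat.card_pos
  rw [← h2] at hk
  exact h1.trans (Nat.le_of_mul_le_mul_right hk h3)

variable {S : Sylow 2 G} {P V₁ V₂ L₁ L₂ : Subgroup G} {M₁ : FiveMod V₁ L₁} {M₂ : FiveMod V₂ L₂}

/-- `T_n` is Sylow in `C(n)`; `N(T_n)` fixes `n` or swaps `n` and `a`. -/
structure Tn (S : Sylow 2 G) (M₁ : FiveMod V₁ L₁) : Prop where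
  syl : ¬ 2 ∣ ((S : Subgroup G) ⊓ centralizer ({M₁.e nn} : Set G)).relIndex (centralizer ({M₁.e nn} : Set G))
  cor : ∀ g ∈ normalizer (((S : Subgroup G) ⊓ centralizer ({M₁.e nn} : Set G) : Subgroup G) : Set G),
    g * M₁.e nn = M₁.e nn * g ∨ (g * M₁.e nn * g⁻¹ = M₁.e aa ∧ g * M₁.e aa * g⁻¹ = M₁.e nn)

namespace Tn

variable (t : Tn S M₁)
include t

/-- a 2-group `R ≥ T` has `C_R(n) = T` -/
theorem mem_of_comm [Finite G] {R : Subgroup G} (hR : IsPGroup 2 R)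
    (hTR : (S : Subgroup G) ⊓ centralizer ({M₁.e nn} : Set G) ≤ R) {w : G} (hw : w ∈ R)
    (hwn : w * M₁.e nn = M₁.e nn * w) : w ∈ (S : Subgroup G) ⊓ centralizer ({M₁.e nn} : Set G) := by
  have h1 : R ⊓ centralizer ({M₁.e nn} : Set G) ≤ (S : Subgroup G) ⊓ centralizer ({M₁.e nn} : Set G) := by
    set T := (S : Subgroup G) ⊓ centralizer ({M₁.e nn} : Set G) with hT
    have h2 : T ≤ R ⊓ centralizer ({M₁.e nn} : Set G) := le_inf hTR inf_le_right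
    have h3 := HT.card_dvd_card (S := T) (N := centralizer ({M₁.e nn} : Set G)) inf_le_right t.syl
      (T := R ⊓ centralizer ({M₁.e nn} : Set G)) (hR.to_le inf_le_left) inf_le_right
    exact (eq_of_le_of_card_ge h2 (Nat.le_of_dvd Nat.card_pos h3)).ge
  exact h1 ⟨hw, mem_C.2 hwn⟩

/-- `T` has odd index in every `M`, `T ≤ M ≤ C(a)`. -/
theorem odd [Finite G] {M : Subgroup G} (hTM : (S : Subgroup G) ⊓ centralizer ({M₁.e nn} : Set G) ≤ M)
    (hM : ∀ m ∈ M, m * M₁.e aa = M₁.e aa * m) :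
    ¬ 2 ∣ ((S : Subgroup G) ⊓ centralizer ({M₁.e nn} : Set G)).relIndex M := by
  obtain ⟨T', h1, h2, h3, h4⟩ := HT.exists_syl (S.isPGroup'.to_le inf_le_left :
    IsPGroup 2 ((S : Subgroup G) ⊓ centralizer ({M₁.e nn} : Set G) : Subgroup G)) hTM
  have h5 : T' ≤ (S : Subgroup G) ⊓ centralizer ({M₁.e nn} : Set G) := by
    by_contra hne
    obtain ⟨w, hw, hwT, hwn⟩ := exists_grow h3 h1 hne
    rcases t.cor w hwn with h | ⟨-, h⟩
    · exact hwT (t.mem_of_comm h3 h1 hw h)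
    · rw [hM w (h2 hw), mul_inv_cancel_right] at h
      exact n_ne_a M₁ h.symm
  rw [le_antisymm h1 h5]
  exact h4

theorem card_le [Finite G] (wr : Wr S P M₁ M₂) {R : Subgroup G} (hR : IsPGroup 2 R) :
    Nat.card R ≤ 4 * Nat.card ((S : Subgroup G) ⊓ centralizer ({M₁.e nn} : Set G) : Subgroup G) := by
  rw [← wr.card_T]
  have : Fact (Nat.Prime 2) := ⟨Nat.prime_two⟩
  obtain ⟨S', hS'⟩ := hR.exists_le_sylow
  exact (card_le_of_le hS').trans (sylow_card_eq S' S).le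

/-- **LEMMA O** -/
theorem lemO [Finite G] (wr : Wr S P M₁ M₂) {K : Subgroup G} (hK : IsPGroup 2 K)
    (hTK : (S : Subgroup G) ⊓ centralizer ({M₁.e nn} : Set G) ≤ normalizer (K : Set G)) {x₁ x₂ : G}
    (hx₁ : x₁ ∈ normalizer (K : Set G)) (hx₂ : x₂ ∈ normalizer (K : Set G))
    (ha₁ : x₁ * M₁.e aa = M₁.e aa * x₁) (ha₂ : x₂ * M₁.e aa = M₁.e aa * x₂)
    (hr₁ : x₁ * M₁.e nn * x₁⁻¹ = M₁.e (Crux.du 0 4)) (hr₂ : x₂ * M₁.e nn * x₂⁻¹ = M₁.e (Crux.du 1 4)) :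
    ∀ k ∈ K, k * M₁.e nn = M₁.e nn * k := by
  classical
  obtain ⟨T, hT⟩ : ∃ T, T = (S : Subgroup G) ⊓ centralizer ({M₁.e nn} : Set G) := ⟨_, rfl⟩
  have hTp : IsPGroup 2 T := by rw [hT]; exact S.isPGroup'.to_le inf_le_left
  rw [← hT] at hTK
  have hTn : ∀ x ∈ T, x * M₁.e nn = M₁.e nn * x := fun x hx => by rw [hT] at hx; exact mem_C.1 hx.2
  have hR : IsPGroup 2 (K ⊔ T : Subgroup G) := IsPGroup.to_sup_of_normal_left' hK hTp hTK
  by_cases hle : K ⊔ T ≤ T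
  · exact fun k hk => hTn k (hle (mem_sup_left hk))
  exfalso
  obtain ⟨w, hw, hwT, hwn⟩ := exists_grow hR le_sup_right hle
  -- `w ∈ K`
  obtain ⟨w', hw'K, hw'T, hw'n⟩ : ∃ w' ∈ K, w' ∉ T ∧ w' ∈ normalizer (T : Set G) := by
    have h1 := hw
    rw [← SetLike.mem_coe, coe_mul_of_right_le_normalizer_left _ _ hTK] at h1
    obtain ⟨k, hk, y, hy, rfl⟩ := h1
    refine ⟨k, hk, fun h => hwT (mul_mem h hy), ?_⟩
    have h2 := mul_mem hwn (inv_mem (le_normalizer hy))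
    have e : k * y * y⁻¹ = k := by group
    rwa [e] at h2
  have hTR : (S : Subgroup G) ⊓ centralizer ({M₁.e nn} : Set G) ≤ K ⊔ T := by rw [← hT]; exact le_sup_right
  obtain ⟨h1, h2⟩ : w' * M₁.e nn * w'⁻¹ = M₁.e aa ∧ w' * M₁.e aa * w'⁻¹ = M₁.e nn := by
    rw [hT] at hw'n hw'T
    rcases t.cor w' hw'n with h | h
    · exact absurd (t.mem_of_comm hR hTR (mem_sup_left hw'K) h) hw'T
    · exact h
  -- `n ^ K` contains `n, a, r₁, r₂`
  have hconj : ∀ {x : G}, x ∈ normalizer (K : Set G) → x * M₁.e aa = M₁.e aa * x → ∃ k ∈ K,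
      x * M₁.e nn * x⁻¹ = k * M₁.e nn * k⁻¹ := by
    intro x hx hxa
    refine ⟨(x * w' * x⁻¹)⁻¹ * w', mul_mem (inv_mem ((mem_normalizer_iff.1 hx _).1 hw'K)) hw'K, ?_⟩
    have e1 : x * M₁.e nn * x⁻¹ = (x * w' * x⁻¹)⁻¹ * (x * (w' * M₁.e nn * w'⁻¹) * x⁻¹) * (x * w' * x⁻¹) := by
      group
    rw [e1, h1, hxa, mul_inv_cancel_right, ← h1]
    group
  obtain ⟨k₁, hk₁, e₁⟩ := hconj hx₁ ha₁
  obtain ⟨k₂, hk₂, e₂⟩ := hconj hx₂ ha₂
  rw [hr₁] at e₁
  rw [hr₂] at e₂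
  -- every member of `n ^ K` is one of the four
  have hfour : ∀ k ∈ K, k * M₁.e nn * k⁻¹ = M₁.e nn ∨ k * M₁.e nn * k⁻¹ = M₁.e aa ∨
      k * M₁.e nn * k⁻¹ = M₁.e (Crux.du 0 4) ∨ k * M₁.e nn * k⁻¹ = M₁.e (Crux.du 1 4) := by
    intro k hk
    by_contra hcon
    push Not at hcon
    obtain ⟨c1, c2, c3, c4⟩ := hcon
    have d1 : M₁.e nn ≠ M₁.e (Crux.du 0 4) := by rw [Ne, M₁.e_eq_iff]; decide
    have d2 : M₁.e nn ≠ M₁.e (Crux.du 1 4) := by rw [Ne, M₁.e_eq_iff]; decide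
    have d3 : M₁.e aa ≠ M₁.e (Crux.du 0 4) := by rw [Ne, M₁.e_eq_iff]; decide
    have d4 : M₁.e aa ≠ M₁.e (Crux.du 1 4) := by rw [Ne, M₁.e_eq_iff]; decide
    have d5 : M₁.e (Crux.du 0 4) ≠ M₁.e (Crux.du 1 4) := by rw [Ne, M₁.e_eq_iff]; decide
    have h5 := card_orbit_le (R := K ⊔ T) (T := T) (n := M₁.e nn) (k := 4) le_sup_right hTn
      (by rw [hT]; rw [hT] at hR; exact t.card_le wr hR)
      {k * M₁.e nn * k⁻¹, M₁.e nn, M₁.e aa, M₁.e (Crux.du 0 4), M₁.e (Crux.du 1 4)} (by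
        intro y hy
        simp only [Finset.mem_insert, Finset.mem_singleton] at hy
        rcases hy with rfl | rfl | rfl | rfl | rfl
        · exact ⟨k, mem_sup_left hk, rfl⟩
        · exact ⟨1, one_mem _, by group⟩
        · exact ⟨w', mem_sup_left hw'K, h1.symm⟩
        · exact ⟨k₁, mem_sup_left hk₁, e₁⟩
        · exact ⟨k₂, mem_sup_left hk₂, e₂⟩)
    rw [Finset.card_insert_of_notMem, Finset.card_insert_of_notMem, Finset.card_insert_of_notMem,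
      Finset.card_insert_of_notMem, Finset.card_singleton] at h5
    · omega
    · simpa using d5
    · simp only [Finset.mem_insert, Finset.mem_singleton]; tauto
    · have := n_ne_a M₁
      simp only [Finset.mem_insert, Finset.mem_singleton]; tauto
    · simp only [Finset.mem_insert, Finset.mem_singleton]; tauto
  -- `w'` permutes `r₁, r₂`
  have hinv : w'⁻¹ * M₁.e aa * w' = M₁.e nn := by rw [← h1]; group
  have hinv2 : w'⁻¹ * M₁.e nn * w' = M₁.e aa := by rw [← h2]; group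
  have hw1 : ∀ x : G, x ≠ M₁.e nn → x ≠ M₁.e aa → w' * x * w'⁻¹ ≠ M₁.e nn ∧ w' * x * w'⁻¹ ≠ M₁.e aa := by
    intro x hxn hxa
    constructor
    · intro h
      apply hxa
      calc x = w'⁻¹ * (w' * x * w'⁻¹) * w' := by group
        _ = M₁.e aa := by rw [h, hinv2]
    · intro h
      apply hxn
      calc x = w'⁻¹ * (w' * x * w'⁻¹) * w' := by group
        _ = M₁.e nn := by rw [h, hinv]
  have hk1 : w' * M₁.e (Crux.du 0 4) * w'⁻¹ = M₁.e (Crux.du 0 4) ∨ w' * M₁.e (Crux.du 0 4) * w'⁻¹ =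
      M₁.e (Crux.du 1 4) := by
    have h3 := hfour (w' * k₁) (mul_mem hw'K hk₁)
    have e3 : w' * k₁ * M₁.e nn * (w' * k₁)⁻¹ = w' * (k₁ * M₁.e nn * k₁⁻¹) * w'⁻¹ := by group
    rw [e3, ← e₁] at h3
    obtain ⟨c1, c2⟩ := hw1 (M₁.e (Crux.du 0 4)) (by rw [Ne, M₁.e_eq_iff]; decide)
      (by rw [Ne, M₁.e_eq_iff]; decide)
    tauto
  have hk2 : w' * M₁.e (Crux.du 1 4) * w'⁻¹ = M₁.e (Crux.du 0 4) ∨ w' * M₁.e (Crux.du 1 4) * w'⁻¹ =
      M₁.e (Crux.du 1 4) := by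
    have h3 := hfour (w' * k₂) (mul_mem hw'K hk₂)
    have e3 : w' * k₂ * M₁.e nn * (w' * k₂)⁻¹ = w' * (k₂ * M₁.e nn * k₂⁻¹) * w'⁻¹ := by group
    rw [e3, ← e₂] at h3
    obtain ⟨c1, c2⟩ := hw1 (M₁.e (Crux.du 1 4)) (by rw [Ne, M₁.e_eq_iff]; decide)
      (by rw [Ne, M₁.e_eq_iff]; decide)
    tauto
  have h7 : M₁.e nn = M₁.e (Crux.du 0 4) * M₁.e (Crux.du 1 4) := by
    rw [← M₁.e_add, M₁.e_eq_iff]; decide
  have h8 : M₁.e aa = w' * M₁.e (Crux.du 0 4) * w'⁻¹ * (w' * M₁.e (Crux.du 1 4) * w'⁻¹) := by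
    rw [← h1, h7]; group
  rcases hk1 with hk1 | hk1 <;> rcases hk2 with hk2 | hk2 <;> rw [hk1, hk2, ← M₁.e_add, M₁.e_eq_iff] at h8 <;>
    revert h8 <;> decide

end Tn

/-! ### The instance -/

section inst

variable [Finite G] {ι : Type*} {T P' V : Subgroup G} {R : ι → Subgroup G} {o : ι}

/-- `HTT.loc`: a 2-group normalised by `T` and `X` centralises `V`. -/
theorem Tn.loc (t : Tn S M₁) (wr : Wr S P M₁ M₂) {X : Subgroup G} (hXa : ∀ x ∈ X, x * M₁.e aa = M₁.e aa * x)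
    (hX₁ : ∃ x ∈ X, x * M₁.e nn * x⁻¹ = M₁.e (Crux.du 0 4))
    (hX₂ : ∃ x ∈ X, x * M₁.e nn * x⁻¹ = M₁.e (Crux.du 1 4)) {K : Subgroup G} (hK : IsPGroup 2 K)
    (hTK : (S : Subgroup G) ⊓ centralizer ({M₁.e nn} : Set G) ≤ normalizer (K : Set G))
    (hXK : X ≤ normalizer (K : Set G)) {V : Subgroup G}
    (hV : ∀ v ∈ V, v = 1 ∨ v = M₁.e nn ∨ v = M₁.e (Crux.du 0 4) ∨ v = M₁.e (Crux.du 1 4)) :
    K ≤ centralizer (V : Set G) := by
  obtain ⟨x₁, hx₁, hr₁⟩ := hX₁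
  obtain ⟨x₂, hx₂, hr₂⟩ := hX₂
  have key := t.lemO wr hK hTK (hXK hx₁) (hXK hx₂) (hXa _ hx₁) (hXa _ hx₂) hr₁ hr₂
  have hx : ∀ x ∈ X, ∀ k ∈ K, k * (x * M₁.e nn * x⁻¹) = x * M₁.e nn * x⁻¹ * k := by
    intro x hx k hk
    have h1 : x⁻¹ * k * x ∈ K := by
      have := (mem_normalizer_iff.1 (inv_mem (hXK hx)) k).1 hk
      rwa [inv_inv] at this
    exact comm_conj' (key _ h1)
  intro k hk
  refine mem_centralizer_iff.2 fun v hv => ?_
  rcases hV v hv with h | h | h | h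
  · rw [h, one_mul, mul_one]
  · rw [h, key k hk]
  · rw [h, ← hr₁, hx x₁ hx₁ k hk]
  · rw [h, ← hr₂, hx x₂ hx₂ k hk]

/-- **The end**: `HT.Final.false_of` with `z₀ = a`, `z₁ = τ`. -/
theorem false_of_fr (wr : Wr S P M₁ M₂) (t : Tn S M₁)
    (f : Fr M₁ M₂ ((S : Subgroup G) ⊓ centralizer ({M₁.e nn} : Set G)) P' V R o)
    (ha : M₁.e aa ∈ zc ((S : Subgroup G) ⊓ centralizer ({M₁.e nn} : Set G)) ⊓ centralizer (P' : Set G))
    (hτ : M₂.e ss ∈ zc ((S : Subgroup G) ⊓ centralizer ({M₁.e nn} : Set G)) ⊓ centralizer (P' : Set G)) :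
    False := by
  have b := f.htt
  have hLE := le_all wr f
  have haτ : M₂.e ss ≠ M₁.e aa := by
    intro h
    exact a_ne M₁ (wr.V₁_ne_V₂ (M₁.e_mem _) (h ▸ M₂.e_mem _))
  have hTza : ∀ x ∈ (S : Subgroup G) ⊓ centralizer ({M₁.e nn} : Set G), x * M₁.e aa = M₁.e aa * x :=
    fun x hx => (mem_zc.1 ha.1).2.1 x hx
  have hMP : ¬ 2 ∣ ((S : Subgroup G) ⊓ centralizer ({M₁.e nn} : Set G)).relIndex
      (HTwo.AlphaP.MP V R o (M₁.e aa)) := by
    refine t.odd ?_ ?_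
    · have h0 : (S : Subgroup G) ⊓ centralizer ({M₁.e nn} : Set G) ≤
          normalizer (R o : Set G) ⊓ centralizer ({M₁.e aa} : Set G) :=
        fun x hx => mem_inf.2 ⟨b.S_R hx, mem_C.2 (hTza x hx)⟩
      exact h0.trans le_sup_left
    · intro m hm
      have h1 : HTwo.AlphaP.MP V R o (M₁.e aa) ≤ centralizer ({M₁.e aa} : Set G) :=
        sup_le inf_le_right (b.X_le_cen ha)
      exact mem_C.1 (h1 hm)
  refine HT.Final.false_of b hLE ha (a_ne M₁) hτ (s_ne M₂) haτ ?_ ?_ ?_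
  · refine t.odd ?_ ?_
    · have h0 : (S : Subgroup G) ⊓ centralizer ({M₁.e nn} : Set G) ≤
          centralizer (zc ((S : Subgroup G) ⊓ centralizer ({M₁.e nn} : Set G)) : Set G) :=
        fun x hx => mem_centralizer_iff.2 fun z hz => ((mem_zc.1 hz).2.1 x hx).symm
      exact h0.trans le_sup_left
    · intro m hm
      exact mem_C.1 (JunAB.MZ_le b ha hm)
  · intro z hz hz1 hzz
    have h1 := eq_a wr f hz hz1 hzz
    subst h1
    exact HT.AlphaY.not_alpha b f.Ro hLE hz hz1 (HT.Main.gsys_of_core b f.Ro hz hz1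
      (HT.Main.core_of_odd b f.Ro hz hz1 hMP)) (hyV wr f)
  · intro z hz hz1 hzz r hr hr1
    have h1 := eq_a wr f hz hz1 hzz
    subst h1
    exact HT.Main.core_of_odd b hr hz hz1 hMP

end inst

end Cfsg.Agent.Omega.IId.LFour.HttLE

end

section


/-!
# II.d L4 (`S₅ wr 2`): no mixed pair (helper994 #17943 (2) for the lines `V_l = {1, 12, 15, 25}`)

* `four` : a four-group on which `SL₂(2)` is induced, as `RMod (ZMod 2)`;
* `Vl M` : `{1, e{0,1}, e{0,4}, e{1,4}}`;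
* **`mixed_false`** : `w : Wr S P M₁ M₂`, `w' : Wr S' P' M₁' M₂'`, the same `n`, `a`, `T = C_S(n) = C_{S'}(n)` Sylow in
  `C_G(n)`; the `C_G(n)`-conjugates of `V₁` commute, those of `V₁'` commute, `V₁` and `V₁'^g` do not: impossible.
-/

set_option autoImplicit false
set_option linter.unusedSectionVars false

namespace Cfsg.Agent.Omega.IId.LFour.MixedW

open Subgroup Cfsg Cfsg.Agent.ZN Cfsg.Agent.Omega.BTwo Cfsg.Agent.Omega.Mix Cfsg.Agent.Omega.MixOne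
open Cfsg.Agent.Lib.SL2Mat
open Cfsg.Agent.Omega.NatPair (ap ap_mul ap_one exists_ap ext2 ap_zero' ap_one')
open Cfsg.Agent.Omega.S5.Mod Cfsg.Agent.Omega.S5.TT
open Cfsg.Agent.Omega.S5.TT.Pos (na ns as sn n_ne s_ne a_ne n_ne_a n_ne_s a_ne_s e_sq' mem_C)
open Cfsg.Agent.Omega.IId.M4

universe u

variable {G : Type u} [Group G]

/-! ### Four-groups -/

theorem det_of : ∀ a b c d : ZMod 2, ¬ (a = 0 ∧ c = 0) → ¬ (b = 0 ∧ d = 0) → ¬ (a + b = 0 ∧ c + d = 0) →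
    a * d - b * c = 1 := by
  decide

theorem f2_cases : ∀ x : Fin 2 → ZMod 2, x = 0 ∨ x = ![1, 0] ∨ x = ![0, 1] ∨ x = ![1, 0] + ![0, 1] := by
  decide

theorem ap_10 (A : Matrix.SpecialLinearGroup (Fin 2) (ZMod 2)) : ap A ![1, 0] = ![ent A 0 0, ent A 1 0] := by
  apply ext2
  · rw [ap_zero']; simp
  · rw [ap_one']; simp

theorem ap_01 (A : Matrix.SpecialLinearGroup (Fin 2) (ZMod 2)) : ap A ![0, 1] = ![ent A 0 1, ent A 1 1] := by
  apply ext2
  · rw [ap_zero']; simp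
  · rw [ap_one']; simp

theorem ap_zero (A : Matrix.SpecialLinearGroup (Fin 2) (ZMod 2)) : ap A 0 = 0 := by
  apply ext2
  · rw [ap_zero']; simp
  · rw [ap_one']; simp

section four

variable {V : Subgroup G} {e : (Fin 2 → ZMod 2) → G} (e_add : ∀ x y, e (x + y) = e x * e y)
  (e_inj : Function.Injective e) (mem_iff : ∀ g, g ∈ V ↔ ∃ x, e x = g)
include e_add e_inj mem_iff

/-- every automorphism of a four-group is induced by `SL₂(2)` -/
theorem exists_act {k : G} (hk : k ∈ normalizer (V : Set G)) :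
    ∃ B : Matrix.SpecialLinearGroup (Fin 2) (ZMod 2), ∀ x, k * e x * k⁻¹ = e (ap B x) := by
  have e0 : e 0 = 1 := by
    have := e_add 0 0
    rw [add_zero] at this
    exact left_eq_mul.1 this
  have hm : ∀ x, ∃ y, e y = k * e x * k⁻¹ := fun x =>
    (mem_iff _).1 ((mem_normalizer_iff.1 hk _).1 ((mem_iff _).2 ⟨x, rfl⟩))
  have hne : ∀ x y, e y = k * e x * k⁻¹ → x ≠ 0 → y ≠ 0 := by
    rintro x y h hx rfl
    apply hx
    apply e_inj
    rw [e0] at h ⊢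
    have h1 : e x = k⁻¹ * (k * e x * k⁻¹) * k := by group
    rw [h1, ← h]; group
  obtain ⟨u, hu⟩ := hm ![1, 0]
  obtain ⟨v, hv⟩ := hm ![0, 1]
  have huv : e (u + v) = k * e (![1, 0] + ![0, 1]) * k⁻¹ := by
    rw [e_add, e_add, hu, hv]; group
  have h1 := hne _ _ hu (by decide)
  have h2 := hne _ _ hv (by decide)
  have h3 := hne _ _ huv (by decide)
  have hd : u 0 * v 1 - v 0 * u 1 = 1 := by
    refine det_of _ _ _ _ (fun h => h1 (ext2 h.1 h.2)) (fun h => h2 (ext2 h.1 h.2)) (fun h => h3 (ext2 h.1 h.2))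
  refine ⟨mk (u 0) (v 0) (u 1) (v 1) hd, fun x => ?_⟩
  have a1 : ap (mk (u 0) (v 0) (u 1) (v 1) hd) ![1, 0] = u := by
    rw [ap_10]
    apply ext2 <;> simp
  have a2 : ap (mk (u 0) (v 0) (u 1) (v 1) hd) ![0, 1] = v := by
    rw [ap_01]
    apply ext2 <;> simp
  rcases f2_cases x with rfl | rfl | rfl | rfl
  · rw [ap_zero, e0, mul_one, mul_inv_cancel]
  · rw [a1, hu]
  · rw [a2, hv]
  · rw [NatPair.ap_add, a1, a2, huv]

/-- a four-group on which `SL₂(2)` is induced -/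
def four (lift : ∀ A : Matrix.SpecialLinearGroup (Fin 2) (ZMod 2), ∃ g : G, ∀ x, g * e x * g⁻¹ = e (ap A x)) :
    RMod (ZMod 2) V (normalizer (V : Set G)) where
  e := e
  e_add := e_add
  e_inj := e_inj
  mem_iff := mem_iff
  le := le_rfl
  cent := centralizer_le_normalizer _
  lift' := by
    intro A
    obtain ⟨g, hg⟩ := lift A
    obtain ⟨g', hg'⟩ := lift A⁻¹
    refine ⟨g, ?_, hg⟩
    have key : ∀ v ∈ V, g * v * g⁻¹ ∈ V := by
      intro v hv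
      obtain ⟨x, rfl⟩ := (mem_iff v).1 hv
      rw [hg]
      exact (mem_iff _).2 ⟨_, rfl⟩
    rw [mem_normalizer_iff]
    intro v
    refine ⟨key v, fun hv => ?_⟩
    obtain ⟨x, hx⟩ := (mem_iff _).1 hv
    have h1 := hg (ap A⁻¹ x)
    rw [NatPair.ap_ap_inv, hx] at h1
    have h2 : v = e (ap A⁻¹ x) := by
      have e1 : v = g⁻¹ * (g * v * g⁻¹) * g := by group
      rw [e1, ← h1]; group
    rw [h2]
    exact (mem_iff _).2 ⟨_, rfl⟩
  norm := by
    intro g hg h A hA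
    have hh : h ∈ normalizer (V : Set G) := by
      have key : ∀ v ∈ V, h * v * h⁻¹ ∈ V := by
        intro v hv
        obtain ⟨x, rfl⟩ := (mem_iff v).1 hv
        rw [hA]
        exact (mem_iff _).2 ⟨_, rfl⟩
      rw [mem_normalizer_iff]
      intro v
      refine ⟨key v, fun hv => ?_⟩
      obtain ⟨x, hx⟩ := (mem_iff _).1 hv
      have h1 := hA (ap A⁻¹ x)
      rw [NatPair.ap_ap_inv, hx] at h1
      have h2 : v = e (ap A⁻¹ x) := by
        have e1 : v = h⁻¹ * (h * v * h⁻¹) * h := by group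
        rw [e1, ← h1]; group
      rw [h2]
      exact (mem_iff _).2 ⟨_, rfl⟩
    exact exists_act e_add e_inj mem_iff (mul_mem (mul_mem hg hh) (inv_mem hg))

end four

/-! ### The lines of `V₁` -/

/-- the even subsets of `{0, 1, 4}` -/
def vl (u : Fin 2 → ZMod 2) : Vec := ![u 0 + u 1, u 0, 0, 0, u 1]

theorem vl_add : ∀ x y : Fin 2 → ZMod 2, vl (x + y) = vl x + vl y := by decide +kernel

theorem vl_inj : ∀ x y : Fin 2 → ZMod 2, vl x = vl y ∨ vl x = vl y + 1 → x = y := by decide +kernel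

theorem vl_nn : vl ![1, 0] = nn := by decide +kernel

theorem vl_lift : ∀ a b c d : ZMod 2, a * d - b * c = 1 → ∃ p : Equiv.Perm (Fin 5), p 2 = 2 ∧ p 3 = 3 ∧
    ∀ u : Fin 2 → ZMod 2, vl u ∘ p.symm = vl ![a * u 0 + b * u 1, c * u 0 + d * u 1] := by
  decide +kernel

theorem fix_aa : ∀ p : Equiv.Perm (Fin 5), p 2 = 2 → p 3 = 3 → aa ∘ p.symm = aa := by decide +kernel

theorem vl_ttp : ∀ p : Equiv.Perm (Fin 5), TTp p → ∀ u : Fin 2 → ZMod 2, ∃ v, vl u ∘ p.symm = vl v := by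
  decide +kernel

theorem vec_split : ∀ y : Vec, ∃ u : Fin 2 → ZMod 2, ∃ y' : Vec, y' 0 = y' 1 ∧ y = vl u + y' := by
  decide +kernel

theorem swap4 : ∀ i j : Fin 5, i ≠ j → i ≠ 4 → j ≠ 4 →
    Equiv.swap i j = Equiv.swap i 4 * Equiv.swap j 4 * Equiv.swap i 4 := by
  decide +kernel

/-- `V_l = {1, e{0,1}, e{0,4}, e{1,4}}` -/
def Vl {V L : Subgroup G} (M : FiveMod V L) : Subgroup G where
  carrier := {g | ∃ u, M.e (vl u) = g}
  one_mem' := ⟨0, by rw [M.ker]; left; decide⟩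
  mul_mem' := by
    rintro _ _ ⟨x, rfl⟩ ⟨y, rfl⟩
    exact ⟨x + y, by rw [vl_add, M.e_add]⟩
  inv_mem' := by
    rintro _ ⟨x, rfl⟩
    exact ⟨x, by rw [M.e_inv]⟩

section Vl

variable {V L : Subgroup G} (M : FiveMod V L)

theorem mem_Vl {g : G} : g ∈ Vl M ↔ ∃ u, M.e (vl u) = g := Iff.rfl

theorem Vl_le : Vl M ≤ V := by
  rintro _ ⟨u, rfl⟩
  exact M.e_mem _

theorem ent_mul_eq (A : Matrix.SpecialLinearGroup (Fin 2) (ZMod 2)) :
    ent A 0 0 * ent A 1 1 - ent A 0 1 * ent A 1 0 = 1 := by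
  have h := A.2
  rw [Matrix.det_fin_two] at h
  exact h

theorem exists_lift_vl (A : Matrix.SpecialLinearGroup (Fin 2) (ZMod 2)) :
    ∃ g ∈ L ⊓ centralizer ({M.e aa} : Set G), ∀ x, g * M.e (vl x) * g⁻¹ = M.e (vl (ap A x)) := by
  obtain ⟨p, h2, h3, hp⟩ := vl_lift _ _ _ _ (ent_mul_eq A)
  obtain ⟨g, hg, hi⟩ := M.exists_lift p
  have hi : M.Ind g p := hi
  refine ⟨g, ⟨hg, mem_C.2 ((hi.commute_iff _).2 (Or.inl (fix_aa p h2 h3)))⟩, fun x => ?_⟩
  rw [hi, hp]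
  rfl

/-- `V_l` as a module for `SL₂(2)` -/
def ml : RMod (ZMod 2) (Vl M) (normalizer (Vl M : Set G)) :=
  four (e := fun u => M.e (vl u)) (fun x y => by rw [vl_add, M.e_add])
    (fun x y h => vl_inj x y (M.e_eq_iff.1 h)) (fun _ => mem_Vl M)
    (fun A => by
      obtain ⟨g, -, hg⟩ := exists_lift_vl M A
      exact ⟨g, hg⟩)

theorem ml_e (u : Fin 2 → ZMod 2) : (ml M).e u = M.e (vl u) := rfl

theorem mem_line {g : G} : g ∈ (ml M).line ![1, 0] ↔ g = 1 ∨ g = M.e nn := by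
  rw [RMod.mem_line]
  constructor
  · rintro ⟨c, rfl⟩
    have hc : c = 0 ∨ c = 1 := by revert c; decide
    rcases hc with rfl | rfl
    · left
      rw [zero_smul]
      exact (ml M).e_zero
    · right
      rw [one_smul, ml_e, vl_nn]
  · rintro (rfl | rfl)
    · refine ⟨0, ?_⟩
      rw [zero_smul]
      exact (ml M).e_zero
    · refine ⟨1, ?_⟩
      rw [one_smul, ml_e, vl_nn]

theorem norm_line : normalizer ((ml M).line ![1, 0] : Set G) = centralizer ({M.e nn} : Set G) :=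
  MixOne.normalizer_two (fun _ => mem_line M) (n_ne M)

theorem card_Vl : Nat.card (Vl M) = 4 := by
  have h1 := (ml M).card_V
  rw [h1]
  simp

end Vl

/-! ### Generation -/

theorem vl_swap0 : ∀ u : Fin 2 → ZMod 2, ∃ v, vl u ∘ (Equiv.swap 0 4 : Equiv.Perm (Fin 5)).symm = vl v := by
  decide +kernel

theorem vl_swap1 : ∀ u : Fin 2 → ZMod 2, ∃ v, vl u ∘ (Equiv.swap 1 4 : Equiv.Perm (Fin 5)).symm = vl v := by
  decide +kernel

theorem nn_swap2 : nn ∘ (Equiv.swap 2 4 : Equiv.Perm (Fin 5)).symm = nn := by decide +kernel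

theorem nn_swap3 : nn ∘ (Equiv.swap 3 4 : Equiv.Perm (Fin 5)).symm = nn := by decide +kernel

theorem norm_Vl [Finite G] {V L : Subgroup G} {M : FiveMod V L} {g : G} {p : Equiv.Perm (Fin 5)} (hg : M.Ind g p)
    (hp : ∀ u, ∃ v, vl u ∘ p.symm = vl v) : g ∈ normalizer (Vl M : Set G) := by
  refine MinSimple.VModule.mem_normalizer_of_map_le ?_
  rintro _ ⟨_, ⟨u, rfl⟩, rfl⟩
  obtain ⟨v, hv⟩ := hp u
  exact ⟨v, by rw [← hv, ← hg]; rfl⟩

/-- `L ≤ ⟨C_G(n), N_G(V_l)⟩` -/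
theorem L_le_of [Finite G] {V L : Subgroup G} (M : FiveMod V L) {N : Subgroup G}
    (h1 : normalizer (Vl M : Set G) ≤ N) (h2 : centralizer ({M.e nn} : Set G) ≤ N) : L ≤ N := by
  let H : Subgroup (Equiv.Perm (Fin 5)) := (N.subgroupOf L).map M.pi
  have mk : ∀ p : Equiv.Perm (Fin 5), (∃ g ∈ L, g ∈ N ∧ M.Ind g p) → p ∈ H := by
    rintro p ⟨g, hg, hgN, hi⟩
    exact ⟨⟨g, hg⟩, mem_subgroupOf.2 hgN, M.pi_eq hi⟩
  have hcc : ∀ i : Fin 5, i ≠ 4 → i = 0 ∨ i = 1 ∨ i = 2 ∨ i = 3 := by decide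
  have s4 : ∀ i : Fin 5, i ≠ 4 → Equiv.swap i 4 ∈ H := by
    intro i hi
    refine mk _ ?_
    obtain ⟨g, hg, hgi⟩ := M.exists_lift (Equiv.swap i 4)
    have hgi : M.Ind g (Equiv.swap i 4) := hgi
    refine ⟨g, hg, ?_, hgi⟩
    have hc : i = 0 ∨ i = 1 ∨ i = 2 ∨ i = 3 := hcc i hi
    rcases hc with rfl | rfl | rfl | rfl
    · exact h1 (norm_Vl hgi vl_swap0)
    · exact h1 (norm_Vl hgi vl_swap1)
    · exact h2 (mem_C.2 ((hgi.commute_iff _).2 (Or.inl nn_swap2)))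
    · exact h2 (mem_C.2 ((hgi.commute_iff _).2 (Or.inl nn_swap3)))
  have hH : H = ⊤ := by
    rw [eq_top_iff, ← Equiv.Perm.closure_isSwap, closure_le]
    rintro _ ⟨i, j, hij, rfl⟩
    by_cases hi : i = 4
    · subst hi
      rw [Equiv.swap_comm]
      exact s4 j (Ne.symm hij)
    by_cases hj : j = 4
    · subst hj
      exact s4 i hi
    rw [swap4 i j hij hi hj]
    exact mul_mem (mul_mem (s4 i hi) (s4 j hj)) (s4 i hi)
  intro l hl
  have h3 : M.pi ⟨l, hl⟩ ∈ H := by rw [hH]; exact mem_top _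
  obtain ⟨g, hgN, hg⟩ := h3
  have h4 : M.Ind ((g : G)⁻¹ * l) ((M.pi g)⁻¹ * M.pi ⟨l, hl⟩) := (M.pi_spec g).inv.mul (M.pi_spec ⟨l, hl⟩)
  rw [hg, inv_mul_cancel, FiveMod.ind_one_iff] at h4
  have h5 : (g : G)⁻¹ * l ∈ N := h2 (mem_C.2 (mem_centralizer_iff.1 h4 _ (M.e_mem nn)).symm)
  have h6 := mul_mem (mem_subgroupOf.1 hgN) h5
  have e : (g : G) * ((g : G)⁻¹ * l) = l := by group
  rwa [e] at h6

/-! ### The mixed pair -/

section wr

variable [Finite G] {S S' : Sylow 2 G} {P P' V₁ V₂ L₁ L₂ V₁' V₂' L₁' L₂' : Subgroup G} {M₁ : FiveMod V₁ L₁}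
  {M₂ : FiveMod V₂ L₂} {M₁' : FiveMod V₁' L₁'} {M₂' : FiveMod V₂' L₂'}

section one

variable (w : Wr S P M₁ M₂)
include w

theorem T_norm_Vl : (S : Subgroup G) ⊓ centralizer ({M₁.e nn} : Set G) ≤ normalizer (Vl M₁ : Set G) := by
  intro t ht
  obtain ⟨p, q, hp, hi, -⟩ := w.T_ind ht
  exact norm_Vl hi (vl_ttp p hp)

/-- HALF LEMMA for the 2-locals over `C_G(n)`, `N_G(V_l)` -/
theorem half_of {K : Subgroup G} (hK : IsPGroup 2 K) (hK1 : K ≠ ⊥)
    (h1 : normalizer (Vl M₁ : Set G) ≤ normalizer (K : Set G))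
    (h2 : centralizer ({M₁.e nn} : Set G) ≤ normalizer (K : Set G)) :
    V₁ ≤ o2 (normalizer (K : Set G)) ∧ o2 (normalizer (K : Set G)) ≤ centralizer (V₁ : Set G) := by
  have hL : L₁ ≤ normalizer (K : Set G) := L_le_of M₁ h1 h2
  have hS : (S : Subgroup G) ⊓ normalizer (V₁ : Set G) ≤ normalizer (K : Set G) := by
    intro y hy
    obtain ⟨x, hx, hi⟩ := w.exists_x
    rcases w.mem_or₁ hx.1 hi hy with h | h
    · exact h2 h.2
    · have h3 := mul_mem (h2 h.2) (inv_mem (hL hx.2))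
      rwa [mul_inv_cancel_right] at h3
  exact ⟨w.half_le (MinSimple.Basic.char2_normalizer w.hG hK hK1) hL hS, w.half_cent hL hS⟩

/-- `n ∈ Z(O₂(C_G(a)))` -/
theorem n_center : M₁.e nn ∈ O2 (centralizer ({M₁.e aa} : Set G)) ∧
    ∀ q ∈ O2 (centralizer ({M₁.e aa} : Set G)), M₁.e nn * q = q * M₁.e nn := by
  change M₁.e nn ∈ o2 (centralizer ({M₁.e aa} : Set G)) ∧
    ∀ q ∈ o2 (centralizer ({M₁.e aa} : Set G)), M₁.e nn * q = q * M₁.e nn
  obtain ⟨x, hx, hi⟩ := w.exists_x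
  have h1 := Wr.tt_n hi
  have h2 := Wr.tt_a hi
  rw [← h1, Triangle.o2_cent_conj]
  constructor
  · refine ⟨M₁.e aa, w.V₁_le_o2 (M₁.e_mem aa), ?_⟩
    exact h2
  · rintro _ ⟨q, hq, rfl⟩
    change M₁.e nn * (x * q * x⁻¹) = x * q * x⁻¹ * M₁.e nn
    have h3 := w.perp_cent hq (y := aa) (by decide)
    rw [← h2]
    calc x * M₁.e aa * x⁻¹ * (x * q * x⁻¹) = x * (M₁.e aa * q) * x⁻¹ := by group
      _ = x * (q * M₁.e aa) * x⁻¹ := by rw [h3]
      _ = x * q * x⁻¹ * (x * M₁.e aa * x⁻¹) := by group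

/-- `v = v_l v'`, `v' ∈ Z(O₂(C_G(n)))` -/
theorem exists_split {v : G} (hv : v ∈ V₁) : ∃ a ∈ Vl M₁, ∃ b ∈ V₁,
    (∀ q ∈ o2 (centralizer ({M₁.e nn} : Set G)), b * q = q * b) ∧ v = a * b := by
  obtain ⟨y, rfl⟩ := (M₁.mem_iff v).1 hv
  obtain ⟨u, y', hy', hy⟩ := vec_split y
  exact ⟨M₁.e (vl u), ⟨u, rfl⟩, M₁.e y', M₁.e_mem _, fun q hq => (w.perp_cent hq hy').symm, by
    rw [← M₁.e_add, ← hy]⟩

end one

/-- **No mixed pair.** -/
theorem mixed_false (w : Wr S P M₁ M₂) (w' : Wr S' P' M₁' M₂') (hn : M₁'.e nn = M₁.e nn)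
    (ha : M₁'.e aa = M₁.e aa)
    (hT : (S' : Subgroup G) ⊓ centralizer ({M₁.e nn} : Set G) = (S : Subgroup G) ⊓ centralizer ({M₁.e nn} : Set G))
    (ho : ¬ 2 ∣ ((S : Subgroup G) ⊓ centralizer ({M₁.e nn} : Set G)).relIndex (centralizer ({M₁.e nn} : Set G)))
    (h1 : ∀ g ∈ centralizer ({M₁.e nn} : Set G), ∀ v ∈ V₁, ∀ u ∈ V₁, v * (g * u * g⁻¹) = g * u * g⁻¹ * v)
    (h2 : ∀ g ∈ centralizer ({M₁.e nn} : Set G), ∀ v ∈ V₁', ∀ u ∈ V₁', v * (g * u * g⁻¹) = g * u * g⁻¹ * v)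
    {g v u : G} (hg : g ∈ centralizer ({M₁.e nn} : Set G)) (hv : v ∈ V₁) (hu : u ∈ V₁')
    (hne : ¬ v * (g * u * g⁻¹) = g * u * g⁻¹ * v) : False := by
  have hvne : (![1, 0] : Fin 2 → ZMod 2) ≠ 0 := by decide
  have hfact : Fact (Nat.Prime 2) := ⟨Nat.prime_two⟩
  set R := (ml M₁).line ![1, 0] with hR
  set T := (S : Subgroup G) ⊓ centralizer ({M₁.e nn} : Set G) with hTdef
  set Q := o2 (centralizer ({M₁.e nn} : Set G)) with hQ
  have hRR : R = (ml M₁').line ![1, 0] := by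
    ext x
    rw [hR, mem_line, mem_line, hn]
  have hRn : normalizer (R : Set G) = centralizer ({M₁.e nn} : Set G) := norm_line M₁
  have hgQ : ∀ {g q : G}, g ∈ centralizer ({M₁.e nn} : Set G) → q ∈ Q → g * q * g⁻¹ ∈ Q := fun hg hq =>
    (mem_normalizer_iff.1 (MinSimple.VModule.le_normalizer_o2 _ hg) _).1 hq
  have hV' : V₁' ≤ Q := by
    have := w'.V₁_le_o2
    rwa [hn] at this
  have hcj : ∀ {k : G}, k ∈ centralizer ({M₁.e nn} : Set G) → BTwo.cj k R = R := fun hk =>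
    cj_eq_self_iff.2 (by rw [hRn]; exact hk)
  have m : MixedT (ml M₁) (ml M₁') R T := by
    refine ⟨⟨![1, 0], hvne, rfl⟩, ⟨![1, 0], hvne, hRR⟩, S.isPGroup'.to_le inf_le_left, T_norm_Vl w, ?_, ?_, ?_,
      fun K hK hK1 => Mix.char2_normalizer w.hG hK hK1, LL_comm ?_, LL_comm ?_, ?_, ?_⟩
    · have := T_norm_Vl w'
      rwa [hn, hT] at this
    · rw [hRn]; exact inf_le_right
    · rw [hRn]; exact ho
    · intro k hk a ha' b hb
      rw [hRn] at hk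
      exact h1 k hk a (Vl_le M₁ ha') b (Vl_le M₁ hb)
    · intro k hk a ha' b hb
      rw [hRn] at hk
      exact h2 k hk a (Vl_le M₁' ha') b (Vl_le M₁' hb)
    · obtain ⟨a, ha', b, hb, hbq, rfl⟩ := exists_split w hv
      obtain ⟨c, hc, d, hd, hdq, rfl⟩ := exists_split w' hu
      rw [hn] at hdq
      have haQ : a ∈ Q := w.V₁_le_o2 (Vl_le M₁ ha')
      have hcQ : c ∈ Q := hV' (Vl_le M₁' hc)
      have hdQ : d ∈ Q := hV' hd
      refine ⟨a, V_le_LL _ _ ha', g * c * g⁻¹, cj_le_LL (V := Vl M₁') (hcj hg) (conj_mem_cj hc), fun h => hne ?_⟩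
      -- `g d g⁻¹` commutes with `Q`
      have hd' : ∀ q ∈ Q, (g * d * g⁻¹) * q = q * (g * d * g⁻¹) := by
        intro q hq
        have h3 : g⁻¹ * q * g ∈ Q := by
          have := hgQ (inv_mem hg) hq
          rwa [inv_inv] at this
        have h4 := hdq _ h3
        calc g * d * g⁻¹ * q = g * (d * (g⁻¹ * q * g)) * g⁻¹ := by group
          _ = g * (g⁻¹ * q * g * d) * g⁻¹ := by rw [h4]
          _ = q * (g * d * g⁻¹) := by group
      have e1 : g * (c * d) * g⁻¹ = (g * c * g⁻¹) * (g * d * g⁻¹) := by group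
      have h5 := hd' _ haQ
      have h6 := hbq _ (hgQ hg hcQ)
      have h7 := hbq _ (hgQ hg hdQ)
      rw [e1]
      calc a * b * (g * c * g⁻¹ * (g * d * g⁻¹)) = a * (b * (g * c * g⁻¹)) * (g * d * g⁻¹) := by
            simp only [mul_assoc]
        _ = a * (g * c * g⁻¹ * b) * (g * d * g⁻¹) := by rw [h6]
        _ = (a * (g * c * g⁻¹)) * (b * (g * d * g⁻¹)) := by simp only [mul_assoc]
        _ = (g * c * g⁻¹ * a) * (g * d * g⁻¹ * b) := by rw [h, h7]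
        _ = g * c * g⁻¹ * (a * (g * d * g⁻¹)) * b := by simp only [mul_assoc]
        _ = g * c * g⁻¹ * (g * d * g⁻¹ * a) * b := by rw [h5]
        _ = g * c * g⁻¹ * (g * d * g⁻¹) * (a * b) := by simp only [mul_assoc]
    · intro K hK k1 k2 k3
      by_contra hK1
      rw [hRn] at k3
      have h3 := half_of w hK hK1 k1 k3
      have h4 := half_of w' hK hK1 k2 (by rw [hn]; exact k3)
      have h5 : g * u * g⁻¹ ∈ o2 (normalizer (K : Set G)) :=
        (mem_normalizer_iff.1 (MinSimple.VModule.le_normalizer_o2 _ (k3 hg)) _).1 (h4.1 hu)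
      exact hne (mem_centralizer_iff.1 (h3.2 h5) v hv)
  obtain ⟨i, j, hi, hj, t⟩ := m.two
  have hz1 : M₁.e aa ∈ ⨅ p, YY (LL (Vl M₁') R (pt (ml M₁) p)) (LL (Vl M₁) R (pt (ml M₁) p)) := by
    refine m.mem_iInf (L := L₁ ⊓ centralizer ({M₁.e aa} : Set G)) (fun A => ?_) (fun t ht => w.T_comm_a ht)
      (fun g hg => mem_C.1 hg.2)
    obtain ⟨g, hg, hi⟩ := exists_lift_vl M₁ A
    exact ⟨g, hg, hi⟩
  have hz2 : M₁.e aa ∈ ⨅ p, YY (LL (Vl M₁) R (pt (ml M₁') p)) (LL (Vl M₁') R (pt (ml M₁') p)) := by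
    refine m.symm.mem_iInf (L := L₁' ⊓ centralizer ({M₁.e aa} : Set G)) (fun A => ?_) (fun t ht => w.T_comm_a ht)
      (fun g hg => mem_C.1 hg.2)
    obtain ⟨g, hg, hi⟩ := exists_lift_vl M₁' A
    rw [ha] at hg
    exact ⟨g, hg, hi⟩
  refine t.false_of_z (n_ne M₁) (fun x => ?_) (card_Vl M₁) (card_Vl M₁') hz1 hz2 (n_center w)
  rw [hi]
  exact mem_line M₁

end wr

end Cfsg.Agent.Omega.IId.LFour.MixedW

end
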