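import Cfsg.Agent.Mrg.Omega.IId.LFour.TriP
import Cfsg.Agent.Mrg.Omega.IId.LFour.Quarter
import Cfsg.Agent.Mrg.Omega.IId.SwNat.Trace
import Cfsg.Agent.Mrg.Omega.FFMutual
import Cfsg.Agent.Mrg.Omega.IId.Sup
import Cfsg.Agent.Mrg.Omega.NO1.Nat.Space
import Cfsg.Agent.Mrg.Omega.HOneTwo.Basic
import Cfsg.Agent.Mrg.Omega.IId.LFour.Crux

section


/-!
# Normalisation of a mixed pair `S₅ wr 2` / `S₅ wr 2` (project OMEGA, II.d L4; helper644 #19215)

`w : Wr S P M₁ M₂`, `S₁ = N_S(V₁)`, `n = M₁.e nn`, `T = C_S(n)`.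

* `Wr.cj` : the conjugate of a structure `Wr`;
* `Wr.zT_cases₈` : `Ω₁(Z(T)) = ⟨n, σ₁, σ₂⟩`;
* `Wr.S₁_syl_Nn` : `S₁` is a Sylow 2-subgroup of `N_G(T)`;
* `exists_two` : two structures with the same `n`, `T` Sylow in `C_G(n)`: after conjugation in `C_G(n)` the groups
  `T`, `S₁` and the elements `n`, `a`, `σ₁`, `σ₂` are the same for both of them.
-/

set_option autoImplicit false
set_option linter.unusedSectionVars false

namespace Cfsg.Agent.Omega.IId.LFour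

open Subgroup Pointwise Cfsg Cfsg.Agent.Omega.MinPar Cfsg.Agent.Omega.FFThm
open Cfsg.Agent.ZN (o2 zc zl)
open Cfsg.Agent.ZN.ChoiceBase (mem_cj cj_cj cj_inv_cj cj_cj_inv)
open Cfsg.Agent.Omega.S5.Mod Cfsg.Agent.Omega.S5.TT
open Cfsg.Agent.Omega.S5.TT.Pos (na ns as sn n_ne s_ne a_ne n_ne_a n_ne_s a_ne_s e_sq' mem_C)
open Cfsg.Agent.Omega.Half (Amb amb_of_loc)
open Cfsg.Agent.MinSimple.VModule (mem_zc zc_le zc_comm zc_sq zc_le_zl le_normalizer_o2 o2_isPGroup o2_le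
  normalizer_le_normalizer_zc le_normalizer_zl)
open Cfsg.Agent.Omega.TwoFFour (Syl2)

universe u

variable {G : Type u} [Group G]

/-! ### Conjugates -/

theorem Sw.cj {V₁ V₂ L₁ L₂ : Subgroup G} {M₁ : FiveMod V₁ L₁} {M₂ : FiveMod V₂ L₂} {s : G}
    {p q : Equiv.Perm (Fin 5)} (h : Sw M₁ M₂ s p q) (g : G) :
    Sw (M₁.cj g) (M₂.cj g) (g * s * g⁻¹) p q := by
  refine ⟨fun x => ?_, fun x => ?_⟩
  · rw [FiveMod.cj_e, FiveMod.cj_e, ← h.1]; group
  · rw [FiveMod.cj_e, FiveMod.cj_e, ← h.2]; group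

theorem Wr.cj {S : Sylow 2 G} {P V₁ V₂ L₁ L₂ : Subgroup G} {M₁ : FiveMod V₁ L₁} {M₂ : FiveMod V₂ L₂}
    (w : Wr S P M₁ M₂) (g : G) : Wr (sy g S) (ZN.ChoiceBase.cj g P) (M₁.cj g) (M₂.cj g) where
  hG := w.hG
  star := by rw [sy_coe]; exact isParS_cj w.star g
  L₁_eq := by
    rw [← ZN.ChoiceBase.cj_centralizer, ← ZN.ChoiceBase.cj_inf, ← w.L₁_eq]
  L₂_eq := by
    rw [← ZN.ChoiceBase.cj_centralizer, ← ZN.ChoiceBase.cj_inf, ← w.L₂_eq]
  sup := by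
    rw [sy_coe, zl_cj, w.sup]
    exact Subgroup.map_sup _ _ _
  inf := by
    rw [← ZN.ChoiceBase.cj_inf, w.inf]
    exact Subgroup.map_bot _
  mov h hh := by
    have e : g * (g⁻¹ * h * g) * g⁻¹ = h := by group
    rcases w.mov _ (mem_cj.1 hh) with ⟨p, q, h1, h2⟩ | ⟨p, q, h1⟩
    · have h3 := M₁.cj_ind (g := g) h1
      have h4 := M₂.cj_ind (g := g) h2
      rw [e] at h3 h4
      exact Or.inl ⟨p, q, h3, h4⟩
    · have h3 := h1.cj g
      rw [e] at h3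
      exact Or.inr ⟨p, q, h3⟩
  swap := by
    obtain ⟨s, hs, p, q, h⟩ := w.swap
    refine ⟨g * s * g⁻¹, ?_, p, q, h.cj g⟩
    rw [sy_coe]
    exact ⟨s, hs, rfl⟩
  d₁ h hh p hp := by
    rw [sy_coe] at hh
    exact w.d₁ _ ⟨mem_cj.1 hh.1, mem_cj.1 hh.2⟩ p (M₁.ind_of_cj hp)
  d₁' p hp := by
    obtain ⟨h, hh, hi⟩ := w.d₁' p hp
    rw [sy_coe]
    exact ⟨g * h * g⁻¹, ⟨⟨h, hh.1, rfl⟩, ⟨h, hh.2, rfl⟩⟩, M₁.cj_ind hi⟩
  d₂ h hh p hp := by
    rw [sy_coe] at hh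
    exact w.d₂ _ ⟨mem_cj.1 hh.1, mem_cj.1 hh.2⟩ p (M₂.ind_of_cj hp)
  d₂' p hp := by
    obtain ⟨h, hh, hi⟩ := w.d₂' p hp
    rw [sy_coe]
    exact ⟨g * h * g⁻¹, ⟨⟨h, hh.1, rfl⟩, ⟨h, hh.2, rfl⟩⟩, M₂.cj_ind hi⟩

namespace Wr

variable {S : Sylow 2 G} {P V₁ V₂ L₁ L₂ : Subgroup G} {M₁ : FiveMod V₁ L₁} {M₂ : FiveMod V₂ L₂}

section fin

variable [Finite G] (w : Wr S P M₁ M₂)
include w

/-- `Ω₁(Z(T)) = ⟨n, σ₁, σ₂⟩` -/
theorem zT_cases₈ {y : G} (hy : y ∈ zc ((S : Subgroup G) ⊓ centralizer ({M₁.e nn} : Set G))) :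
    y = 1 ∨ y = M₁.e ss ∨ y = M₂.e ss ∨ y = M₁.e ss * M₂.e ss ∨ y = M₁.e nn ∨ y = M₁.e aa ∨
      y = M₁.e nn * M₂.e ss ∨ y = M₁.e aa * M₂.e ss := by
  obtain ⟨x, hx, hi⟩ := w.exists_x
  set T := (S : Subgroup G) ⊓ centralizer ({M₁.e nn} : Set G) with hT
  set S₁ := (S : Subgroup G) ⊓ normalizer (V₁ : Set G) with hS₁
  have hxS : x ∈ S₁ := ⟨hx.1, hi.mem_normalizer⟩
  -- the elements fixed by `x`
  have key : ∀ y ∈ zc T, x * y * x⁻¹ = y → y = 1 ∨ y = M₁.e ss ∨ y = M₂.e ss ∨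
      y = M₁.e ss * M₂.e ss := by
    intro y hy hxy
    obtain ⟨hyT, hyc, hy2⟩ := mem_zc.1 hy
    have hxy' : x * y = y * x := mul_inv_eq_iff_eq_mul.1 hxy
    refine w.zS₁_le (mem_zc.2 ⟨w.T_le hyT, fun b hb => ?_, hy2⟩)
    rcases w.mem_or₁ hx.1 hi hb with h1 | h1
    · exact hyc b h1
    · refine mul_right_cancel (b := x) ?_
      calc b * y * x = b * x * y := by rw [mul_assoc, ← hxy', mul_assoc]
        _ = y * (b * x) := hyc _ h1
        _ = y * b * x := by rw [mul_assoc]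
  have hnT : M₁.e nn ∈ zc T := by
    refine mem_zc.2 ⟨w.n_mem_T, fun b hb => mem_C.1 hb.2, e_sq' M₁ nn⟩
  have hyy : y * y = 1 := by rw [← pow_two]; exact (mem_zc.1 hy).2.2
  rcases SwNat.zT_conj w hxS hy with h1 | h1
  · rcases key y hy h1 with h | h | h | h
    · exact Or.inl h
    · exact Or.inr (Or.inl h)
    · exact Or.inr (Or.inr (Or.inl h))
    · exact Or.inr (Or.inr (Or.inr (Or.inl h)))
  · have h2 : y * M₁.e nn ∈ zc T := (zc T).mul_mem hy hnT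
    have h3 : x * (y * M₁.e nn) * x⁻¹ = y * M₁.e nn := by
      calc x * (y * M₁.e nn) * x⁻¹ = (x * y * x⁻¹) * (x * M₁.e nn * x⁻¹) := by group
        _ = y * (M₁.e ss * M₁.e aa) := by rw [h1, tt_n hi, mul_assoc]
        _ = y * M₁.e nn := by rw [M₁.e_comm ss aa, as]
    have h4 : y = y * M₁.e nn * M₁.e nn := by rw [mul_assoc, M₁.e_sq, mul_one]
    have c2 : M₂.e ss * M₁.e nn = M₁.e nn * M₂.e ss := (w.comm (M₁.e_mem nn) (M₂.e_mem ss)).symm
    rcases key _ h2 h3 with h | h | h | h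
    · rw [h, one_mul] at h4
      exact Or.inr (Or.inr (Or.inr (Or.inr (Or.inl h4))))
    · rw [h, sn] at h4
      exact Or.inr (Or.inr (Or.inr (Or.inr (Or.inr (Or.inl h4)))))
    · rw [h, c2] at h4
      exact Or.inr (Or.inr (Or.inr (Or.inr (Or.inr (Or.inr (Or.inl h4))))))
    · rw [h, mul_assoc, c2, ← mul_assoc, sn] at h4
      exact Or.inr (Or.inr (Or.inr (Or.inr (Or.inr (Or.inr (Or.inr h4))))))

theorem n_zT : M₁.e nn ∈ zc ((S : Subgroup G) ⊓ centralizer ({M₁.e nn} : Set G)) :=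
  mem_zc.2 ⟨w.n_mem_T, fun _ hb => mem_C.1 hb.2, e_sq' M₁ nn⟩

/-- `S₁ ≤ N(T)` -/
theorem S₁_le_Nn : (S : Subgroup G) ⊓ normalizer (V₁ : Set G) ≤
    normalizer (((S : Subgroup G) ⊓ centralizer ({M₁.e nn} : Set G) : Subgroup G) : Set G) := by
  obtain ⟨x, hx, hi⟩ := w.exists_x
  have hxS : x ∈ (S : Subgroup G) ⊓ normalizer (V₁ : Set G) := ⟨hx.1, hi.mem_normalizer⟩
  exact Sym.le_normalizer_two w.T_le w.card_T₁

/-- `S₁` is a Sylow 2-subgroup of `C(σ₁)` -/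
theorem S₁_syl_s : Syl2 ((S : Subgroup G) ⊓ normalizer (V₁ : Set G)) (centralizer ({M₁.e ss} : Set G)) :=
  ⟨fun _ hg => mem_C.2 (w.S₁_comm_s₁ hg), S.isPGroup'.to_le inf_le_left, w.no_tri⟩

/-- **`S₁` is a Sylow 2-subgroup of `N_G(T)`.** -/
theorem S₁_syl_Nn : Syl2 ((S : Subgroup G) ⊓ normalizer (V₁ : Set G))
    (normalizer (((S : Subgroup G) ⊓ centralizer ({M₁.e nn} : Set G) : Subgroup G) : Set G)) := by
  obtain ⟨x, hx, hi⟩ := w.exists_x
  set T := (S : Subgroup G) ⊓ centralizer ({M₁.e nn} : Set G) with hT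
  set S₁ := (S : Subgroup G) ⊓ normalizer (V₁ : Set G) with hS₁
  have hxS : x ∈ S₁ := ⟨hx.1, hi.mem_normalizer⟩
  obtain ⟨R, hSR, hRN, hR2, hRs⟩ := Half.exists_sylow_le (S.isPGroup'.to_le inf_le_left) w.S₁_le_Nn
  suffices h : R ≤ S₁ by
    rw [le_antisymm h hSR] at hRs
    exact ⟨w.S₁_le_Nn, S.isPGroup'.to_le inf_le_left, hRs⟩
  by_contra hcon
  obtain ⟨r, hr, hrS, hrn⟩ := exists_mem_normalizer hR2 hSR hcon
  have hrT := hRN hr
  -- `r` centralises `σ₁`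
  have hzc : ∀ y ∈ zc T, r * y * r⁻¹ ∈ zc T := fun y hy =>
    (mem_normalizer_iff.1 (normalizer_le_normalizer_zc _ hrT) y).1 hy
  have h1 : r * M₁.e ss * r⁻¹ = M₁.e ss := by
    have h2 : r * x * r⁻¹ ∈ S₁ := (mem_normalizer_iff.1 hrn x).1 hxS
    have e : r * M₁.e ss * r⁻¹ = (r * M₁.e nn * r⁻¹) * ((r * x * r⁻¹) * (r * M₁.e nn * r⁻¹) * (r * x * r⁻¹)⁻¹) := by
      calc r * M₁.e ss * r⁻¹ = r * (M₁.e nn * M₁.e aa) * r⁻¹ := by rw [na]
        _ = r * (M₁.e nn * (x * M₁.e nn * x⁻¹)) * r⁻¹ := by rw [tt_n hi]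
        _ = _ := by group
    have hne : r * M₁.e ss * r⁻¹ ≠ 1 := fun h => s_ne M₁ (by
      have := congrArg (fun u => r⁻¹ * u * r) h
      simpa [mul_assoc] using this)
    have hsq : (r * M₁.e nn * r⁻¹) * (r * M₁.e nn * r⁻¹) = 1 := by
      rw [← pow_two]
      exact (mem_zc.1 (hzc _ w.n_zT)).2.2
    rcases SwNat.zT_conj w h2 (hzc _ w.n_zT) with h3 | h3
    · rw [h3, hsq] at e
      exact absurd e hne
    · rw [h3, ← mul_assoc, hsq, one_mul] at e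
      exact e
  have h3 : R ⊓ centralizer ({M₁.e ss} : Set G) ≤ S₁ := by
    have h4 := card_le_of_syl w.S₁_syl_s (R := R ⊓ centralizer ({M₁.e ss} : Set G)) inf_le_right
      (hR2.to_le inf_le_left)
    exact (eq_of_le_of_card_ge (le_inf hSR w.S₁_syl_s.le) h4).ge
  exact hrS (h3 ⟨hr, mem_C.2 (mul_inv_eq_iff_eq_mul.1 h1)⟩)

/-- `n` is not conjugate to an element centralised by `S₁` -/
theorem not_conj (hsyl : ¬ 2 ∣ ((S : Subgroup G) ⊓ centralizer ({M₁.e nn} : Set G)).relIndex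
    (centralizer ({M₁.e nn} : Set G))) {g : G}
    (h : ∀ b ∈ (S : Subgroup G) ⊓ normalizer (V₁ : Set G), b * (g * M₁.e nn * g⁻¹) = g * M₁.e nn * g⁻¹ * b) :
    False := by
  have hcard := w.card_T₁
  set T := (S : Subgroup G) ⊓ centralizer ({M₁.e nn} : Set G) with hT
  set S₁ := (S : Subgroup G) ⊓ normalizer (V₁ : Set G) with hS₁
  have hT2 : Syl2 T (centralizer ({M₁.e nn} : Set G)) := ⟨inf_le_right, S.isPGroup'.to_le inf_le_left, hsyl⟩
  have h1 : ZN.ChoiceBase.cj g⁻¹ S₁ ≤ centralizer ({M₁.e nn} : Set G) := by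
    rintro _ ⟨b, hb, rfl⟩
    have h2 := h b hb
    refine mem_C.2 ?_
    change g⁻¹ * b * g⁻¹⁻¹ * M₁.e nn = M₁.e nn * (g⁻¹ * b * g⁻¹⁻¹)
    calc g⁻¹ * b * g⁻¹⁻¹ * M₁.e nn = g⁻¹ * (b * (g * M₁.e nn * g⁻¹)) * g := by group
      _ = g⁻¹ * (g * M₁.e nn * g⁻¹ * b) * g := by rw [h2]
      _ = M₁.e nn * (g⁻¹ * b * g⁻¹⁻¹) := by group
  have h2 := card_le_of_syl hT2 h1 (ZN.ChoiceBase.isPGroup_cj _ (S.isPGroup'.to_le inf_le_left))
  rw [ZN.ChoiceBase.card_cj, hcard] at h2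
  have h3 : 0 < Nat.card T := Nat.card_pos
  omega

/-- **`N_G(T)` maps `n` to `n` or `a`.** -/
theorem conj_n (hsyl : ¬ 2 ∣ ((S : Subgroup G) ⊓ centralizer ({M₁.e nn} : Set G)).relIndex
    (centralizer ({M₁.e nn} : Set G))) {g : G}
    (hg : g ∈ normalizer (((S : Subgroup G) ⊓ centralizer ({M₁.e nn} : Set G) : Subgroup G) : Set G)) :
    g * M₁.e nn * g⁻¹ = M₁.e nn ∨ g * M₁.e nn * g⁻¹ = M₁.e aa := by
  obtain ⟨x, hx, hi⟩ := w.exists_x
  have hncj := fun g h => w.not_conj hsyl (g := g) h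
  have hN := w.S₁_syl_Nn
  have hcard := w.card_T₁
  have hn_zT := w.n_zT
  have hcs := fun {g} hg => w.S₁_comm_s₁ (g := g) hg
  have hct := fun {g} hg => w.S₁_comm_s₂ (g := g) hg
  have hzT := fun {y} hy => w.zT_cases₈ (y := y) hy
  set T := (S : Subgroup G) ⊓ centralizer ({M₁.e nn} : Set G) with hT
  set S₁ := (S : Subgroup G) ⊓ normalizer (V₁ : Set G) with hS₁
  have hxS : x ∈ S₁ := ⟨hx.1, hi.mem_normalizer⟩
  set O : Set G := {y | ∃ g ∈ normalizer (T : Set G), g * M₁.e nn * g⁻¹ = y} with hO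
  have hsub : O ⊆ {M₁.e nn, M₁.e aa, M₁.e nn * M₂.e ss, M₁.e aa * M₂.e ss} := by
    rintro _ ⟨g, hg, rfl⟩
    have h1 : g * M₁.e nn * g⁻¹ ∈ zc T :=
      (mem_normalizer_iff.1 (normalizer_le_normalizer_zc _ hg) _).1 hn_zT
    rcases hzT h1 with h | h | h | h | h | h | h | h
    · exfalso
      apply n_ne M₁
      have h2 := congrArg (fun u => g⁻¹ * u * g) h
      simpa [mul_assoc] using h2
    · exfalso
      refine hncj g fun b hb => ?_
      rw [h]; exact hcs hb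
    · exfalso
      refine hncj g fun b hb => ?_
      rw [h]; exact hct hb
    · exfalso
      refine hncj g fun b hb => ?_
      rw [h, ← mul_assoc, hcs hb, mul_assoc, hct hb, mul_assoc]
    · simp [h]
    · simp [h]
    · simp [h]
    · simp [h]
  have hOle : O.ncard ≤ 4 := by
    refine (Set.ncard_le_ncard hsub (Set.toFinite _)).trans ?_
    refine (Set.ncard_insert_le _ _).trans ?_
    refine Nat.succ_le_succ ?_
    refine (Set.ncard_insert_le _ _).trans ?_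
    refine Nat.succ_le_succ ?_
    refine (Set.ncard_insert_le _ _).trans ?_
    rw [Set.ncard_singleton]
  have horb : (centralizer ({M₁.e nn} : Set G)).relIndex (normalizer (T : Set G)) = O.ncard :=
    NO1.Nat.SevenA.orb (normalizer (T : Set G)) (M₁.e nn)
  have hTC : T ≤ centralizer ({M₁.e nn} : Set G) ⊓ normalizer (T : Set G) := le_inf inf_le_right le_normalizer
  -- `|N(T)| = |S₁| k₁`
  have c1 := Half.card_mul_relIndex hN.le
  have c2 := Half.card_mul_relIndex hTC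
  have c3 := Half.card_mul_relIndex (inf_le_right : centralizer ({M₁.e nn} : Set G) ⊓ normalizer (T : Set G) ≤
    normalizer (T : Set G))
  rw [inf_relIndex_right, horb] at c3
  have hodd₁ := hN.odd
  have hodd₂ : ¬ 2 ∣ T.relIndex (centralizer ({M₁.e nn} : Set G) ⊓ normalizer (T : Set G)) := by
    intro h
    apply hsyl
    rw [← relIndex_mul_relIndex T _ _ hTC inf_le_left]
    exact h.mul_right _
  have hTpos : 0 < Nat.card T := Nat.card_pos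
  have c4 : 2 * S₁.relIndex (normalizer (T : Set G)) =
      T.relIndex (centralizer ({M₁.e nn} : Set G) ⊓ normalizer (T : Set G)) * O.ncard := by
    refine Nat.eq_of_mul_eq_mul_left hTpos ?_
    rw [← mul_assoc, ← mul_assoc, c2, c3, ← c1, hcard, mul_comm 2]
  have hm : O.ncard = 2 := by
    generalize T.relIndex (centralizer ({M₁.e nn} : Set G) ⊓ normalizer (T : Set G)) = k₂ at c4 hodd₂
    generalize S₁.relIndex (normalizer (T : Set G)) = k₁ at c4 hodd₁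
    generalize O.ncard = m at c4 hOle
    have h1 : m = 0 ∨ m = 1 ∨ m = 2 ∨ m = 3 ∨ m = 4 := by omega
    rcases h1 with rfl | rfl | rfl | rfl | rfl <;> omega
  have hnO : M₁.e nn ∈ O := ⟨1, one_mem _, by group⟩
  have haO : M₁.e aa ∈ O := ⟨x, hN.le hxS, tt_n hi⟩
  have hpair : ({M₁.e nn, M₁.e aa} : Set G) = O := by
    refine Set.eq_of_subset_of_ncard_le ?_ ?_ (Set.toFinite _)
    · rintro y (rfl | rfl)
      · exact hnO
      · exact haO
    · rw [hm, Set.ncard_pair (n_ne_a M₁)]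
  have hgO : g * M₁.e nn * g⁻¹ ∈ O := ⟨g, hg, rfl⟩
  rw [← hpair] at hgO
  exact hgO

end fin

end Wr

/-! ### Two structures -/

/-- Two structures `Wr` with the same `T`, `S₁`, `n`, `a`, `σ₁`, `σ₂`. -/
structure Two (S S' : Sylow 2 G) (P P' : Subgroup G) {V₁ V₂ L₁ L₂ V₁' V₂' L₁' L₂' : Subgroup G}
    (M₁ : FiveMod V₁ L₁) (M₂ : FiveMod V₂ L₂) (M₁' : FiveMod V₁' L₁') (M₂' : FiveMod V₂' L₂') : Prop where
  w : Wr S P M₁ M₂
  w' : Wr S' P' M₁' M₂'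
  n : M₁'.e nn = M₁.e nn
  a : M₁'.e aa = M₁.e aa
  s₁ : M₁'.e ss = M₁.e ss
  s₂ : M₂'.e ss = M₂.e ss
  S₁ : (S' : Subgroup G) ⊓ normalizer (V₁' : Set G) = (S : Subgroup G) ⊓ normalizer (V₁ : Set G)
  T : (S' : Subgroup G) ⊓ centralizer ({M₁.e nn} : Set G) = (S : Subgroup G) ⊓ centralizer ({M₁.e nn} : Set G)
  syl : ¬ 2 ∣ ((S : Subgroup G) ⊓ centralizer ({M₁.e nn} : Set G)).relIndex (centralizer ({M₁.e nn} : Set G))

theorem Two.symm {S S' : Sylow 2 G} {P P' : Subgroup G} {V₁ V₂ L₁ L₂ V₁' V₂' L₁' L₂' : Subgroup G}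
    {M₁ : FiveMod V₁ L₁} {M₂ : FiveMod V₂ L₂} {M₁' : FiveMod V₁' L₁'} {M₂' : FiveMod V₂' L₂'}
    (h : Two S S' P P' M₁ M₂ M₁' M₂') : Two S' S P' P M₁' M₂' M₁ M₂ where
  w := h.w'
  w' := h.w
  n := h.n.symm
  a := h.a.symm
  s₁ := h.s₁.symm
  s₂ := h.s₂.symm
  S₁ := h.S₁.symm
  T := by rw [h.n, h.T]
  syl := by rw [h.n, h.T]; exact h.syl

section two

variable [Finite G] {S S' : Sylow 2 G} {P P' : Subgroup G} {V₁ V₂ L₁ L₂ V₁' V₂' L₁' L₂' : Subgroup G}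
  {M₁ : FiveMod V₁ L₁} {M₂ : FiveMod V₂ L₂} {M₁' : FiveMod V₁' L₁'} {M₂' : FiveMod V₂' L₂'}

/-- the same `n`, `T` and `S₁` suffice -/
theorem two_of (w : Wr S P M₁ M₂) (w' : Wr S' P' M₁' M₂') (hn : M₁'.e nn = M₁.e nn)
    (hS : (S' : Subgroup G) ⊓ normalizer (V₁' : Set G) = (S : Subgroup G) ⊓ normalizer (V₁ : Set G))
    (hT : (S' : Subgroup G) ⊓ centralizer ({M₁.e nn} : Set G) = (S : Subgroup G) ⊓ centralizer ({M₁.e nn} : Set G))
    (hsyl : ¬ 2 ∣ ((S : Subgroup G) ⊓ centralizer ({M₁.e nn} : Set G)).relIndex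
      (centralizer ({M₁.e nn} : Set G))) : Two S S' P P' M₁ M₂ M₁' M₂' := by
  obtain ⟨x, hx, hi⟩ := w'.exists_x
  have ha : M₁'.e aa = M₁.e aa := by
    have h1 : x ∈ (S : Subgroup G) ⊓ normalizer (V₁ : Set G) := hS ▸ ⟨hx.1, hi.mem_normalizer⟩
    have h2 : x * M₁.e nn * x⁻¹ = M₁'.e aa := by rw [← hn]; exact Wr.tt_n hi
    rcases w.conj_n hsyl (w.S₁_le_Nn h1) with h3 | h3
    · exfalso
      rw [h2, ← hn] at h3
      exact n_ne_a M₁' h3.symm
    · rw [← h2, h3]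
  have hs : M₁'.e ss = M₁.e ss := by rw [← na, ← na, ha, hn]
  refine ⟨w, w', hn, ha, hs, ?_, hS, hT, hsyl⟩
  have h1 : M₂'.e ss ∈ zc ((S : Subgroup G) ⊓ normalizer (V₁ : Set G)) := by
    rw [← hS]
    exact mem_zc.2 ⟨w'.V₂_le_S₁ (M₂'.e_mem ss), fun b hb => w'.S₁_comm_s₂ hb, e_sq' M₂' ss⟩
  rcases w.zS₁_le h1 with h | h | h | h
  · exact absurd h (s_ne M₂')
  · exfalso
    exact s_ne M₂' (w'.V₁_ne_V₂ (by rw [h, ← hs]; exact M₁'.e_mem ss) (M₂'.e_mem ss))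
  · exact h
  · exfalso
    -- `σ₂'` would be 2-central
    obtain ⟨s, hs', p, q, hsw⟩ := w.swap
    have h2 : (S : Subgroup G) ≤ centralizer ({M₂'.e ss} : Set G) := by
      have e1 := w.sw_ss w.S_le hs' hsw
      have e2 := w.symm.sw_ss w.S_le hs' (p := q) (q := p) ⟨hsw.2, hsw.1⟩
      have h3 : s * (M₁.e ss * M₂.e ss) = M₁.e ss * M₂.e ss * s := by
        refine mul_inv_eq_iff_eq_mul.1 ?_
        calc s * (M₁.e ss * M₂.e ss) * s⁻¹ = (s * M₁.e ss * s⁻¹) * (s * M₂.e ss * s⁻¹) := by group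
          _ = M₂.e ss * M₁.e ss := by rw [e1, e2]
          _ = M₁.e ss * M₂.e ss := (w.comm (M₁.e_mem ss) (M₂.e_mem ss)).symm
      have h4 : ∀ b ∈ (S : Subgroup G) ⊓ normalizer (V₁ : Set G), b * (M₁.e ss * M₂.e ss) =
          M₁.e ss * M₂.e ss * b := fun b hb => by
        rw [← mul_assoc, w.S₁_comm_s₁ hb, mul_assoc, w.S₁_comm_s₂ hb, mul_assoc]
      intro b hb
      refine mem_C.2 ?_
      rw [h]
      rcases w.mem_or hs' hsw hb with h5 | h5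
      · exact h4 b h5
      · refine mul_right_cancel (b := s) ?_
        calc b * (M₁.e ss * M₂.e ss) * s = b * s * (M₁.e ss * M₂.e ss) := by rw [mul_assoc, ← h3, mul_assoc]
          _ = M₁.e ss * M₂.e ss * (b * s) := h4 _ h5
          _ = M₁.e ss * M₂.e ss * b * s := by rw [mul_assoc _ b]
    have h5 : Syl2 ((S' : Subgroup G) ⊓ normalizer (V₂' : Set G)) (centralizer ({M₂'.e ss} : Set G)) :=
      w'.symm.S₁_syl_s
    have h6 := card_le_of_syl h5 h2 S.isPGroup'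
    rw [← w'.S₁_eq, hS, w.card_S₁] at h6
    have h7 : 0 < Nat.card ((S : Subgroup G) ⊓ normalizer (V₁ : Set G) : Subgroup G) := Nat.card_pos
    omega

/-- **Normalisation.** -/
theorem exists_two (w : Wr S P M₁ M₂) (w' : Wr S' P' M₁' M₂') (hn : M₁'.e nn = M₁.e nn)
    (hsyl : ¬ 2 ∣ ((S : Subgroup G) ⊓ centralizer ({M₁.e nn} : Set G)).relIndex
      (centralizer ({M₁.e nn} : Set G))) :
    ∃ g ∈ centralizer ({M₁.e nn} : Set G),
      Two S (sy g S') P (ZN.ChoiceBase.cj g P') M₁ M₂ (M₁'.cj g) (M₂'.cj g) := by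
  obtain ⟨x, hx, hi⟩ := w.exists_x
  have hN := w.S₁_syl_Nn
  have hconj := fun {g} hg => w.conj_n hsyl (g := g) hg
  have hxS : x ∈ (S : Subgroup G) ⊓ normalizer (V₁ : Set G) := ⟨hx.1, hi.mem_normalizer⟩
  set C := centralizer ({M₁.e nn} : Set G) with hC
  set T := (S : Subgroup G) ⊓ C with hT
  have hcT : Nat.card ((S' : Subgroup G) ⊓ C : Subgroup G) = Nat.card T := by
    have h1 := w.card_T
    have h2 := w'.card_T
    rw [hn] at h2
    have h3 := Sym.card_eq_sylow S S'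
    have h4 : 4 * Nat.card ((S' : Subgroup G) ⊓ C : Subgroup G) = 4 * Nat.card T := by
      rw [← h1, ← h3, h2]
    omega
  obtain ⟨c, hc, hcT'⟩ := Sym.exists_conj_le_syl (inf_le_right : (S' : Subgroup G) ⊓ C ≤ C)
    (S.isPGroup'.to_le inf_le_left : IsPGroup 2 T) (S'.isPGroup'.to_le inf_le_left) hsyl
  have hcT2 : ZN.ChoiceBase.cj c ((S' : Subgroup G) ⊓ C) = T :=
    eq_of_le_of_card_ge hcT' (by rw [ZN.ChoiceBase.card_cj, hcT])
  have hcC : ZN.ChoiceBase.cj c C = C := ZN.ChoiceBase.cj_eq_of_mem_normalizer (le_normalizer hc)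
  have hcn : c * M₁.e nn * c⁻¹ = M₁.e nn := by rw [mem_C.1 hc, mul_inv_cancel_right]
  have w₁ := w'.cj c
  have hn₁ : (M₁'.cj c).e nn = M₁.e nn := by rw [FiveMod.cj_e, hn, hcn]
  have hT₁ : ((sy c S' : Sylow 2 G) : Subgroup G) ⊓ C = T := by
    rw [sy_coe, ← hcT2, ZN.ChoiceBase.cj_inf, hcC]
  have hN₁ := w₁.S₁_syl_Nn
  rw [hn₁, hT₁] at hN₁
  obtain ⟨y, hy, hy1, hy2⟩ := hN₁.exists_conj hN
  -- we may take `y ∈ C(n)`
  obtain ⟨y, hyN, hyC, hy1⟩ : ∃ y ∈ normalizer (T : Set G), y ∈ C ∧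
      ∀ g ∈ ((sy c S' : Sylow 2 G) : Subgroup G) ⊓ normalizer ((ZN.ChoiceBase.cj c V₁' : Subgroup G) : Set G),
        y * g * y⁻¹ ∈ (S : Subgroup G) ⊓ normalizer (V₁ : Set G) := by
    rcases hconj hy with h1 | h1
    · exact ⟨y, hy, mem_C.2 (mul_inv_eq_iff_eq_mul.1 h1), hy1⟩
    · refine ⟨x * y, mul_mem (hN.le hxS) hy, mem_C.2 (mul_inv_eq_iff_eq_mul.1 ?_), fun g hg => ?_⟩
      · calc x * y * M₁.e nn * (x * y)⁻¹ = x * (y * M₁.e nn * y⁻¹) * x⁻¹ := by group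
          _ = M₁.e nn := by rw [h1, Wr.tt_a hi]
      · have e : x * y * g * (x * y)⁻¹ = x * (y * g * y⁻¹) * x⁻¹ := by group
        rw [e]
        exact mul_mem (mul_mem hxS (hy1 g hg)) (inv_mem hxS)
  have hyc : y * c ∈ C := mul_mem hyC hc
  have w₂ := w'.cj (y * c)
  have hyn : y * M₁.e nn * y⁻¹ = M₁.e nn := by rw [mem_C.1 hyC, mul_inv_cancel_right]
  refine ⟨y * c, hyc, two_of w w₂ ?_ ?_ ?_ hsyl⟩
  · rw [FiveMod.cj_e, hn]
    calc y * c * M₁.e nn * (y * c)⁻¹ = y * (c * M₁.e nn * c⁻¹) * y⁻¹ := by group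
      _ = M₁.e nn := by rw [hcn, hyn]
  · refine eq_of_le_of_card_ge ?_ ?_
    · intro g hg
      rw [sy_coe] at hg
      have h1 : y⁻¹ * g * y ∈ ((sy c S' : Sylow 2 G) : Subgroup G) ⊓
          normalizer ((ZN.ChoiceBase.cj c V₁' : Subgroup G) : Set G) := by
        have h2 : ZN.ChoiceBase.cj (y * c) ((S' : Subgroup G) ⊓ normalizer (V₁' : Set G)) =
            ZN.ChoiceBase.cj y (ZN.ChoiceBase.cj c ((S' : Subgroup G) ⊓ normalizer (V₁' : Set G))) :=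
          (cj_cj _ _ _).symm
        have h3 : g ∈ ZN.ChoiceBase.cj (y * c) ((S' : Subgroup G) ⊓ normalizer (V₁' : Set G)) := by
          rw [ZN.ChoiceBase.cj_inf, ZN.ChoiceBase.cj_normalizer]
          exact hg
        rw [h2, mem_cj, ZN.ChoiceBase.cj_inf, ZN.ChoiceBase.cj_normalizer] at h3
        rw [sy_coe]
        exact h3
      have h2 := hy1 _ h1
      have e : y * (y⁻¹ * g * y) * y⁻¹ = g := by group
      rwa [e] at h2
    · have h1 := w.card_S₁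
      have h2 := w₂.card_S₁
      have h3 := Sym.card_eq_sylow S (sy (y * c) S')
      omega
  · rw [sy_coe]
    have h1 : ZN.ChoiceBase.cj (y * c) ((S' : Subgroup G) ⊓ C) = T := by
      rw [← cj_cj, hcT2]
      exact ZN.ChoiceBase.cj_eq_of_mem_normalizer hyN
    rw [ZN.ChoiceBase.cj_inf, ZN.ChoiceBase.cj_eq_of_mem_normalizer (le_normalizer hyc)] at h1
    exact h1

end two

end Cfsg.Agent.Omega.IId.LFour

end

section


/-!
# `S₅ wr 2`, the pure pair: the situation `HTT` over `T = C_S(n)` (project OMEGA, II.d L4; text 644 #19215 (B))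

`n = e {0 1}`, `a = e {2 3}`, `σ = e {4}`, `τ` = the singular vector `M₂.e ss`.
* `pt`, `Rl`, `Vl` : the three duads `{0 1}`, `{0 4}`, `{1 4}`, the points and the line `V_l` they span;
* `Tn`, `Pn` : `T = C_S(n)`, `P = T X`;
* `bt` : `BT V_l R`; `htt` : `HTT T P V_l R 0`; `mem_cz` : `C_{Ω₁Z(T)}(P) = {1, a, τ, aτ}`.
-/

set_option autoImplicit false
set_option linter.unusedSectionVars false

namespace Cfsg.Agent.Omega.IId.LFour.Htt

open Subgroup Pointwise Cfsg Cfsg.Agent.ZN Cfsg.Agent.Omega.MinPar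
open Cfsg.Agent.Omega.BTwo Cfsg.Agent.Omega.HT
open Cfsg.Agent.Omega.S5.Mod Cfsg.Agent.Omega.S5.TT
open Cfsg.Agent.Omega.S5.TT.Pos (na ns as sn n_ne s_ne a_ne n_ne_a n_ne_s a_ne_s e_sq' mem_C)
open Cfsg.Agent.Omega.IId.LFour.Crux (du DF df₁ swap_cases)
open Cfsg.Agent.Omega.IId.One (Kk mem_Kk Kk_conj conj_Kk)

universe u

variable {G : Type u} [Group G]

/-! ### Labels -/

/-- the duads `{0 1}`, `{0 4}`, `{1 4}` -/
def pt : Fin 3 → Vec := ![du 0 1, du 0 4, du 1 4]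

/-- the transpositions -/
def sw : Fin 3 → Equiv.Perm (Fin 5) := ![Equiv.swap 0 1, Equiv.swap 0 4, Equiv.swap 1 4]

theorem pt_zero : pt 0 = nn := by decide +kernel

theorem pt_ne : ∀ i : Fin 3, ¬ (pt i = 0 ∨ pt i = 1) := by decide +kernel

theorem pt_inj : ∀ i j : Fin 3, (pt i = pt j ∨ pt i = pt j + 1) → i = j := by decide +kernel

theorem pt_add : ∀ i j : Fin 3, i = j ∨ ∃ k, k ≠ i ∧ k ≠ j ∧ pt i + pt j = pt k := by decide +kernel

theorem pt_du : ∀ i : Fin 3, ∃ a b : Fin 5, a ≠ b ∧ pt i = du a b ∧ sw i = Equiv.swap a b := by decide +kernel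

theorem pt_sw : ∀ i j k : Fin 3, j ≠ i → k ≠ i → j = k ∨ pt j ∘ (sw i).symm = pt k := by decide +kernel

theorem pt_ttp : ∀ p : Equiv.Perm (Fin 5), TTp p → ∀ i : Fin 3, ∃ j, pt i ∘ p.symm = pt j := by
  intro p hp
  rcases hp with rfl | rfl | rfl | rfl <;> decide +kernel

theorem pt_move : ∀ i : Fin 3, ∃ p : Equiv.Perm (Fin 5), ∃ ρ : Equiv.Perm (Fin 3), ρ 0 = i ∧
    (∀ j, pt j ∘ p.symm = pt (ρ j)) ∧ p * sw 0 * p⁻¹ = sw i := by
  decide +kernel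

/-! ### Points and line -/

section defs

variable {V L : Subgroup G} (M : FiveMod V L)

/-- the points -/
def Rl (i : Fin 3) : Subgroup G where
  carrier := {x | x = 1 ∨ x = M.e (pt i)}
  mul_mem' := by
    rintro a b (rfl | rfl) (rfl | rfl)
    · left; exact one_mul 1
    · right; exact one_mul _
    · right; exact mul_one _
    · left; exact M.e_sq _
  one_mem' := Or.inl rfl
  inv_mem' := by
    rintro a (rfl | rfl)
    · left; exact inv_one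
    · right; exact M.e_inv _

/-- the line -/
def Vl : Subgroup G where
  carrier := {x | x = 1 ∨ ∃ i, x = M.e (pt i)}
  mul_mem' := by
    rintro a b (rfl | ⟨i, rfl⟩) (rfl | ⟨j, rfl⟩)
    · left; exact one_mul 1
    · right; exact ⟨j, one_mul _⟩
    · right; exact ⟨i, mul_one _⟩
    · rcases pt_add i j with rfl | ⟨k, -, -, hk⟩
      · left; exact M.e_sq _
      · right; exact ⟨k, by rw [← M.e_add, hk]⟩
  one_mem' := Or.inl rfl
  inv_mem' := by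
    rintro a (rfl | ⟨i, rfl⟩)
    · left; exact inv_one
    · right; exact ⟨i, M.e_inv _⟩

variable {M}

theorem mem_Rl {i : Fin 3} {x : G} : x ∈ Rl M i ↔ x = 1 ∨ x = M.e (pt i) := Iff.rfl

theorem mem_Vl {x : G} : x ∈ Vl M ↔ x = 1 ∨ ∃ i, x = M.e (pt i) := Iff.rfl

theorem pt_mem_R (i : Fin 3) : M.e (pt i) ∈ Rl M i := Or.inr rfl

theorem pt_mem (i : Fin 3) : M.e (pt i) ∈ Vl M := Or.inr ⟨i, rfl⟩

theorem e_pt_ne (i : Fin 3) : M.e (pt i) ≠ 1 := fun h => pt_ne i ((M.ker _).1 h)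

theorem e_pt_inj {i j : Fin 3} (h : M.e (pt i) = M.e (pt j)) : i = j := pt_inj i j (M.e_eq_iff.1 h)

theorem Vl_le : Vl M ≤ V := by
  rintro x (rfl | ⟨i, rfl⟩)
  · exact one_mem V
  · exact M.e_mem _

theorem Rl_le (i : Fin 3) : Rl M i ≤ Vl M := by
  rintro x (rfl | rfl)
  · exact one_mem _
  · exact pt_mem i

theorem card_Rl (i : Fin 3) : Nat.card (Rl M i) = 2 := by
  have h : ((Rl M i : Subgroup G) : Set G) = {1, M.e (pt i)} := by
    ext x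
    rw [Set.mem_insert_iff, Set.mem_singleton_iff]
    exact Iff.rfl
  change Nat.card ((Rl M i : Subgroup G) : Set G) = 2
  rw [h, Nat.card_coe_set_eq, Set.ncard_pair (e_pt_ne i).symm]

/-- `N(R i) = C(e (pt i))` -/
theorem normalizer_Rl (i : Fin 3) : normalizer (Rl M i : Set G) = centralizer ({M.e (pt i)} : Set G) := by
  ext g
  rw [mem_C]
  constructor
  · intro hg
    rcases (mem_normalizer_iff.1 hg _).1 (pt_mem_R i) with h | h
    · exact absurd (conj_eq_one_iff.1 h) (e_pt_ne i)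
    · exact mul_inv_eq_iff_eq_mul.1 h
  · intro hg
    rw [mem_normalizer_iff]
    intro x
    rw [mem_Rl, mem_Rl]
    constructor
    · rintro (rfl | rfl)
      · left; group
      · right; rw [hg, mul_inv_cancel_right]
    · rintro (h | h)
      · left; exact conj_eq_one_iff.1 h
      · right
        rw [mul_inv_eq_iff_eq_mul, ← hg] at h
        exact mul_left_cancel h

/-- an element inducing a permutation which permutes the three duads -/
theorem Ind.cj_Rl {g : G} {p : Equiv.Perm (Fin 5)} (h : M.Ind g p) {i j : Fin 3}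
    (hp : pt i ∘ p.symm = pt j) : cj g (Rl M i) = Rl M j := by
  have h1 : g * M.e (pt i) * g⁻¹ = M.e (pt j) := by rw [h, hp]
  ext x
  rw [mem_cj, mem_Rl, mem_Rl]
  constructor
  · rintro (h2 | h2)
    · left
      have : x = g * (g⁻¹ * x * g) * g⁻¹ := by group
      rw [this, h2]; group
    · right
      have : x = g * (g⁻¹ * x * g) * g⁻¹ := by group
      rw [this, h2, h1]
  · rintro (rfl | rfl)
    · left; group
    · right
      rw [← h1]; group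

theorem Ind.norm_Vl {g : G} {p : Equiv.Perm (Fin 5)} (h : M.Ind g p)
    (hp : ∀ i : Fin 3, ∃ j, pt i ∘ p.symm = pt j) : g ∈ normalizer (Vl M : Set G) := by
  rw [← cj_eq_self_iff]
  have h1 : cj g (Vl M) ≤ Vl M := by
    rintro _ ⟨x, (rfl | ⟨i, rfl⟩), rfl⟩
    · change g * 1 * g⁻¹ ∈ _
      rw [mul_one, mul_inv_cancel]
      exact one_mem _
    · change g * M.e (pt i) * g⁻¹ ∈ _
      obtain ⟨j, hj⟩ := hp i
      rw [h, hj]
      exact pt_mem j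
  choose f hf using hp
  have hinj : Function.Injective f := by
    intro i j hij
    apply e_pt_inj (M := M)
    have h2 : g * M.e (pt i) * g⁻¹ = g * M.e (pt j) * g⁻¹ := by
      rw [h, h, hf, hf, hij]
    exact mul_left_cancel (mul_right_cancel h2)
  refine le_antisymm h1 ?_
  rintro x (rfl | ⟨j, rfl⟩)
  · exact one_mem _
  · obtain ⟨i, rfl⟩ := (Finite.injective_iff_surjective.1 hinj) j
    rw [mem_cj]
    have h2 : g⁻¹ * M.e (pt (f i)) * g = M.e (pt i) := by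
      rw [← hf, ← h]; group
    rw [h2]
    exact pt_mem i

end defs

/-! ### `BT` -/

/-- `V_l` does not commute with its conjugates under `h`, `h⁻¹ ∈ N(R i)` -/
structure Mv {V L : Subgroup G} (M : FiveMod V L) (i : Fin 3) (h : G) : Prop where
  nor : h ∈ normalizer (Rl M i : Set G)
  pos : ∃ u ∈ Vl M, M.Ind (h * u * h⁻¹) (sw i)
  neg : ∃ u ∈ Vl M, M.Ind (h⁻¹ * u * h) (sw i)

theorem bt [Finite G] {V L V' : Subgroup G} {M : FiveMod V L} (d : DF M V')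
    (hmv : ∀ i, ∃ h, Mv M i h) : BT (Vl M) (Rl M) where
  V_comm a ha b hb := M.comm (Vl_le ha) (Vl_le hb)
  V_sq a ha := M.sq (Vl_le ha)
  R_le := Rl_le
  R_inf i j hij := by
    rw [eq_bot_iff]
    rintro x ⟨h1, h2⟩
    rw [mem_bot]
    rcases h1 with h1 | h1
    · exact h1
    rcases h2 with h2 | h2
    · exact h2
    exact absurd (e_pt_inj (h1.symm.trans h2)) hij
  R_sup i j hij := by
    refine le_antisymm (sup_le (Rl_le i) (Rl_le j)) ?_
    rintro x (rfl | ⟨k, rfl⟩)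
    · exact one_mem _
    by_cases hki : k = i
    · rw [hki]; exact mem_sup_left (pt_mem_R i)
    by_cases hkj : k = j
    · rw [hkj]; exact mem_sup_right (pt_mem_R j)
    rcases pt_add i j with h | ⟨l, hli, hlj, h⟩
    · exact absurd h hij
    · have hlk : l = k := by
        revert hij hki hkj hli hlj
        clear h
        revert i j k l
        decide
      rw [← hlk, ← h, M.e_add]
      exact mul_mem (mem_sup_left (pt_mem_R i)) (mem_sup_right (pt_mem_R j))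
  R_cov := by
    rintro v (rfl | ⟨i, rfl⟩)
    · exact ⟨0, one_mem _⟩
    · exact ⟨i, pt_mem_R i⟩
  R_ne i h := e_pt_ne (M := M) i (by
    have := pt_mem_R (M := M) i
    rw [h, mem_bot] at this
    exact this)
  third := by decide
  perm g hg i := by
    have h1 := (mem_normalizer_iff.1 hg _).1 (pt_mem (M := M) i)
    rcases h1 with h | ⟨j, h⟩
    · exact absurd (conj_eq_one_iff.1 h) (e_pt_ne i)
    · refine ⟨j, ?_⟩
      ext x
      rw [mem_cj, mem_Rl, mem_Rl]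
      constructor
      · rintro (h2 | h2)
        · left
          have : x = g * (g⁻¹ * x * g) * g⁻¹ := by group
          rw [this, h2]; group
        · right
          have : x = g * (g⁻¹ * x * g) * g⁻¹ := by group
          rw [this, h2, h]
      · rintro (rfl | rfl)
        · left; group
        · right
          rw [← h]; group
  V_Q i := by
    obtain ⟨a, b, hab, h1, -⟩ := pt_du i
    rw [QQ, normalizer_Rl, h1]
    exact Vl_le.trans (d.s a b hab)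
  QV i g hg v hv := by
    obtain ⟨a, b, hab, h1, -⟩ := pt_du i
    rw [QQ, normalizer_Rl, h1] at hg
    obtain ⟨x, rfl⟩ := (M.mem_iff v).1 (Vl_le hv)
    rcases d.ind a b hab g hg with h2 | h2
    · left
      rw [h2]
      change M.e x * _ = 1
      rw [mul_inv_cancel]
    · rw [h2.comm_eq, mem_Rl, h1]
      rcases swap_cases a b x with ⟨-, h3⟩ | ⟨-, h3⟩
      · left; rw [h3, add_self, M.e_zero]
      · right; rw [h3, add_add_cancel']
  QR i g hg a ha := by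
    rw [QQ, normalizer_Rl] at hg
    have h1 := mem_C.1 (o2_le _ hg)
    rcases ha with rfl | rfl
    · rw [mul_one, one_mul]
    · exact h1
  mt i := by
    obtain ⟨h, hn, ⟨u, hu, hui⟩, u', hu', hui'⟩ := hmv i
    refine ⟨h, hn, fun j k hj hk => ⟨?_, ?_⟩⟩
    · rcases pt_sw i j k hj hk with rfl | h1
      · refine ⟨1, one_mem _, ?_⟩
        rw [mul_one, mul_inv_cancel, cj_one]
      · exact ⟨u, hu, Ind.cj_Rl hui h1⟩
    · rcases pt_sw i j k hj hk with rfl | h1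
      · refine ⟨1, one_mem _, ?_⟩
        rw [mul_one, inv_mul_cancel, cj_one]
      · exact ⟨u', hu', Ind.cj_Rl hui' h1⟩

/-! ### The supply -/

section wr

variable {S : Sylow 2 G} {P V₁ V₂ L₁ L₂ : Subgroup G} {M₁ : FiveMod V₁ L₁} {M₂ : FiveMod V₂ L₂}
variable [Finite G] (wr : Wr S P M₁ M₂)

theorem sw_zero : sw 0 = Equiv.swap 0 1 := rfl

theorem vec_split : ∀ y : Vec, y 0 ≠ y 1 → (pt 1 + y) 0 = (pt 1 + y) 1 := by decide +kernel

theorem add_add_cancel_left' (x y : Vec) : x + (x + y) = y := by rw [← add_assoc, add_self, zero_add]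

include wr in
/-- the line acts as `(0 1)` -/
theorem exists_ind {h v w : G} (hh : h * M₁.e nn = M₁.e nn * h) (hv : v ∈ V₁) (hw : w ∈ V₁)
    (hne : v * (h * w * h⁻¹) ≠ h * w * h⁻¹ * v) :
    ∃ u ∈ Vl M₁, M₁.Ind (h * u * h⁻¹) (sw 0) ∧ h * u * h⁻¹ ∈ Kk (M₁.e nn) := by
  obtain ⟨y, rfl⟩ := (M₁.mem_iff w).1 hw
  have hhi : h⁻¹ * M₁.e nn * h = M₁.e nn := by rw [mul_assoc, ← hh]; group
  have hhn : h * M₁.e nn * h⁻¹ = M₁.e nn := by rw [hh]; group
  have hvQ : h⁻¹ * v * h ∈ o2 (centralizer ({M₁.e nn} : Set G)) := by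
    have h1 : h⁻¹ ∈ centralizer ({M₁.e nn} : Set G) := inv_mem (mem_C.2 hh)
    have := (mem_normalizer_iff.1 (le_normalizer_o2 _ h1) v).1 (wr.V₁_le_o2 hv)
    rwa [inv_inv] at this
  have hc : ∀ z : Vec, z 0 = z 1 → v * (h * M₁.e z * h⁻¹) = h * M₁.e z * h⁻¹ * v := by
    intro z hz
    have h1 := wr.perp_cent hvQ hz
    calc v * (h * M₁.e z * h⁻¹) = h * (h⁻¹ * v * h * M₁.e z) * h⁻¹ := by group
      _ = h * (M₁.e z * (h⁻¹ * v * h)) * h⁻¹ := by rw [h1]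
      _ = h * M₁.e z * h⁻¹ * v := by group
  have hK : h * M₁.e (pt 1) * h⁻¹ ∈ Kk (M₁.e nn) := conj_Kk hhn (wr.V₁_le_Kk (M₁.e_mem _))
  refine ⟨M₁.e (pt 1), pt_mem 1, ?_, hK⟩
  rcases wr.Kk_ind hK with h1 | h1
  · exfalso
    apply hne
    by_cases hy : y 0 = y 1
    · exact hc y hy
    have h2 := hc _ (vec_split y hy)
    have h3 : h * M₁.e y * h⁻¹ = h * M₁.e (pt 1) * h⁻¹ * (h * M₁.e (pt 1 + y) * h⁻¹) := by
      calc h * M₁.e y * h⁻¹ = h * M₁.e (pt 1 + (pt 1 + y)) * h⁻¹ := by rw [add_add_cancel_left']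
        _ = h * (M₁.e (pt 1) * M₁.e (pt 1 + y)) * h⁻¹ := by rw [M₁.e_add (pt 1) (pt 1 + y)]
        _ = _ := by group
    have h4 := mem_centralizer_iff.1 (FiveMod.ind_one_iff.1 h1) v hv
    rw [h3, ← mul_assoc, h4, mul_assoc, h2]
    group
  · exact h1

/-- the partner: a conjugate of `V₁` under `C(n)` which does not commute with `V₁` -/
def Ex (M₁ : FiveMod V₁ L₁) : Prop :=
  ∃ h, h * M₁.e nn = M₁.e nn * h ∧ ∃ v ∈ V₁, ∃ w ∈ V₁, v * (h * w * h⁻¹) ≠ h * w * h⁻¹ * v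

include wr in
theorem hk_of (ex : Ex M₁) : ∃ g ∈ Kk (M₁.e nn), M₁.Ind g (Equiv.swap 0 1) := by
  obtain ⟨h, hh, v, hv, w, hw, hne⟩ := ex
  obtain ⟨u, -, h1, h2⟩ := exists_ind wr hh hv hw hne
  exact ⟨_, h2, h1⟩

include wr in
theorem exists_Mv (ex : Ex M₁) (i : Fin 3) : ∃ h, Mv M₁ i h := by
  obtain ⟨h, hh, v, hv, w, hw, hne⟩ := ex
  have hhi : h⁻¹ * M₁.e nn = M₁.e nn * h⁻¹ := by
    rw [inv_mul_eq_iff_eq_mul, ← mul_assoc, hh, mul_inv_cancel_right]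
  obtain ⟨u, hu, h1, -⟩ := exists_ind wr hh hv hw hne
  obtain ⟨u', hu', h1', -⟩ := exists_ind wr hhi hw hv (fun h2 => hne (by
    rw [inv_inv] at h2
    calc v * (h * w * h⁻¹) = h * (h⁻¹ * v * h * w) * h⁻¹ := by group
      _ = h * (w * (h⁻¹ * v * h)) * h⁻¹ := by rw [h2]
      _ = h * w * h⁻¹ * v := by group))
  rw [inv_inv] at h1'
  obtain ⟨p, ρ, hρ, hp, hps⟩ := pt_move i
  obtain ⟨l, hl, hi⟩ := M₁.exists_lift p
  have hi : M₁.Ind l p := hi
  have hlV : l ∈ normalizer (Vl M₁ : Set G) := Ind.norm_Vl hi fun j => ⟨ρ j, hp j⟩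
  have hl0 : l * M₁.e (pt 0) * l⁻¹ = M₁.e (pt i) := by rw [hi, hp, hρ]
  refine ⟨l * h * l⁻¹, ?_, ⟨l * u * l⁻¹, (mem_normalizer_iff.1 hlV u).1 hu, ?_⟩,
    ⟨l * u' * l⁻¹, (mem_normalizer_iff.1 hlV u').1 hu', ?_⟩⟩
  · rw [normalizer_Rl, mem_C, ← hl0, pt_zero]
    calc l * h * l⁻¹ * (l * M₁.e nn * l⁻¹) = l * (h * M₁.e nn) * l⁻¹ := by group
      _ = l * (M₁.e nn * h) * l⁻¹ := by rw [hh]
      _ = l * M₁.e nn * l⁻¹ * (l * h * l⁻¹) := by group
  · have h3 := (hi.mul h1).mul hi.inv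
    rw [hps] at h3
    have e : l * h * l⁻¹ * (l * u * l⁻¹) * (l * h * l⁻¹)⁻¹ = l * (h * u * h⁻¹) * l⁻¹ := by group
    rw [e]
    exact h3
  · have h3 := (hi.mul h1').mul hi.inv
    rw [hps] at h3
    have e : (l * h * l⁻¹)⁻¹ * (l * u' * l⁻¹) * (l * h * l⁻¹) = l * (h⁻¹ * u' * h) * l⁻¹ := by group
    rw [e]
    exact h3

include wr in
theorem df_of (ex : Ex M₁) : DF M₁ V₂ := df₁ wr (hk_of wr ex)

include wr in
theorem bt_of (ex : Ex M₁) : BT (Vl M₁) (Rl M₁) := bt (df_of wr ex) (exists_Mv wr ex)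

/-! ### `T` and `P` -/

/-- `T = C_S(n)` -/
abbrev Tn (S : Sylow 2 G) (M₁ : FiveMod V₁ L₁) : Subgroup G :=
  (S : Subgroup G) ⊓ centralizer ({M₁.e nn} : Set G)

/-- `P = T X` -/
abbrev Pn (S : Sylow 2 G) (M₁ : FiveMod V₁ L₁) : Subgroup G := Tn S M₁ ⊔ XX (Vl M₁) (Rl M₁)

include wr in
theorem T_norm_Vl : Tn S M₁ ≤ normalizer (Vl M₁ : Set G) := by
  intro t ht
  obtain ⟨p, q, hp, hi, -⟩ := wr.T_ind ht
  exact Ind.norm_Vl hi (pt_ttp p hp)

/-- the elements of `N(V)` acting trivially on `Z V / V` -/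
def PZ (V Z : Subgroup G) : Subgroup G where
  carrier := {x | x ∈ normalizer (V : Set G) ∧ ∀ z ∈ Z, x * z * x⁻¹ * z⁻¹ ∈ V}
  mul_mem' := by
    rintro x y ⟨hx, hx'⟩ ⟨hy, hy'⟩
    refine ⟨mul_mem hx hy, fun z hz => ?_⟩
    have e : x * y * z * (x * y)⁻¹ * z⁻¹ = x * (y * z * y⁻¹ * z⁻¹) * x⁻¹ * (x * z * x⁻¹ * z⁻¹) := by group
    rw [e]
    exact mul_mem ((mem_normalizer_iff.1 hx _).1 (hy' z hz)) (hx' z hz)
  one_mem' := ⟨one_mem _, fun z _ => by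
    have e : 1 * z * 1⁻¹ * z⁻¹ = (1 : G) := by group
    rw [e]; exact one_mem _⟩
  inv_mem' := by
    rintro x ⟨hx, hx'⟩
    refine ⟨inv_mem hx, fun z hz => ?_⟩
    have e : x⁻¹ * z * x⁻¹⁻¹ * z⁻¹ = x⁻¹ * (x * z * x⁻¹ * z⁻¹)⁻¹ * x⁻¹⁻¹ := by group
    rw [e]
    exact (mem_normalizer_iff.1 (inv_mem hx) _).1 (inv_mem (hx' z hz))

include wr in
/-- `Q i` centralises `V₂` and acts on `V₁` as `⟨sw i⟩` -/
theorem Q_spec (ex : Ex M₁) {i : Fin 3} {g : G} (hg : g ∈ QQ (Rl M₁ i)) :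
    (M₁.Ind g 1 ∨ M₁.Ind g (sw i)) ∧ ∀ v ∈ V₂, v * g = g * v := by
  have d := df_of wr ex
  obtain ⟨a, b, hab, h1, h2⟩ := pt_du i
  rw [QQ, normalizer_Rl, h1] at hg
  refine ⟨?_, mem_centralizer_iff.1 (d.qc a b hab hg)⟩
  rw [h2]
  exact d.ind a b hab g hg

include wr in
theorem Q_comm (ex : Ex M₁) {i : Fin 3} {g : G} (hg : g ∈ QQ (Rl M₁ i)) (x : Vec) :
    g * M₁.e x * g⁻¹ * (M₁.e x)⁻¹ ∈ Vl M₁ := by
  obtain ⟨a, b, hab, h1, h2⟩ := pt_du i
  rcases (Q_spec wr ex hg).1 with h | h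
  · rw [h]
    change M₁.e x * _ ∈ _
    rw [mul_inv_cancel]
    exact one_mem _
  · rw [h2] at h
    rw [h.comm_eq]
    rcases swap_cases a b x with ⟨-, h3⟩ | ⟨-, h3⟩
    · rw [h3, add_self, M₁.e_zero]; exact one_mem _
    · rw [h3, add_add_cancel', ← h1]; exact pt_mem i

include wr in
/-- `[Q i, Ω₁(Z(T))] ≤ V_l` -/
theorem Q_zc (ex : Ex M₁) {i : Fin 3} {g z : G} (hg : g ∈ QQ (Rl M₁ i)) (hz : z ∈ zc (Tn S M₁)) :
    g * z * g⁻¹ * z⁻¹ ∈ Vl M₁ := by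
  have h2 := (Q_spec wr ex hg).2 (M₂.e ss) (M₂.e_mem ss)
  have h1 := Q_comm wr ex hg
  have key : ∀ x : Vec, g * (M₁.e x * M₂.e ss) * g⁻¹ * (M₁.e x * M₂.e ss)⁻¹ ∈ Vl M₁ := by
    intro x
    have e : g * (M₁.e x * M₂.e ss) * g⁻¹ * (M₁.e x * M₂.e ss)⁻¹ = g * M₁.e x * g⁻¹ * (M₁.e x)⁻¹ := by
      have h3 : M₂.e ss * g⁻¹ = g⁻¹ * M₂.e ss := by
        rw [eq_inv_mul_iff_mul_eq, ← mul_assoc, ← h2, mul_inv_cancel_right]
      calc g * (M₁.e x * M₂.e ss) * g⁻¹ * (M₁.e x * M₂.e ss)⁻¹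
          = g * M₁.e x * (M₂.e ss * g⁻¹) * (M₂.e ss)⁻¹ * (M₁.e x)⁻¹ := by group
        _ = g * M₁.e x * g⁻¹ * (M₁.e x)⁻¹ := by rw [h3]; group
    rw [e]
    exact h1 x
  have h0 : M₂.e ss = M₁.e 0 * M₂.e ss := by rw [M₁.e_zero, one_mul]
  rcases wr.zT_cases₈ hz with rfl | rfl | rfl | rfl | rfl | rfl | rfl | rfl
  · have e : g * 1 * g⁻¹ * 1⁻¹ = (1 : G) := by group
    rw [e]; exact one_mem _
  · exact h1 _
  · rw [h0]; exact key 0
  · exact key _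
  · exact h1 _
  · exact h1 _
  · exact key _
  · exact key _

include wr in
theorem P_le_PZ (ex : Ex M₁) : Pn S M₁ ≤ PZ (Vl M₁) (zc (Tn S M₁)) := by
  have b := bt_of wr ex
  refine sup_le (fun t ht => ⟨T_norm_Vl wr ht, fun z hz => ?_⟩) (iSup_le fun i => fun g hg => ⟨?_, fun z hz => ?_⟩)
  · rw [(mem_zc.1 hz).2.1 t ht]
    have e : z * t * t⁻¹ * z⁻¹ = (1 : G) := by group
    rw [e]; exact one_mem _
  · exact b.X_le_NV (W_le_X _ _ i hg)
  · exact Q_zc wr ex (b.W_le_Q i hg) hz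

/-- `O₂(M)` centralises `V_l` for every `M ≥ T, X` of characteristic 2 (LEMMA O) -/
def Loc (S : Sylow 2 G) (M₁ : FiveMod V₁ L₁) : Prop :=
  ∀ M : Subgroup G, Tn S M₁ ≤ M → XX (Vl M₁) (Rl M₁) ≤ M → o2 M ≠ ⊥ →
    M ⊓ centralizer (o2 M : Set G) ≤ o2 M → o2 M ≤ centralizer (Vl M₁ : Set G)

include wr in
theorem htt (ex : Ex M₁) (syl : ¬ 2 ∣ (Tn S M₁).relIndex (centralizer ({M₁.e nn} : Set G)))
    (loc : Loc S M₁) : HTT (Tn S M₁) (Pn S M₁) (Vl M₁) (Rl M₁) 0 where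
  toBT := bt_of wr ex
  card_R := card_Rl
  char2 := wr.hG
  S_p := S.isPGroup'.to_le inf_le_left
  S_odd := by rw [normalizer_Rl, pt_zero]; exact syl
  S_V := T_norm_Vl wr
  S_R := by rw [normalizer_Rl, pt_zero]; exact inf_le_right
  S_P := le_sup_left
  P_V := (P_le_PZ wr ex).trans fun _ h => h.1
  P_trans i := by
    obtain ⟨x, hx, e⟩ := (bt_of wr ex).trans_X_one 0 i
    exact ⟨x, mem_sup_right hx, e⟩
  P_Z x hx z hz := (P_le_PZ wr ex hx).2 z hz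
  loc := loc

/-! ### `C_{Ω₁Z(T)}(P)` -/

theorem perp_aa : ∀ i : Fin 3, aa ∘ (sw i).symm = aa := by decide +kernel

theorem move_nn : ¬ (nn ∘ (sw 1).symm = nn ∨ nn ∘ (sw 1).symm = nn + 1) := by decide +kernel

theorem move_ss : ¬ (ss ∘ (sw 1).symm = ss ∨ ss ∘ (sw 1).symm = ss + 1) := by decide +kernel

include wr in
theorem X_comm_a (ex : Ex M₁) {g : G} (hg : g ∈ XX (Vl M₁) (Rl M₁)) : g * M₁.e aa = M₁.e aa * g := by
  have b := bt_of wr ex
  have h : XX (Vl M₁) (Rl M₁) ≤ centralizer ({M₁.e aa} : Set G) := by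
    refine iSup_le fun i => fun g hg => mem_C.2 ?_
    rcases (Q_spec wr ex (b.W_le_Q i hg)).1 with h | h
    · exact (h.commute_iff _).2 (Or.inl rfl)
    · exact (h.commute_iff _).2 (Or.inl (perp_aa i))
  exact mem_C.1 (h hg)

include wr in
theorem X_comm_V₂ (ex : Ex M₁) {g v : G} (hg : g ∈ XX (Vl M₁) (Rl M₁)) (hv : v ∈ V₂) : g * v = v * g := by
  have b := bt_of wr ex
  have h : XX (Vl M₁) (Rl M₁) ≤ centralizer ({v} : Set G) := by
    refine iSup_le fun i => fun g hg => mem_C.2 ?_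
    exact ((Q_spec wr ex (b.W_le_Q i hg)).2 v hv).symm
  exact mem_C.1 (h hg)

include wr in
/-- an element of `X` inducing `(0 4)` -/
theorem exists_w (ex : Ex M₁) : ∃ g ∈ XX (Vl M₁) (Rl M₁), M₁.Ind g (sw 1) := by
  obtain ⟨h, hn, ⟨u, hu, hui⟩, -⟩ := exists_Mv wr ex 1
  exact ⟨_, W_le_X _ _ 1 (cj_le_WW hn ⟨u, hu, rfl⟩), hui⟩

include wr in
theorem a_mem_cz (ex : Ex M₁) : M₁.e aa ∈ zc (Tn S M₁) ⊓ centralizer (Pn S M₁ : Set G) := by
  have haT : M₁.e aa ∈ Tn S M₁ := ⟨wr.V₁_le_S (M₁.e_mem _), mem_C.2 (M₁.e_comm _ _)⟩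
  refine ⟨mem_zc.2 ⟨haT, fun t ht => wr.T_comm_a ht, e_sq' M₁ _⟩, ?_⟩
  have h : Pn S M₁ ≤ centralizer ({M₁.e aa} : Set G) :=
    sup_le (fun t ht => mem_C.2 (wr.T_comm_a ht)) fun g hg => mem_C.2 (X_comm_a wr ex hg)
  exact mem_centralizer_iff.2 fun g hg => mem_C.1 (h hg)

include wr in
theorem t_mem_cz (ex : Ex M₁) : M₂.e ss ∈ zc (Tn S M₁) ⊓ centralizer (Pn S M₁ : Set G) := by
  have htT : M₂.e ss ∈ Tn S M₁ := wr.V₂_le_T (M₂.e_mem _)
  refine ⟨mem_zc.2 ⟨htT, fun t ht => wr.T_comm_s₂ ht, e_sq' M₂ _⟩, ?_⟩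
  have h : Pn S M₁ ≤ centralizer ({M₂.e ss} : Set G) :=
    sup_le (fun t ht => mem_C.2 (wr.T_comm_s₂ ht)) fun g hg => mem_C.2 (X_comm_V₂ wr ex hg (M₂.e_mem _))
  exact mem_centralizer_iff.2 fun g hg => mem_C.1 (h hg)

include wr in
theorem mem_cz (ex : Ex M₁) {x : G} : x ∈ zc (Tn S M₁) ⊓ centralizer (Pn S M₁ : Set G) ↔
    x = 1 ∨ x = M₁.e aa ∨ x = M₂.e ss ∨ x = M₁.e aa * M₂.e ss := by
  constructor
  · rintro ⟨h1, h2⟩
    obtain ⟨g, hg, hi⟩ := exists_w wr ex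
    have hgx : g * x = x * g := mem_centralizer_iff.1 h2 g (mem_sup_right hg)
    have hgt : g * M₂.e ss = M₂.e ss * g := X_comm_V₂ wr ex hg (M₂.e_mem _)
    have hga : g * M₁.e aa = M₁.e aa * g := X_comm_a wr ex hg
    have k1 : ∀ y : Vec, g * (M₁.e y * M₂.e ss) = M₁.e y * M₂.e ss * g → g * M₁.e y = M₁.e y * g := by
      intro y hy
      refine mul_right_cancel (b := M₂.e ss) ?_
      calc g * M₁.e y * M₂.e ss = g * (M₁.e y * M₂.e ss) := by group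
        _ = M₁.e y * (M₂.e ss * g) := by rw [hy]; group
        _ = M₁.e y * g * M₂.e ss := by rw [← hgt]; group
    have kn : ¬ g * M₁.e nn = M₁.e nn * g := fun h => move_nn ((hi.commute_iff _).1 h)
    have ks : ¬ g * M₁.e ss = M₁.e ss * g := fun h => move_ss ((hi.commute_iff _).1 h)
    rcases wr.zT_cases₈ h1 with h | h | h | h | h | h | h | h
    · exact Or.inl h
    · rw [h] at hgx; exact absurd hgx ks
    · exact Or.inr (Or.inr (Or.inl h))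
    · rw [h] at hgx; exact absurd (k1 _ hgx) ks
    · rw [h] at hgx; exact absurd hgx kn
    · exact Or.inr (Or.inl h)
    · rw [h] at hgx; exact absurd (k1 _ hgx) kn
    · exact Or.inr (Or.inr (Or.inr h))
  · rintro (rfl | rfl | rfl | rfl)
    · exact one_mem _
    · exact a_mem_cz wr ex
    · exact t_mem_cz wr ex
    · exact mul_mem (a_mem_cz wr ex) (t_mem_cz wr ex)

end wr

end Cfsg.Agent.Omega.IId.LFour.Htt

end
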