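import Cfsg.Agent.Mrg.Omega.NO3b.UMethod
import Cfsg.Agent.Mrg.Omega.IId.LFour.Quarter
import Cfsg.Agent.Mrg.Omega.IId.LFour.JPush
import Cfsg.Agent.Mrg.Omega.BTwo.Basic


/-!
# THEOREM TRI-J (helper644 #15758, referee helper709 #15987): in the triangle `J(S) ≤ O₂(P)`

`V_P = V₁ × V₂`, two even-subset modules of degree 5 (`Wr`), `σᵢ = Mᵢ.e ss`, `z = σ₁ σ₂`, `S₁ = N_S(V₁)`.
The *triangle*: `S₁` is not a Sylow 2-subgroup of `C_G(σ₁)`.

* `Wr.exists_tri` (0): an element of `N_G(S₁)` centralises `σ₁` and maps `σ₂` to `z`;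
* `Wr.exists_m` (1): `m` is an involution of `O₂(P)`, conjugate under `N_G(S₁)` to `n = {0 1} ∈ V₁`, `[m, S₁] ≤ ⟨z⟩`
  and `m ∉ V`;
* `Wr.mem_of` (2): if `[m, N] ≤ V` for a normal subgroup `N` of `P` which induces a transposition of one factor then
  `m ∈ V`;
* `Wr.jj_le_of_tri` : `J(S) ≤ O₂(P)`.
-/

set_option autoImplicit false
set_option linter.unusedSectionVars false

namespace Cfsg.Agent.Omega.IId.LFour

open Subgroup Pointwise Cfsg Cfsg.Agent.Omega.MinPar Cfsg.Agent.Omega.FFThm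
open Cfsg.Agent.ZN (o2 zc jj zj zl zc_map)
open Cfsg.Agent.ZN.ChoiceBase (cj mem_cj)
open Cfsg.Agent.ZN.ChoiceSit (exists_syl syl_not_dvd)
open Cfsg.Agent.Omega.S5.Mod Cfsg.Agent.Omega.S5.TT
open Cfsg.Agent.Omega.S5.TT.Pos (na ns as sn n_ne s_ne a_ne n_ne_a n_ne_s a_ne_s e_sq' mem_C)
open Cfsg.Agent.Omega.Half (Amb amb_of_loc)
open Cfsg.Agent.MinSimple.VModule (mem_zc zc_le zc_comm zc_sq zc_le_zl le_normalizer_o2 o2_isPGroup o2_le
  normalizer_le_normalizer_zc le_normalizer_zl)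

universe u

theorem card_mul_relIndex {G : Type*} [Group G] {H K : Subgroup G} (h : H ≤ K) :
    Nat.card H * H.relIndex K = Nat.card K := by
  have h1 := (H.subgroupOf K).card_mul_index
  rwa [Nat.card_congr (subgroupOfEquivOfLe h).toEquiv] at h1

theorem sylow_card_eq {G : Type*} [Group G] [Finite G] (S S' : Sylow 2 G) :
    Nat.card (S : Subgroup G) = Nat.card (S' : Subgroup G) := by
  have : Fact (Nat.Prime 2) := ⟨Nat.prime_two⟩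
  rw [Sylow.card_eq_multiplicity, Sylow.card_eq_multiplicity]

/-! ### Permutations -/

theorem nn_or : ∀ p : Equiv.Perm (Fin 5), p * dd = dd * p →
    (nn ∘ p.symm = nn ∨ nn ∘ p.symm = nn + 1) ∨ (nn ∘ p.symm = aa ∨ nn ∘ p.symm = aa + 1) := by
  decide +kernel

theorem ttp_of_swaps : ∀ τ : Equiv.Perm (Fin 5),
    (∀ x, τ x ≠ x → τ (τ x) = x ∧ Equiv.swap x (τ x) * dd = dd * Equiv.swap x (τ x)) → TTp τ := by
  decide +kernel

theorem fix_three : ∀ x : Vec,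
    (x ∘ (Equiv.swap 0 1 * Equiv.swap 1 2 : Equiv.Perm (Fin 5)).symm = x ∨
      x ∘ (Equiv.swap 0 1 * Equiv.swap 1 2 : Equiv.Perm (Fin 5)).symm = x + 1) →
    (x ∘ (Equiv.swap 2 3 * Equiv.swap 3 4 : Equiv.Perm (Fin 5)).symm = x ∨
      x ∘ (Equiv.swap 2 3 * Equiv.swap 3 4 : Equiv.Perm (Fin 5)).symm = x + 1) → x = 0 ∨ x = 1 := by
  decide +kernel

/-- A normal subgroup of the symmetric group which contains a transposition. -/
theorem eq_top_of_swap {α : Type*} [DecidableEq α] [Finite α] {H : Subgroup (Equiv.Perm α)} (hH : H.Normal)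
    {i j : α} (hij : i ≠ j) (h : Equiv.swap i j ∈ H) : H = ⊤ := by
  rw [eq_top_iff, ← Equiv.Perm.closure_isSwap, closure_le]
  rintro _ ⟨x, y, hxy, rfl⟩
  obtain ⟨c, hc⟩ := isConj_iff.1 (Equiv.Perm.isConj_swap hij hxy)
  rw [← hc]
  exact hH.conj_mem _ h c

variable {G : Type u} [Group G]

namespace Wr

variable {S : Sylow 2 G} {P V₁ V₂ L₁ L₂ : Subgroup G} {M₁ : FiveMod V₁ L₁} {M₂ : FiveMod V₂ L₂}

section fin

variable [Finite G] (w : Wr S P M₁ M₂)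
include w

/-! ### (0) the triangle -/

theorem s₁_mem : M₁.e ss ∈ zc ((S : Subgroup G) ⊓ normalizer (V₁ : Set G)) :=
  mem_zc.2 ⟨w.V₁_le_S₁ (M₁.e_mem ss), fun _ hb => w.comm_ss w.S_le hb.1 hb.2, e_sq' M₁ ss⟩

theorem s₂_mem : M₂.e ss ∈ zc ((S : Subgroup G) ⊓ normalizer (V₁ : Set G)) := by
  rw [w.S₁_eq]
  exact w.symm.s₁_mem

omit [Finite G] in
theorem s_ne_s : M₁.e ss ≠ M₂.e ss := by
  intro h
  have h1 : M₁.e ss ∈ V₁ ⊓ V₂ := ⟨M₁.e_mem _, by rw [h]; exact M₂.e_mem _⟩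
  rw [w.inf, mem_bot] at h1
  exact s_ne M₁ h1

/-- `S ≤ N_G(S₁)` -/
theorem S_le_normalizer : (S : Subgroup G) ≤
    normalizer (((S : Subgroup G) ⊓ normalizer (V₁ : Set G) : Subgroup G) : Set G) := by
  have h1 : ((S : Subgroup G) ⊓ normalizer (V₁ : Set G)).relIndex (S : Subgroup G) = 2 := by
    have h2 := w.card_S₁
    have h3 := card_mul_relIndex (inf_le_left : (S : Subgroup G) ⊓ normalizer (V₁ : Set G) ≤ (S : Subgroup G))
    have h4 : 0 < Nat.card ((S : Subgroup G) ⊓ normalizer (V₁ : Set G) : Subgroup G) := Nat.card_pos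
    rw [h2, mul_comm] at h3
    exact Nat.eq_of_mul_eq_mul_right h4 h3
  have h2 := normal_of_index_eq_two (H := ((S : Subgroup G) ⊓ normalizer (V₁ : Set G)).subgroupOf S) h1
  exact (normal_subgroupOf_iff_le_normalizer inf_le_left).1 h2

/-- **(0)** In the triangle some element of `N_G(S₁)` centralises `σ₁` and maps `σ₂` to `σ₁ σ₂`. -/
theorem exists_tri (htri : 2 ∣ ((S : Subgroup G) ⊓ normalizer (V₁ : Set G)).relIndex
      (centralizer ({M₁.e ss} : Set G))) :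
    ∃ t ∈ normalizer (((S : Subgroup G) ⊓ normalizer (V₁ : Set G) : Subgroup G) : Set G),
      t * M₁.e ss = M₁.e ss * t ∧ t * M₂.e ss * t⁻¹ = M₁.e ss * M₂.e ss := by
  have : Fact (Nat.Prime 2) := ⟨Nat.prime_two⟩
  set S₁ := (S : Subgroup G) ⊓ normalizer (V₁ : Set G) with hS₁
  set C := centralizer ({M₁.e ss} : Set G) with hC
  have h2 : IsPGroup 2 S₁ := S.isPGroup'.to_le inf_le_left
  have hS₁C : S₁ ≤ C := fun x hx => mem_C.2 (w.comm_ss w.S_le hx.1 hx.2)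
  obtain ⟨T₁, hT₁, hST⟩ := exists_syl h2 hS₁C
  have hne : ¬ T₁ ≤ S₁ := by
    intro h
    have h3 := syl_not_dvd hT₁
    rw [le_antisymm h hST] at h3
    exact h3 htri
  -- `|T₁| = 2 |S₁|`
  have hcS := w.card_S₁
  have hpos : 0 < Nat.card S₁ := Nat.card_pos
  have hrel : S₁.relIndex T₁ = 2 := by
    have h3 := card_mul_relIndex hST
    have h4 : Nat.card T₁ ≤ Nat.card (S : Subgroup G) := by
      obtain ⟨S', hS'⟩ := hT₁.2.1.exists_le_sylow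
      exact (card_le_of_le hS').trans (sylow_card_eq S' S).le
    have h5 : S₁.relIndex T₁ ≠ 1 := fun h => hne (relIndex_eq_one.1 h)
    have h6 : S₁.relIndex T₁ ≤ 2 := by
      rw [hcS, ← h3, mul_comm] at h4
      exact Nat.le_of_mul_le_mul_right h4 hpos
    have h7 : S₁.relIndex T₁ ≠ 0 := by
      intro h
      rw [h, mul_zero] at h3
      exact (Nat.card_pos (α := T₁)).ne h3
    omega
  have hcT : Nat.card T₁ = Nat.card (S : Subgroup G) := by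
    rw [hcS, ← card_mul_relIndex hST, hrel, mul_comm]
  have hTn : T₁ ≤ normalizer (S₁ : Set G) := by
    have h3 := normal_of_index_eq_two (H := S₁.subgroupOf T₁) hrel
    exact (normal_subgroupOf_iff_le_normalizer hST).1 h3
  -- `T₁` is a Sylow 2-subgroup of `G`
  obtain ⟨g, hg⟩ : ∃ g : G, T₁ = cj g (S : Subgroup G) := by
    obtain ⟨S', hS'⟩ := hT₁.2.1.exists_le_sylow
    obtain ⟨g, hg⟩ := MulAction.exists_smul_eq G S S'
    refine ⟨g, ?_⟩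
    have h3 : T₁ = S' := Subgroup.eq_of_le_of_card_ge hS' (by rw [hcT]; exact (sylow_card_eq S' S).le)
    rw [h3, ← hg]
    rfl
  by_contra hcon
  push Not at hcon
  -- `T₁` centralises `σ₂`
  have hcen : ∀ t ∈ T₁, t * M₂.e ss = M₂.e ss * t := by
    intro t ht
    have htn := hTn ht
    have h3 : t * M₁.e ss = M₁.e ss * t := mem_C.1 (hT₁.1 ht)
    have h4 : t * M₂.e ss * t⁻¹ ∈ zc S₁ :=
      (mem_normalizer_iff.1 (normalizer_le_normalizer_zc _ htn) _).1 w.s₂_mem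
    have h5 := hcon t htn h3
    have h6 : t * M₂.e ss * t⁻¹ ≠ 1 := by
      rw [Ne, mul_inv_eq_one, mul_eq_left]
      exact s_ne M₂
    have h7 : t * M₂.e ss * t⁻¹ ≠ M₁.e ss := by
      intro h8
      apply w.s_ne_s
      have h9 : t⁻¹ * (t * M₂.e ss * t⁻¹) * t = t⁻¹ * M₁.e ss * t := by rw [h8]
      have h10 : t⁻¹ * M₁.e ss * t = M₁.e ss := by
        rw [mul_assoc, ← h3]; group
      rw [h10] at h9
      rw [← h9]; group
    rcases w.zS₁_le h4 with h8 | h8 | h8 | h8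
    · exact absurd h8 h6
    · exact absurd h8 h7
    · rwa [mul_inv_eq_iff_eq_mul] at h8
    · exact absurd h8 h5
  -- `σ₁, σ₂ ∈ Ω₁(Z(T₁))`, of order at most 2
  have hz1 : M₁.e ss ∈ zc T₁ :=
    mem_zc.2 ⟨hST (w.V₁_le_S₁ (M₁.e_mem ss)), fun b hb => mem_C.1 (hT₁.1 hb), e_sq' M₁ ss⟩
  have hz2 : M₂.e ss ∈ zc T₁ :=
    mem_zc.2 ⟨hST (w.V₂_le_S₁ (M₂.e_mem ss)), hcen, e_sq' M₂ ss⟩
  have hzc : zc T₁ = cj g (zc (S : Subgroup G)) := by
    rw [hg]; exact zc_map _ (MulAut.conj g).injective _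
  rw [hzc, mem_cj] at hz1 hz2
  have h1 : ∀ x : G, x ≠ 1 → g⁻¹ * x * g ≠ 1 := fun x hx h => hx (by
    have : x = g * (g⁻¹ * x * g) * g⁻¹ := by group
    rw [this, h]; group)
  rcases w.zS_le hz1 with h3 | h3
  · exact h1 _ (s_ne M₁) h3
  · rcases w.zS_le hz2 with h4 | h4
    · exact h1 _ (s_ne M₂) h4
    · apply w.s_ne_s
      have h5 := h3.trans h4.symm
      exact mul_left_cancel (mul_right_cancel h5)

/-! ### (1) the involution `m` -/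

omit [Finite G] in
/-- `V₁ ∩ ⟨σ₁ σ₂⟩ = 1` -/
theorem z_not_mem : M₁.e ss * M₂.e ss ∉ V₁ := by
  intro h
  have h1 : M₂.e ss ∈ V₁ := by
    have h2 := mul_mem (inv_mem (M₁.e_mem ss)) h
    rwa [inv_mul_cancel_left] at h2
  have h2 : M₂.e ss ∈ V₁ ⊓ V₂ := ⟨h1, M₂.e_mem _⟩
  rw [w.inf, mem_bot] at h2
  exact s_ne M₂ h2

/-- `[n, S₁] ≤ ⟨σ₁⟩` -/
theorem comm_n {x : G} (hx : x ∈ (S : Subgroup G) ⊓ normalizer (V₁ : Set G)) :
    x * M₁.e nn * x⁻¹ = M₁.e nn ∨ x * M₁.e nn * x⁻¹ = M₁.e nn * M₁.e ss := by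
  obtain ⟨p, q, hp, -⟩ := w.ind_of_norm (w.S_le hx.1) hx.2
  rcases nn_or p (w.dS w.S_le hx.1 hp) with h | h
  · exact Or.inl (by rw [hp, M₁.e_eq_iff]; exact h)
  · right
    rw [hp, ns M₁, M₁.e_eq_iff]
    exact h

/-- **(1)** -/
theorem exists_m (htri : 2 ∣ ((S : Subgroup G) ⊓ normalizer (V₁ : Set G)).relIndex
      (centralizer ({M₁.e ss} : Set G))) :
    ∃ u ∈ normalizer (((S : Subgroup G) ⊓ normalizer (V₁ : Set G) : Subgroup G) : Set G),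
      (∀ x ∈ (S : Subgroup G) ⊓ normalizer (V₁ : Set G),
        x * (u * M₁.e nn * u⁻¹) * x⁻¹ = u * M₁.e nn * u⁻¹ ∨
          x * (u * M₁.e nn * u⁻¹) * x⁻¹ = (M₁.e ss * M₂.e ss) * (u * M₁.e nn * u⁻¹)) ∧
      ∃ x ∈ (S : Subgroup G) ⊓ normalizer (V₁ : Set G),
        x * (u * M₁.e nn * u⁻¹) * x⁻¹ ≠ u * M₁.e nn * u⁻¹ := by
  obtain ⟨t, ht, h1, h2⟩ := w.exists_tri htri
  obtain ⟨s, hs, p, q, hsw⟩ := w.swap
  have hs1 := w.sw_ss w.S_le hs hsw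
  have hsn := w.S_le_normalizer hs
  have hz : (t * s) * M₁.e ss * (t * s)⁻¹ = M₁.e ss * M₂.e ss := by
    calc (t * s) * M₁.e ss * (t * s)⁻¹ = t * (s * M₁.e ss * s⁻¹) * t⁻¹ := by group
      _ = M₁.e ss * M₂.e ss := by rw [hs1, h2]
  have hu := mul_mem ht hsn
  refine ⟨t * s, hu, fun x hx => ?_, ?_⟩
  · have hx' : (t * s)⁻¹ * x * (t * s) ∈ (S : Subgroup G) ⊓ normalizer (V₁ : Set G) := by
      have := (mem_normalizer_iff.1 (inv_mem hu) x).1 hx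
      rwa [inv_inv] at this
    have e : x * (t * s * M₁.e nn * (t * s)⁻¹) * x⁻¹ =
        (t * s) * (((t * s)⁻¹ * x * (t * s)) * M₁.e nn * ((t * s)⁻¹ * x * (t * s))⁻¹) * (t * s)⁻¹ := by
      group
    rcases w.comm_n hx' with h | h
    · left
      rw [e, h]
    · right
      rw [e, h, M₁.e_comm nn ss, ← hz]
      group
  · obtain ⟨x, hx, hxt⟩ := w.exists_x
    have hx1 : x ∈ (S : Subgroup G) ⊓ normalizer (V₁ : Set G) := ⟨hx.1, hxt.mem_normalizer⟩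
    refine ⟨(t * s) * x * (t * s)⁻¹, (mem_normalizer_iff.1 hu x).1 hx1, fun h => ?_⟩
    have e : (t * s) * x * (t * s)⁻¹ * (t * s * M₁.e nn * (t * s)⁻¹) * ((t * s) * x * (t * s)⁻¹)⁻¹ =
        (t * s) * (x * M₁.e nn * x⁻¹) * (t * s)⁻¹ := by group
    rw [e, tt_n hxt] at h
    exact n_ne_a M₁ (mul_left_cancel (mul_right_cancel h)).symm

/-! ### The abstract situation -/

/-- `m` is an involution with `[m, S₁] ≤ ⟨σ₁ σ₂⟩`. -/
structure MD (w : Wr S P M₁ M₂) (m : G) : Prop where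
  mem : m ∈ (S : Subgroup G) ⊓ normalizer (V₁ : Set G)
  sq : m * m = 1
  com : ∀ x ∈ (S : Subgroup G) ⊓ normalizer (V₁ : Set G),
    x * m * x⁻¹ = m ∨ x * m * x⁻¹ = (M₁.e ss * M₂.e ss) * m

end fin

section md

variable [Finite G] {w : Wr S P M₁ M₂} {m : G}

theorem MD.symm (h : MD w m) : MD w.symm m where
  mem := by rw [← w.S₁_eq]; exact h.mem
  sq := h.sq
  com x hx := by
    rw [← w.S₁_eq] at hx
    have h1 : M₂.e ss * M₁.e ss = M₁.e ss * M₂.e ss := (w.comm (M₁.e_mem _) (M₂.e_mem _)).symm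
    rw [h1]
    exact h.com x hx

/-- elements of `S₁` whose commutator with `m` is in `V₁` centralise `m` -/
theorem MD.comm_of (h : MD w m) {x : G} (hx : x ∈ (S : Subgroup G) ⊓ normalizer (V₁ : Set G))
    (h1 : x * m * x⁻¹ * m⁻¹ ∈ V₁) : x * m = m * x := by
  rcases h.com x hx with h2 | h2
  · rwa [mul_inv_eq_iff_eq_mul] at h2
  · exfalso
    rw [h2, mul_inv_cancel_right] at h1
    exact w.z_not_mem h1

theorem MD.comm_V₁ (h : MD w m) {v : G} (hv : v ∈ V₁) : v * m = m * v := by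
  refine h.comm_of (w.V₁_le_S₁ hv) ?_
  have h1 : m * v⁻¹ * m⁻¹ ∈ V₁ := (mem_normalizer_iff.1 h.mem.2 _).1 (inv_mem hv)
  have e : v * m * v⁻¹ * m⁻¹ = v * (m * v⁻¹ * m⁻¹) := by group
  rw [e]
  exact mul_mem hv h1

theorem MD.comm_V (h : MD w m) {v : G} (hv : v ∈ zl (S : Subgroup G) P) : v * m = m * v := by
  rw [w.sup] at hv
  have h1 : V₁ ⊔ V₂ ≤ centralizer ({m} : Set G) :=
    sup_le (fun x hx => mem_C.2 (h.comm_V₁ hx)) fun x hx => mem_C.2 (h.symm.comm_V₁ hx)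
  exact mem_C.1 (h1 hv)

/-- `m ∈ O₂(P)` -/
theorem MD.mem_o2 (h : MD w m) : m ∈ o2 P := by
  rw [← IsParS.inf_centralizer S w.hG w.star]
  exact ⟨h.mem.1, mem_centralizer_iff.2 fun v hv => h.comm_V hv⟩

/-- the elements of `V` are products -/
theorem _root_.Cfsg.Agent.Omega.IId.LFour.Wr.mem_V (w : Wr S P M₁ M₂) {v : G}
    (hv : v ∈ zl (S : Subgroup G) P) : ∃ v₁ ∈ V₁, ∃ v₂ ∈ V₂, v₁ * v₂ = v := by
  have hn : V₂ ≤ normalizer (V₁ : Set G) := fun v hv =>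
    centralizer_le_normalizer _ (mem_centralizer_iff.2 fun u hu => w.comm hu hv)
  rw [w.sup] at hv
  have h2 : v ∈ ((V₁ ⊔ V₂ : Subgroup G) : Set G) := hv
  rw [coe_mul_of_right_le_normalizer_left _ _ hn] at h2
  exact Set.mem_mul.1 h2

/-- If `m ∈ V` then `S₁` centralises `m`. -/
theorem MD.comm_of_mem (h : MD w m) (hm : m ∈ zl (S : Subgroup G) P) {x : G}
    (hx : x ∈ (S : Subgroup G) ⊓ normalizer (V₁ : Set G)) : x * m = m * x := by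
  obtain ⟨v₁, hv₁, v₂, hv₂, rfl⟩ := w.mem_V hm
  have h1 : v₁ = 1 ∨ v₁ = M₁.e ss := by
    refine w.fixed₁ hv₁ fun t ht => ?_
    have h2 : t * (v₁ * v₂) = v₁ * v₂ * t := by
      refine h.comm_of ⟨ht.1, M₁.le_normalizer ht.2⟩ ?_
      have h3 := w.L₁_comm ht.2 hv₂
      have e : t * (v₁ * v₂) * t⁻¹ * (v₁ * v₂)⁻¹ = (t * v₁ * t⁻¹) * v₁⁻¹ := by
        calc t * (v₁ * v₂) * t⁻¹ * (v₁ * v₂)⁻¹ = (t * v₁ * t⁻¹) * ((t * v₂) * t⁻¹ * v₂⁻¹) * v₁⁻¹ := by group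
          _ = (t * v₁ * t⁻¹) * v₁⁻¹ := by rw [h3]; group
      rw [e]
      exact mul_mem ((mem_normalizer_iff.1 (M₁.le_normalizer ht.2) _).1 hv₁) (inv_mem hv₁)
    have h4 := w.L₁_comm ht.2 hv₂
    refine mul_right_cancel (b := v₂) ?_
    calc t * v₁ * v₂ = v₁ * v₂ * t := by rw [mul_assoc, h2]
      _ = v₁ * (t * v₂) := by rw [h4, mul_assoc]
      _ = v₁ * t * v₂ := by group
  have h1' : v₂ = 1 ∨ v₂ = M₂.e ss := by
    refine w.symm.fixed₁ hv₂ fun t ht => ?_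
    have h2 : t * (v₁ * v₂) = v₁ * v₂ * t := by
      refine h.symm.comm_of ⟨ht.1, M₂.le_normalizer ht.2⟩ ?_
      have h3 := w.L₂_comm ht.2 hv₁
      have h5 : v₁ * v₂ = v₂ * v₁ := w.comm hv₁ hv₂
      have e : t * (v₁ * v₂) * t⁻¹ * (v₁ * v₂)⁻¹ = (t * v₂ * t⁻¹) * v₂⁻¹ := by
        rw [h5]
        calc t * (v₂ * v₁) * t⁻¹ * (v₂ * v₁)⁻¹ = (t * v₂ * t⁻¹) * ((t * v₁) * t⁻¹ * v₁⁻¹) * v₂⁻¹ := by group
          _ = (t * v₂ * t⁻¹) * v₂⁻¹ := by rw [h3]; group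
      rw [e]
      exact mul_mem ((mem_normalizer_iff.1 (M₂.le_normalizer ht.2) _).1 hv₂) (inv_mem hv₂)
    have h4 := w.L₂_comm ht.2 hv₁
    refine mul_left_cancel (a := v₁) ?_
    calc v₁ * (t * v₂) = (v₁ * t) * v₂ := by group
      _ = t * (v₁ * v₂) := by rw [← h4]; group
      _ = v₁ * (v₂ * t) := by rw [h2, mul_assoc]
  have hc1 : x * M₁.e ss = M₁.e ss * x := w.comm_ss w.S_le hx.1 hx.2
  have hc2 : x * M₂.e ss = M₂.e ss * x := by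
    rw [w.S₁_eq] at hx
    exact w.symm.comm_ss w.S_le hx.1 hx.2
  have e1 : x * v₁ = v₁ * x := by
    rcases h1 with rfl | rfl
    · rw [mul_one, one_mul]
    · exact hc1
  have e2 : x * v₂ = v₂ * x := by
    rcases h1' with rfl | rfl
    · rw [mul_one, one_mul]
    · exact hc2
  rw [← mul_assoc, e1, mul_assoc, e2, mul_assoc]

/-! ### (2) the subgroup `R₁` of the elements `g` of `N ∩ L₁` with `[m, g] ∈ V₁` -/

/-- `{g ∈ N ∩ L₁ | [m, g] ∈ V₁}` -/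
def RR (M₁ : FiveMod V₁ L₁) (N : Subgroup G) (m : G) : Subgroup G where
  carrier := {g | g ∈ N ⊓ L₁ ∧ g * m * g⁻¹ * m⁻¹ ∈ V₁}
  mul_mem' := by
    rintro g h ⟨hg, h1⟩ ⟨hh, h2⟩
    refine ⟨mul_mem hg hh, ?_⟩
    have e : g * h * m * (g * h)⁻¹ * m⁻¹ = g * (h * m * h⁻¹ * m⁻¹) * g⁻¹ * (g * m * g⁻¹ * m⁻¹) := by group
    rw [e]
    exact mul_mem ((mem_normalizer_iff.1 (M₁.le_normalizer hg.2) _).1 h2) h1
  one_mem' := ⟨one_mem _, by
    have e : (1 : G) * m * 1⁻¹ * m⁻¹ = 1 := by group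
    rw [e]; exact one_mem _⟩
  inv_mem' := by
    rintro g ⟨hg, h1⟩
    refine ⟨inv_mem hg, ?_⟩
    have e : g⁻¹ * m * g⁻¹⁻¹ * m⁻¹ = g⁻¹ * (g * m * g⁻¹ * m⁻¹)⁻¹ * g⁻¹⁻¹ := by group
    rw [e]
    exact (mem_normalizer_iff.1 (M₁.le_normalizer (inv_mem hg.2)) _).1 (inv_mem h1)

theorem mem_RR {N : Subgroup G} {g : G} :
    g ∈ RR M₁ N m ↔ g ∈ N ⊓ L₁ ∧ g * m * g⁻¹ * m⁻¹ ∈ V₁ := Iff.rfl

theorem RR_le {N : Subgroup G} : RR M₁ N m ≤ N ⊓ L₁ := fun _ h => h.1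

/-- `[L₁, V] ≤ V₁` -/
theorem _root_.Cfsg.Agent.Omega.IId.LFour.Wr.comm_L₁ (w : Wr S P M₁ M₂) {g v : G} (hg : g ∈ L₁)
    (hv : v ∈ zl (S : Subgroup G) P) : g * v * g⁻¹ * v⁻¹ ∈ V₁ := by
  obtain ⟨v₁, hv₁, v₂, hv₂, rfl⟩ := w.mem_V hv
  have h3 := w.L₁_comm hg hv₂
  have e : g * (v₁ * v₂) * g⁻¹ * (v₁ * v₂)⁻¹ = (g * v₁ * g⁻¹) * v₁⁻¹ := by
    calc g * (v₁ * v₂) * g⁻¹ * (v₁ * v₂)⁻¹ = (g * v₁ * g⁻¹) * ((g * v₂) * g⁻¹ * v₂⁻¹) * v₁⁻¹ := by group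
      _ = (g * v₁ * g⁻¹) * v₁⁻¹ := by rw [h3]; group
  rw [e]
  exact mul_mem ((mem_normalizer_iff.1 (M₁.le_normalizer hg) _).1 hv₁) (inv_mem hv₁)

/-- `N` is a normal subgroup of `P` with `[m, N] ≤ V` which induces a transposition of the first factor. -/
structure NH (w : Wr S P M₁ M₂) (m : G) (N : Subgroup G) : Prop where
  le : N ≤ P
  nor : P ≤ normalizer (N : Set G)
  com : ∀ g ∈ N, g * m * g⁻¹ * m⁻¹ ∈ zl (S : Subgroup G) P
  tra : ∃ b ∈ N ⊓ L₁, ∃ i j, i ≠ j ∧ M₁.Ind b (Equiv.swap i j)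

theorem NH.symm {N : Subgroup G} (h : NH w m N) : NH w.symm m N where
  le := h.le
  nor := h.nor
  com := h.com
  tra := by
    obtain ⟨b, hb, i, j, hij, hi⟩ := h.tra
    obtain ⟨s, hs, p, q, hsw⟩ := w.swap
    have hsP := w.S_le hs
    have hmem : s * b * s⁻¹ ∈ L₂ := by
      refine w.mem_L₂ (mul_mem (mul_mem hsP (w.L₁_le hb.2)) (inv_mem hsP)) fun v hv => ?_
      obtain ⟨x, rfl⟩ := (M₁.mem_iff v).1 hv
      have e1 := hsw.2 (x ∘ q)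
      have e2 : (x ∘ q) ∘ q.symm = x := by funext i; simp
      rw [e2] at e1
      have h3 := w.L₁_comm hb.2 (M₂.e_mem (x ∘ q))
      rw [← e1]
      calc s * b * s⁻¹ * (s * M₂.e (x ∘ q) * s⁻¹) = s * (b * M₂.e (x ∘ q)) * s⁻¹ := by group
        _ = s * (M₂.e (x ∘ q) * b) * s⁻¹ := by rw [h3]
        _ = s * M₂.e (x ∘ q) * s⁻¹ * (s * b * s⁻¹) := by group
    refine ⟨s * b * s⁻¹, ⟨(mem_normalizer_iff.1 (h.nor hsP) _).1 hb.1, hmem⟩, p i, p j,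
      fun h0 => hij (p.injective h0), fun y => ?_⟩
    have e1 := hsw.1 (y ∘ p)
    have e2 : (y ∘ p) ∘ p.symm = y := by funext i; simp
    rw [e2] at e1
    rw [← e1]
    calc s * b * s⁻¹ * (s * M₁.e (y ∘ p) * s⁻¹) * (s * b * s⁻¹)⁻¹ = s * (b * M₁.e (y ∘ p) * b⁻¹) * s⁻¹ := by
          group
      _ = s * M₁.e ((y ∘ p) ∘ (Equiv.swap i j).symm) * s⁻¹ := by rw [hi]
      _ = M₂.e (((y ∘ p) ∘ (Equiv.swap i j).symm) ∘ p.symm) := hsw.1 _
      _ = M₂.e (y ∘ (Equiv.swap (p i) (p j)).symm) := by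
        congr 1
        rw [Equiv.swap_apply_apply]
        rfl

/-- `N ∩ L₁` induces `S₅` on `V₁`. -/
theorem NH.exists_ind {N : Subgroup G} (h : NH w m N) (p : Equiv.Perm (Fin 5)) :
    ∃ g ∈ N ⊓ L₁, M₁.Ind g p := by
  let H : Subgroup (Equiv.Perm (Fin 5)) :=
    { carrier := {p | ∃ g ∈ N ⊓ L₁, M₁.Ind g p}
      mul_mem' := by
        rintro p q ⟨g, hg, h1⟩ ⟨k, hk, h2⟩
        exact ⟨g * k, mul_mem hg hk, h1.mul h2⟩
      one_mem' := ⟨1, one_mem _, M₁.ind_one⟩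
      inv_mem' := by
        rintro p ⟨g, hg, h1⟩
        exact ⟨g⁻¹, inv_mem hg, h1.inv⟩ }
  have hH : H.Normal := ⟨by
    rintro p ⟨g, hg, h1⟩ q
    obtain ⟨l, hl, h2⟩ := M₁.exists_lift q
    exact ⟨l * g * l⁻¹, mem_inf.2 ⟨(mem_normalizer_iff.1 (h.nor (w.L₁_le hl)) _).1 hg.1,
      L₁.mul_mem (L₁.mul_mem hl hg.2) (L₁.inv_mem hl)⟩, (h2.mul h1).mul h2.inv⟩⟩
  obtain ⟨b, hb, i, j, hij, hi⟩ := h.tra
  have h1 := eq_top_of_swap hH hij ⟨b, hb, hi⟩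
  have h2 : p ∈ H := by rw [h1]; trivial
  exact h2

/-- the squares of the elements of `N ∩ L₁` are in `R₁` -/
theorem NH.sq_mem {N : Subgroup G} (h : NH w m N) {g : G} (hg : g ∈ N ⊓ L₁) : g * g ∈ RR M₁ N m := by
  refine ⟨mul_mem hg hg, ?_⟩
  have h1 := h.com g hg.1
  have h2 := w.comm_L₁ hg.2 h1
  have h3 : (g * m * g⁻¹ * m⁻¹) * (g * m * g⁻¹ * m⁻¹) = 1 := by
    have := (elem_zl w.hG S w.star.isLoc).2 _ h1
    rwa [pow_two] at this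
  have e : g * g * m * (g * g)⁻¹ * m⁻¹ = g * (g * m * g⁻¹ * m⁻¹) * g⁻¹ * (g * m * g⁻¹ * m⁻¹)⁻¹ *
      ((g * m * g⁻¹ * m⁻¹) * (g * m * g⁻¹ * m⁻¹)) := by group
  rw [e, h3, mul_one]
  exact h2

/-- An element of `V₁` centralised by `R₁` is trivial. -/
theorem NH.fixed {N : Subgroup G} (h : NH w m N) {v : G} (hv : v ∈ V₁)
    (hc : ∀ g ∈ RR M₁ N m, g * v = v * g) : v = 1 := by
  obtain ⟨x, rfl⟩ := (M₁.mem_iff v).1 hv
  have key : ∀ p : Equiv.Perm (Fin 5), (p * p) * (p * p) = p → x ∘ p.symm = x ∨ x ∘ p.symm = x + 1 := by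
    intro p hp
    obtain ⟨g, hg, hi⟩ := h.exists_ind (p * p)
    have h1 := hi.mul hi
    rw [hp] at h1
    exact (h1.commute_iff x).1 (hc _ (h.sq_mem hg))
  exact (M₁.ker x).2 (fix_three x (key _ (by decide)) (key _ (by decide)))

/-- `R₁` is normalised by the elements `k` of `P` which normalise `V₁` and satisfy `[m, k] ∈ V`. -/
theorem NH.conj_RR {N : Subgroup G} (h : NH w m N) {k g : G} (hk : k ∈ P)
    (hkV : k ∈ normalizer (V₁ : Set G)) (hkm : k⁻¹ * m * k * m⁻¹ ∈ zl (S : Subgroup G) P)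
    (hg : g ∈ RR M₁ N m) : k * g * k⁻¹ ∈ RR M₁ N m := by
  obtain ⟨p, q, -, hq⟩ := w.ind_of_norm hk hkV
  refine ⟨⟨(mem_normalizer_iff.1 (h.nor hk) _).1 hg.1.1, w.conj_L₁ hk hq hg.1.2⟩, ?_⟩
  set b := k⁻¹ * m * k * m⁻¹ with hb
  have h1 := w.comm_L₁ hg.1.2 hkm
  have hVc : ∀ x ∈ zl (S : Subgroup G) P, ∀ y ∈ zl (S : Subgroup G) P, x * y = y * x :=
    fun x hx y hy => w.amb.comm x hx y hy
  have hgV : g * m * g⁻¹ * m⁻¹ ∈ zl (S : Subgroup G) P := w.V₁_le hg.2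
  have h2 : (g * m * g⁻¹ * m⁻¹) * b⁻¹ = b⁻¹ * (g * m * g⁻¹ * m⁻¹) := hVc _ hgV _ (inv_mem hkm)
  have e : k * g * k⁻¹ * m * (k * g * k⁻¹)⁻¹ * m⁻¹ =
      k * ((g * b * g⁻¹ * b⁻¹) * (g * m * g⁻¹ * m⁻¹)) * k⁻¹ := by
    have e1 : k⁻¹ * m * k = b * m := by rw [hb]; group
    calc k * g * k⁻¹ * m * (k * g * k⁻¹)⁻¹ * m⁻¹
        = k * g * (k⁻¹ * m * k) * g⁻¹ * (k⁻¹ * m * k)⁻¹ * k⁻¹ := by group
      _ = k * (g * b * g⁻¹ * ((g * m * g⁻¹ * m⁻¹) * b⁻¹)) * k⁻¹ := by rw [e1]; group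
      _ = k * ((g * b * g⁻¹ * b⁻¹) * (g * m * g⁻¹ * m⁻¹)) * k⁻¹ := by rw [h2]; group
  rw [e]
  exact (mem_normalizer_iff.1 hkV _).1 (mul_mem h1 hg.2)

/-- `S ∩ R₁` is a Sylow 2-subgroup of `R₁`. -/
theorem NH.not_dvd {N : Subgroup G} (h : NH w m N) :
    ¬ 2 ∣ (RR M₁ N m ⊓ (S : Subgroup G)).relIndex (RR M₁ N m) := by
  have hSy : ¬ 2 ∣ (S : Subgroup G).relIndex P := MinSimple.Basic.not_dvd_relIndex S w.S_le
  -- `X = ⟨L₁, L₂⟩`
  have hXP : L₁ ⊔ L₂ ≤ P := sup_le w.L₁_le w.L₂_le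
  have hnX : P ≤ normalizer ((L₁ ⊔ L₂ : Subgroup G) : Set G) := by
    intro g hg
    refine MinSimple.VModule.mem_normalizer_of_map_le ?_
    rw [Subgroup.map_sup]
    rcases w.mov g hg with ⟨p, q, hp, hq⟩ | ⟨p, q, hsw⟩
    · refine sup_le_sup ?_ ?_
      · rintro _ ⟨l, hl, rfl⟩
        exact w.conj_L₁ hg hq hl
      · rintro _ ⟨l, hl, rfl⟩
        exact w.conj_L₂ hg hp hl
    · rw [sup_comm]
      refine sup_le_sup ?_ ?_
      · rintro _ ⟨l, hl, rfl⟩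
        refine w.mem_L₁ (mul_mem (mul_mem hg (w.L₂_le hl)) (inv_mem hg)) fun v hv => ?_
        obtain ⟨x, rfl⟩ := (M₂.mem_iff v).1 hv
        have e1 := hsw.1 (x ∘ p)
        have e2 : (x ∘ p) ∘ p.symm = x := by funext i; simp
        rw [e2] at e1
        have h3 := w.L₂_comm hl (M₁.e_mem (x ∘ p))
        rw [← e1]
        calc g * l * g⁻¹ * (g * M₁.e (x ∘ p) * g⁻¹) = g * (l * M₁.e (x ∘ p)) * g⁻¹ := by group
          _ = g * (M₁.e (x ∘ p) * l) * g⁻¹ := by rw [h3]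
          _ = g * M₁.e (x ∘ p) * g⁻¹ * (g * l * g⁻¹) := by group
      · rintro _ ⟨l, hl, rfl⟩
        refine w.mem_L₂ (mul_mem (mul_mem hg (w.L₁_le hl)) (inv_mem hg)) fun v hv => ?_
        obtain ⟨x, rfl⟩ := (M₁.mem_iff v).1 hv
        have e1 := hsw.2 (x ∘ q)
        have e2 : (x ∘ q) ∘ q.symm = x := by funext i; simp
        rw [e2] at e1
        have h3 := w.L₁_comm hl (M₂.e_mem (x ∘ q))
        rw [← e1]
        calc g * l * g⁻¹ * (g * M₂.e (x ∘ q) * g⁻¹) = g * (l * M₂.e (x ∘ q)) * g⁻¹ := by group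
          _ = g * (M₂.e (x ∘ q) * l) * g⁻¹ := by rw [h3]
          _ = g * M₂.e (x ∘ q) * g⁻¹ * (g * l * g⁻¹) := by group
  have h1 := NO3b.UMethod.not_dvd_inf w.S_le hSy hXP hnX
  -- `L₁` is normal in `X`
  have hX1 : L₁ ⊔ L₂ ≤ normalizer (L₁ : Set G) := by
    refine sup_le le_normalizer ?_
    intro g hg
    refine MinSimple.VModule.mem_normalizer_of_map_le ?_
    rintro _ ⟨l, hl, rfl⟩
    obtain ⟨q, hq⟩ := M₂.exists_ind hg
    exact w.conj_L₁ (w.L₂_le hg) hq hl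
  have h2 := NO3b.UMethod.not_dvd_inf (inf_le_left : (L₁ ⊔ L₂) ⊓ (S : Subgroup G) ≤ L₁ ⊔ L₂) h1
    (le_sup_left : L₁ ≤ L₁ ⊔ L₂) hX1
  have e2 : L₁ ⊓ ((L₁ ⊔ L₂) ⊓ (S : Subgroup G)) = L₁ ⊓ (S : Subgroup G) := by
    rw [← inf_assoc, inf_eq_left.2 (le_sup_left : L₁ ≤ L₁ ⊔ L₂)]
  rw [e2] at h2
  -- `N ∩ L₁`
  have h3 := NO3b.UMethod.not_dvd_inf (inf_le_left : L₁ ⊓ (S : Subgroup G) ≤ L₁) h2
    (inf_le_right : N ⊓ L₁ ≤ L₁) (by
      intro g hg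
      refine MinSimple.VModule.mem_normalizer_of_map_le ?_
      rintro _ ⟨l, hl, rfl⟩
      exact mem_inf.2 ⟨(mem_normalizer_iff.1 (h.nor (w.L₁_le hg)) _).1 hl.1,
        L₁.mul_mem (L₁.mul_mem hg hl.2) (L₁.inv_mem hg)⟩)
  have e3 : N ⊓ L₁ ⊓ (L₁ ⊓ (S : Subgroup G)) = N ⊓ L₁ ⊓ (S : Subgroup G) := by
    rw [← inf_assoc, inf_assoc N L₁ L₁, inf_idem]
  rw [e3] at h3
  -- `R₁`
  have h4 := NO3b.UMethod.not_dvd_inf (inf_le_left : N ⊓ L₁ ⊓ (S : Subgroup G) ≤ N ⊓ L₁) h3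
    (RR_le : RR M₁ N m ≤ N ⊓ L₁) (by
      intro k hk
      refine MinSimple.VModule.mem_normalizer_of_map_le ?_
      rintro _ ⟨l, hl, rfl⟩
      have hkm := h.com k⁻¹ (inv_mem hk.1)
      rw [inv_inv] at hkm
      exact h.conj_RR (h.le hk.1) (M₁.le_normalizer hk.2) hkm hl)
  have e4 : RR M₁ N m ⊓ (N ⊓ L₁ ⊓ (S : Subgroup G)) = RR M₁ N m ⊓ (S : Subgroup G) := by
    rw [← inf_assoc, inf_eq_left.2 RR_le]
  rwa [e4] at h4

/-- Averaging: `R₁` centralises `m v₁` for some `v₁ ∈ V₁`. -/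
theorem NH.exists_fixed {N : Subgroup G} (h : NH w m N) (hm : MD w m) :
    ∃ v ∈ V₁, ∀ g ∈ RR M₁ N m, g * (m * v) = m * v * g := by
  have hcm : ∀ v ∈ V₁, m⁻¹ * v * m = v := by
    intro v hv
    have := hm.comm_V₁ hv
    rw [mul_assoc, this, inv_mul_cancel_left]
  obtain ⟨v, hv, h1⟩ := BTwo.Avg.avg (X := RR M₁ N m) (P := RR M₁ N m ⊓ (S : Subgroup G)) (Y := V₁) (D := ⊥)
    (c := m) inf_le_left (Nat.odd_iff.2 (Nat.two_dvd_ne_zero.1 h.not_dvd)) bot_le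
    (fun x hx y hy => (mem_normalizer_iff.1 (M₁.le_normalizer hx.1.2) _).1 hy)
    (fun x _ y hy => by rw [mem_bot.1 hy]; simp) (fun x _ y hy => by rw [mem_bot.1 hy]; simp)
    (fun y hy => mem_bot.2 (M₁.sq hy))
    (fun x hx => by
      have e : m⁻¹ * x * m * x⁻¹ = m⁻¹ * (x * m * x⁻¹ * m⁻¹) * m := by group
      rw [e, hcm _ hx.2]
      exact hx.2)
    (fun x hx => by
      have e : m⁻¹ * x * m * x⁻¹ = m⁻¹ * (x * m) * x⁻¹ := by group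
      rw [e, hm.comm_of ⟨hx.2, M₁.le_normalizer hx.1.1.2⟩ hx.1.2, mem_bot]
      group)
  refine ⟨v, hv, fun g hg => ?_⟩
  have h2 := mem_bot.1 (h1 g hg)
  rw [mul_inv_eq_one] at h2
  calc g * (m * v) = (m * v) * ((m * v)⁻¹ * g * (m * v)) := by group
    _ = m * v * g := by rw [h2]

/-- **(2)** `m ∈ V`. -/
theorem NH.mem {N : Subgroup G} (h : NH w m N) (hm : MD w m) : m ∈ zl (S : Subgroup G) P := by
  obtain ⟨v₁, hv₁, h1⟩ := h.exists_fixed hm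
  obtain ⟨v₂, hv₂, h2⟩ := h.symm.exists_fixed hm.symm
  have hV1 := w.V₁_le hv₁
  have hV2 := w.V₂_le hv₂
  have c12 : v₁ * v₂ = v₂ * v₁ := w.comm hv₁ hv₂
  have cm1 : v₁ * m = m * v₁ := hm.comm_V hV1
  have cm2 : v₂ * m = m * v₂ := hm.comm_V hV2
  set w₀ := m * v₁ * v₂ with hw₀
  -- `R₁`, `R₂` centralise `w₀`
  have f1 : ∀ g ∈ RR M₁ N m, g * w₀ = w₀ * g := by
    intro g hg
    have h3 := w.L₁_comm hg.1.2 hv₂
    calc g * w₀ = g * (m * v₁) * v₂ := by rw [hw₀]; group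
      _ = m * v₁ * (g * v₂) := by rw [h1 g hg]; group
      _ = w₀ * g := by rw [h3, hw₀]; group
  have f2 : ∀ g ∈ RR M₂ N m, g * w₀ = w₀ * g := by
    intro g hg
    have h3 := w.L₂_comm hg.1.2 hv₁
    have e : w₀ = m * v₂ * v₁ := by rw [hw₀, mul_assoc, c12]; group
    calc g * w₀ = g * (m * v₂) * v₁ := by rw [e]; group
      _ = m * v₂ * (g * v₁) := by rw [h2 g hg]; group
      _ = w₀ * g := by rw [h3, e]; group
  -- an element of `V` centralised by `R₁` and `R₂` is trivial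
  have fV : ∀ v ∈ zl (S : Subgroup G) P, (∀ g ∈ RR M₁ N m, g * v = v * g) →
      (∀ g ∈ RR M₂ N m, g * v = v * g) → v = 1 := by
    intro v hv k1 k2
    obtain ⟨a, ha, b, hb, rfl⟩ := w.mem_V hv
    have ha1 : a = 1 := by
      refine h.fixed ha fun g hg => ?_
      have h3 := w.L₁_comm hg.1.2 hb
      have h4 := k1 g hg
      refine mul_right_cancel (b := b) ?_
      calc g * a * b = a * b * g := by rw [mul_assoc, h4]
        _ = a * (g * b) := by rw [h3, mul_assoc]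
        _ = a * g * b := by group
    have hb1 : b = 1 := by
      refine h.symm.fixed hb fun g hg => ?_
      have h4 := k2 g hg
      rwa [ha1, one_mul] at h4
    rw [ha1, hb1, one_mul]
  -- `S₁` centralises `w₀`
  have hS : ∀ x ∈ (S : Subgroup G) ⊓ normalizer (V₁ : Set G), x * w₀ * x⁻¹ = w₀ := by
    intro x hx
    have hx' : x ∈ (S : Subgroup G) ⊓ normalizer (V₂ : Set G) := by rw [← w.S₁_eq]; exact hx
    have hxP := w.S_le hx.1
    have hxV := le_normalizer_zl (S : Subgroup G) P hxP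
    have hmx : ∀ y ∈ (S : Subgroup G) ⊓ normalizer (V₁ : Set G), y * m * y⁻¹ * m⁻¹ ∈ zl (S : Subgroup G) P := by
      intro y hy
      rcases hm.com y hy with h3 | h3
      · rw [h3, mul_inv_cancel]; exact one_mem _
      · rw [h3, mul_inv_cancel_right]
        exact mul_mem (w.V₁_le (M₁.e_mem _)) (w.V₂_le (M₂.e_mem _))
    have hmx' : x⁻¹ * m * x * m⁻¹ ∈ zl (S : Subgroup G) P := by
      have := hmx x⁻¹ (inv_mem hx)
      rwa [inv_inv] at this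
    have hmx'' : x * m * x⁻¹ * m⁻¹ ∈ zl (S : Subgroup G) P := hmx x hx
    have key : x * w₀ * x⁻¹ * w₀⁻¹ ∈ zl (S : Subgroup G) P := by
      have hv12 : v₁ * v₂ ∈ zl (S : Subgroup G) P := mul_mem hV1 hV2
      have h3 : x * (v₁ * v₂) * x⁻¹ ∈ zl (S : Subgroup G) P := (mem_normalizer_iff.1 hxV _).1 hv12
      have h4 : (v₁ * v₂)⁻¹ * (x * (v₁ * v₂) * x⁻¹) ∈ zl (S : Subgroup G) P := mul_mem (inv_mem hv12) h3
      have h5 : m * (x * (v₁ * v₂) * x⁻¹ * (v₁ * v₂)⁻¹) = x * (v₁ * v₂) * x⁻¹ * (v₁ * v₂)⁻¹ * m :=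
        (hm.comm_V (mul_mem h3 (inv_mem hv12))).symm
      have e : x * w₀ * x⁻¹ * w₀⁻¹ =
          (x * m * x⁻¹ * m⁻¹) * (x * (v₁ * v₂) * x⁻¹ * (v₁ * v₂)⁻¹) := by
        calc x * w₀ * x⁻¹ * w₀⁻¹ = (x * m * x⁻¹) * (x * (v₁ * v₂) * x⁻¹ * (v₁ * v₂)⁻¹) * m⁻¹ := by
              rw [hw₀]; group
          _ = (x * m * x⁻¹ * m⁻¹) * (m * (x * (v₁ * v₂) * x⁻¹ * (v₁ * v₂)⁻¹)) * m⁻¹ := by group
          _ = _ := by rw [h5]; group
      rw [e]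
      exact mul_mem hmx'' (mul_mem h3 (inv_mem hv12))
    have cj1 : ∀ g ∈ RR M₁ N m, g * (x * w₀ * x⁻¹) = x * w₀ * x⁻¹ * g := by
      intro g hg
      have h3 : x⁻¹ * g * x ∈ RR M₁ N m := by
        have := h.conj_RR (k := x⁻¹) (inv_mem hxP) (inv_mem hx.2) (by rw [inv_inv]; exact hmx'') hg
        rwa [inv_inv] at this
      have h4 := f1 _ h3
      calc g * (x * w₀ * x⁻¹) = x * ((x⁻¹ * g * x) * w₀) * x⁻¹ := by group
        _ = x * (w₀ * (x⁻¹ * g * x)) * x⁻¹ := by rw [h4]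
        _ = x * w₀ * x⁻¹ * g := by group
    have cj2 : ∀ g ∈ RR M₂ N m, g * (x * w₀ * x⁻¹) = x * w₀ * x⁻¹ * g := by
      intro g hg
      have h3 : x⁻¹ * g * x ∈ RR M₂ N m := by
        have := h.symm.conj_RR (k := x⁻¹) (inv_mem hxP) (inv_mem hx'.2) (by rw [inv_inv]; exact hmx'') hg
        rwa [inv_inv] at this
      have h4 := f2 _ h3
      calc g * (x * w₀ * x⁻¹) = x * ((x⁻¹ * g * x) * w₀) * x⁻¹ := by group
        _ = x * (w₀ * (x⁻¹ * g * x)) * x⁻¹ := by rw [h4]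
        _ = x * w₀ * x⁻¹ * g := by group
    have hcom : ∀ {g a b : G}, g * a = a * g → g * b = b * g → g * (a * b⁻¹) = a * b⁻¹ * g := by
      intro g a b ha hb
      have hb' : g * b⁻¹ = b⁻¹ * g := by
        calc g * b⁻¹ = b⁻¹ * (b * g) * b⁻¹ := by group
          _ = b⁻¹ * (g * b) * b⁻¹ := by rw [hb]
          _ = b⁻¹ * g := by group
      rw [← mul_assoc, ha, mul_assoc, hb', mul_assoc]
    have h6 := fV _ key (fun g hg => hcom (cj1 g hg) (f1 g hg)) fun g hg => hcom (cj2 g hg) (f2 g hg)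
    rwa [mul_inv_eq_one] at h6
  -- `w₀ ∈ Ω₁(Z(S₁)) ≤ V`
  have hwS : w₀ ∈ (S : Subgroup G) ⊓ normalizer (V₁ : Set G) :=
    mul_mem (mul_mem hm.mem (w.V₁_le_S₁ hv₁)) (w.V₂_le_S₁ hv₂)
  have hw2 : w₀ * w₀ = 1 := by
    calc w₀ * w₀ = m * v₁ * (v₂ * m) * (v₁ * v₂) := by rw [hw₀]; group
      _ = m * (v₁ * m) * (v₂ * (v₁ * v₂)) := by rw [cm2]; group
      _ = (m * m) * v₁ * (v₂ * (v₂ * v₁)) := by rw [cm1, c12]; group
      _ = (m * m) * v₁ * ((v₂ * v₂) * v₁) := by group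
      _ = 1 := by rw [hm.sq, M₂.sq hv₂, one_mul]; exact M₁.sq hv₁
  have hz : w₀ ∈ zc ((S : Subgroup G) ⊓ normalizer (V₁ : Set G)) := by
    refine mem_zc.2 ⟨hwS, fun b hb => ?_, by rw [pow_two]; exact hw2⟩
    have := hS b hb
    rwa [mul_inv_eq_iff_eq_mul] at this
  have hwV : w₀ ∈ zl (S : Subgroup G) P := by
    rcases w.zS₁_le hz with h3 | h3 | h3 | h3
    · rw [h3]; exact one_mem _
    · rw [h3]; exact w.V₁_le (M₁.e_mem _)
    · rw [h3]; exact w.V₂_le (M₂.e_mem _)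
    · rw [h3]; exact mul_mem (w.V₁_le (M₁.e_mem _)) (w.V₂_le (M₂.e_mem _))
  have e : m = w₀ * (v₁ * v₂)⁻¹ := by rw [hw₀]; group
  rw [e]
  exact mul_mem hwV (inv_mem (mul_mem hV1 hV2))

end md

/-! ### Offenders -/

section off

variable [Finite G] (w : Wr S P M₁ M₂)

/-- Offenders in `S` act on the factors as subgroups of `⟨(0 1), (2 3)⟩`, and contain a transposition of one factor. -/
def OffW (_ : Wr S P M₁ M₂) : Prop :=
  ∀ A : Subgroup G, A ≤ (S : Subgroup G) → Off (zl (S : Subgroup G) P) A →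
    (∀ a ∈ A, (∃ p, TTp p ∧ M₁.Ind a p) ∧ ∃ q, TTp q ∧ M₂.Ind a q) ∧
      ((∃ b ∈ A ⊓ L₁, ∃ i j, i ≠ j ∧ M₁.Ind b (Equiv.swap i j)) ∨
        ∃ b ∈ A ⊓ L₂, ∃ i j, i ≠ j ∧ M₂.Ind b (Equiv.swap i j))

include w

/-- the elements of `𝒜(S)` centralise `n` and normalise `V₁` -/
theorem comm_of_AA (hoff : OffW w) {A : Subgroup G} (hA : A ∈ Cfsg.Agent.ZN.ChoiceBase.AA (S : Subgroup G)) {a : G}
    (ha : a ∈ A) : a * M₁.e nn = M₁.e nn * a ∧ a ∈ normalizer (V₁ : Set G) := by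
  by_cases hn : A ≤ o2 P
  · have h1 : ∀ v ∈ V₁, a * v = v * a := fun v hv => JPush.comm_V w.hG w.star (hn ha) (w.V₁_le hv)
    exact ⟨h1 _ (M₁.e_mem _), centralizer_le_normalizer _ (mem_centralizer_iff.2 fun v hv => (h1 v hv).symm)⟩
  · obtain ⟨⟨p, hp, hi⟩, -⟩ := (hoff A hA.2.1 (JPush.off w.hG w.star hA hn)).1 a ha
    exact ⟨(hi.commute_iff _).2 (Or.inl (ttp_nn p hp)), hi.mem_normalizer⟩

/-- `J(S) ≤ S₁` -/
theorem jj_le_S₁ (hoff : OffW w) : jj (S : Subgroup G) ≤ (S : Subgroup G) ⊓ normalizer (V₁ : Set G) := by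
  rw [Cfsg.Agent.ZN.ChoiceBase.jj_eq]
  exact sSup_le fun A hA a ha => ⟨hA.2.1 ha, (w.comm_of_AA hoff hA ha).2⟩

/-- `n ∈ Ω₁(Z(J(S)))` -/
theorem n_mem_zj (hoff : OffW w) (hno : NoOver (zl (S : Subgroup G) P) P) : M₁.e nn ∈ zj (S : Subgroup G) := by
  refine Cfsg.Agent.ZN.ChoiceBase.mem_zj.2 ⟨JPush.V_le_jj w.hG w.star hno (w.V₁_le (M₁.e_mem _)), e_sq' M₁ nn, fun y hy => ?_⟩
  have h1 : jj (S : Subgroup G) ≤ centralizer ({M₁.e nn} : Set G) := by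
    rw [Cfsg.Agent.ZN.ChoiceBase.jj_eq]
    exact sSup_le fun A hA a ha => mem_C.2 (w.comm_of_AA hoff hA ha).1
  exact mem_C.1 (h1 hy)

/-- **THEOREM TRI-J** (helper644): in the triangle `J(S) ≤ O₂(P)`. -/
theorem jj_le_of_tri (hoff : OffW w) (hno : NoOver (zl (S : Subgroup G) P) P)
    (htri : 2 ∣ ((S : Subgroup G) ⊓ normalizer (V₁ : Set G)).relIndex (centralizer ({M₁.e ss} : Set G))) :
    jj (S : Subgroup G) ≤ o2 P := by
  by_contra hJ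
  obtain ⟨u, hu, hcom, x, hx, hxm⟩ := w.exists_m htri
  set m := u * M₁.e nn * u⁻¹ with hm
  have hMD : MD w m := by
    refine ⟨(mem_normalizer_iff.1 hu _).1 (w.V₁_le_S₁ (M₁.e_mem nn)), ?_, hcom⟩
    calc m * m = u * (M₁.e nn * M₁.e nn) * u⁻¹ := by rw [hm]; group
      _ = 1 := by rw [M₁.e_sq]; group
  -- `m ∈ Z_J`
  have hjj := w.jj_le_S₁ hoff
  have hzj : zj ((S : Subgroup G) ⊓ normalizer (V₁ : Set G)) = zj (S : Subgroup G) :=
    Cfsg.Agent.ZN.zj_eq_of_le hjj inf_le_left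
  have hmz : m ∈ zj (S : Subgroup G) := by
    have h1 := w.n_mem_zj hoff hno
    rw [← hzj] at h1 ⊢
    exact (mem_normalizer_iff.1 (Cfsg.Agent.ZN.normalizer_le_normalizer_zj _ hu) _).1 h1
  obtain ⟨N, hNP, hPN, -, hJN, hN⟩ := JPush.exists_push w.hG w.star hno hJ
  have hcomN : ∀ g ∈ N, g * m * g⁻¹ * m⁻¹ ∈ zl (S : Subgroup G) P := fun g hg =>
    hN g hg m (JPush.zj_le w.hG w.star hno hmz)
  have hmV : m ∈ zl (S : Subgroup G) P := by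
    obtain ⟨A, hA, hn⟩ : ∃ A ∈ Cfsg.Agent.ZN.ChoiceBase.AA (S : Subgroup G), ¬ A ≤ o2 P := by
      by_contra hc
      push Not at hc
      apply hJ
      rw [Cfsg.Agent.ZN.ChoiceBase.jj_eq]
      exact sSup_le hc
    have hAN : A ≤ N := (Cfsg.Agent.ZN.ChoiceBase.le_jj hA).trans hJN
    rcases (hoff A hA.2.1 (JPush.off w.hG w.star hA hn)).2 with ⟨b, hb, i, j, hij, hi⟩ | ⟨b, hb, i, j, hij, hi⟩
    · exact (NH.mem (w := w) (N := N) ⟨hNP, hPN, hcomN, b, ⟨hAN hb.1, hb.2⟩, i, j, hij, hi⟩ hMD)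
    · exact (NH.mem (w := w.symm) (N := N) ⟨hNP, hPN, hcomN, b, ⟨hAN hb.1, hb.2⟩, i, j, hij, hi⟩ hMD.symm)
  exact hxm (by rw [hMD.comm_of_mem hmV hx, mul_inv_cancel_right])

end off

end Wr

/-! ### From `SymK` -/

section symk

open Cfsg.Agent.Omega.IId.LFour.SymF

variable [Finite G] {S : Sylow 2 G} {P : Subgroup G}

theorem inv_app {α : Type*} (ρ : Equiv.Perm α) (x : α) : ρ⁻¹ (ρ x) = x := ρ.symm_apply_apply x

theorem app_inv {α : Type*} (ρ : Equiv.Perm α) (x : α) : ρ (ρ⁻¹ x) = x := ρ.apply_symm_apply x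

theorem relabel_ind_of_acts {T H V : Subgroup G} {k : ℕ} (M : SymK T H V ⊥ k 2) (hA : Amb T H V) {g : G}
    (hg : g ∈ H) {τ : Fin k → Equiv.Perm (Fin 5)} (h : ActsSym M.e V g 1 τ) (l : Fin k)
    (ρ : Equiv.Perm (Fin 5)) : ((md M hA l).relabel ρ).Ind g (ρ⁻¹ * τ l * ρ) := by
  intro x
  have h1 : g * lab M (by norm_num) l (x ∘ ρ.symm) * g⁻¹ =
      lab M (by norm_num) ((1 : Equiv.Perm (Fin k)) l) ((x ∘ ρ.symm) ∘ (τ l).symm) :=
    conj_lab M _ (hA.HV hg) h l (x ∘ ρ.symm)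
  refine h1.trans ?_
  change lab M (by norm_num : 1 ≤ 2) l _ = lab M (by norm_num : 1 ≤ 2) l (_ ∘ ρ.symm)
  congr 1
  funext z
  change x (ρ⁻¹ ((τ l)⁻¹ z)) = x ((ρ⁻¹ * τ l * ρ)⁻¹ (ρ⁻¹ z))
  rw [← Equiv.Perm.mul_apply, ← Equiv.Perm.mul_apply]
  congr 2
  group

/-- the offenders of `SymK S P V ⊥ 2 2` -/
theorem offW_of (hG : IsCharacteristicTwoType G) (hP : IsParS (S : Subgroup G) P)
    (M : SymK (S : Subgroup G) P (zl (S : Subgroup G) P) ⊥ 2 2) {i j : Fin 2} (hij : i ≠ j)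
    {σ₁ σ₂ : Equiv.Perm (Fin 5)} (w : Wr S P ((md M (amb_of_loc hG S hP.isLoc) i).relabel σ₁)
      ((md M (amb_of_loc hG S hP.isLoc) j).relabel σ₂)) : w.OffW := by
  classical
  intro A hAS hoff
  have hA := amb_of_loc hG S hP.isLoc
  have hSP : (S : Subgroup G) ≤ P := hP.isLoc.le
  obtain ⟨-, hact⟩ := M.off A hAS hoff
  have key : ∀ {l : Fin 2} {ρ : Equiv.Perm (Fin 5)}
      (_ : ∀ g ∈ (S : Subgroup G), ∀ p, ((md M hA l).relabel ρ).Ind g p → p * dd = dd * p)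
      {a : G} (_ : a ∈ A), ∃ p, TTp p ∧ ((md M hA l).relabel ρ).Ind a p := by
    intro l ρ hd a ha
    obtain ⟨τ, h1, h2⟩ := hact a ha
    refine ⟨ρ⁻¹ * τ l * ρ, ttp_of_swaps _ fun x hx => ?_, relabel_ind_of_acts M hA (hSP (hAS ha)) h1 l ρ⟩
    have hx' : τ l (ρ x) ≠ ρ x := by
      intro h3
      apply hx
      rw [Equiv.Perm.mul_apply, Equiv.Perm.mul_apply, h3, inv_app]
    obtain ⟨h4, b, hb, h5⟩ := h2 l (ρ x) hx'
    refine ⟨?_, ?_⟩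
    · change ρ⁻¹ (τ l (ρ (ρ⁻¹ (τ l (ρ x))))) = x
      rw [app_inv, h4, inv_app]
    · have h6 := relabel_ind_of_acts M hA (hSP (hAS hb)) h5 l ρ
      rw [Function.update_self] at h6
      have h7 := hd b (hAS hb) _ h6
      have e : ρ⁻¹ * Equiv.swap (ρ x) (τ l (ρ x)) * ρ = Equiv.swap x ((ρ⁻¹ * τ l * ρ) x) := by
        have h8 := Equiv.swap_apply_apply ρ⁻¹ (ρ x) (τ l (ρ x))
        rw [inv_app, inv_inv] at h8
        rw [← h8]
        rfl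
      rwa [e] at h7
  refine ⟨fun a ha => ⟨key (fun g hg p => w.dS hSP hg) ha, key (fun g hg p => w.symm.dS hSP hg) ha⟩, ?_⟩
  -- a transposition
  have hex : ∃ (l : Fin 2) (b : G) (_ : b ∈ A) (x y : Fin 5), x ≠ y ∧
      ActsSym M.e (zl (S : Subgroup G) P) b 1 (Function.update 1 l (Equiv.swap x y)) := by
    by_contra hcon
    push Not at hcon
    apply hoff.ne
    intro a ha
    obtain ⟨τ, h1, h2⟩ := hact a ha
    have hτ : ∀ l x, τ l x = x := by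
      intro l x
      by_contra hx
      obtain ⟨h4, b, hb, h5⟩ := h2 l x hx
      exact hcon l b hb x (τ l x) (Ne.symm hx) h5
    rw [mem_centralizer_iff]
    intro v hv
    have h3 : a * v * a⁻¹ = v := by
      refine SymF.inj M (hA.conj_mem (hSP (hAS ha)) hv) hv ?_
      funext l x
      have := h1 v hv l x
      rw [hτ] at this
      exact this
    calc v * a = a * v * a⁻¹ * a := by rw [h3]
      _ = a * v := by group
  obtain ⟨l, b, hb, x, y, hxy, hact'⟩ := hex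
  have hbP := hSP (hAS hb)
  have tr : ∀ {l l' : Fin 2} {ρ ρ' : Equiv.Perm (Fin 5)} (_ : l ≠ l')
      (_ : ActsSym M.e (zl (S : Subgroup G) P) b 1 (Function.update 1 l (Equiv.swap x y))),
      ((md M hA l).relabel ρ).Ind b (Equiv.swap (ρ⁻¹ x) (ρ⁻¹ y)) ∧
        ((md M hA l').relabel ρ').Ind b 1 := by
    intro l l' ρ ρ' hll h
    have h1 := relabel_ind_of_acts M hA hbP h l ρ
    have h2 := relabel_ind_of_acts M hA hbP h l' ρ'
    rw [Function.update_self] at h1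
    rw [Function.update_of_ne (Ne.symm hll)] at h2
    refine ⟨?_, ?_⟩
    · have h8 := Equiv.swap_apply_apply ρ⁻¹ x y
      rw [inv_inv] at h8
      rw [h8]
      exact h1
    · have e : ρ'⁻¹ * (1 : Fin 2 → Equiv.Perm (Fin 5)) l' * ρ' = 1 := by
        rw [Pi.one_apply]; group
      rwa [e] at h2
  by_cases hl : l = i
  · subst hl
    left
    obtain ⟨h1, h2⟩ := tr (ρ := σ₁) (ρ' := σ₂) hij hact'
    refine ⟨b, ⟨hb, w.mem_L₁ hbP fun v hv => ?_⟩, σ₁⁻¹ x, σ₁⁻¹ y, fun h => hxy (σ₁⁻¹.injective h), h1⟩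
    exact (mem_centralizer_iff.1 (FiveMod.ind_one_iff.1 h2) v hv).symm
  · have hl' : l = j := by omega
    subst hl'
    right
    obtain ⟨h1, h2⟩ := tr (ρ := σ₂) (ρ' := σ₁) hij.symm hact'
    refine ⟨b, ⟨hb, w.mem_L₂ hbP fun v hv => ?_⟩, σ₂⁻¹ x, σ₂⁻¹ y, fun h => hxy (σ₂⁻¹.injective h), h1⟩
    exact (mem_centralizer_iff.1 (FiveMod.ind_one_iff.1 h2) v hv).symm

/-- **THEOREM TRI-J for `SymK S P V ⊥ 2 2`.** -/
theorem jj_le_of_tri (hG : IsCharacteristicTwoType G) (hP : IsParS (S : Subgroup G) P)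
    (hno : NoOver (zl (S : Subgroup G) P) P)
    (M : SymK (S : Subgroup G) P (zl (S : Subgroup G) P) ⊥ 2 2) {i j : Fin 2} (hij : i ≠ j)
    {σ₁ σ₂ : Equiv.Perm (Fin 5)} (w : Wr S P ((md M (amb_of_loc hG S hP.isLoc) i).relabel σ₁)
      ((md M (amb_of_loc hG S hP.isLoc) j).relabel σ₂))
    (htri : 2 ∣ ((S : Subgroup G) ⊓ normalizer (fac M i : Set G)).relIndex
      (centralizer ({((md M (amb_of_loc hG S hP.isLoc) i).relabel σ₁).e ss} : Set G))) :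
    jj (S : Subgroup G) ≤ o2 P :=
  w.jj_le_of_tri (offW_of hG hP M hij w) hno htri

end symk

end Cfsg.Agent.Omega.IId.LFour
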